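/-
Special unitary groups in degree three: generation by transvections, and a chord criterion.
-/
import Cfsg.Agent.Lib.Classical.UnitarySmallDim
import Cfsg.Agent.Lib.Classical.UnitaryOvergroup
import Cfsg.Agent.Lib.Classical.UMaximalInSL

set_option autoImplicit false
set_option linter.unusedSectionVars false

namespace Cfsg.Agent.Classical.UThree

open Matrix Cfsg.Geo
open Cfsg.Agent.Classical
open Cfsg.Agent.Classical.UOver (Tv tv_unique tv_conj tv_smul tv_mem)

variable {F : Type*} [Field F] [Fintype F] {q : ℕ} {σ : F ≃+* F}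

/-- A hyperbolic pair in the orthogonal plane of `e`. -/
structure Pair (q : ℕ) (e u v : Fin 3 → F) : Prop where
  uu : hermForm 3 F q u u = 0
  vv : hermForm 3 F q v v = 0
  uv : hermForm 3 F q u v = 1
  vu : hermForm 3 F q v u = 1
  ue : hermForm 3 F q u e = 0
  ve : hermForm 3 F q v e = 0
  span : ∀ w, hermForm 3 F q w e = 0 → w = hermForm 3 F q w v • u + hermForm 3 F q w u • v

variable (hσ : IsUSigma q σ)

include hσ

theorem sf : IsSemiForm σ (hermForm 3 F q) := semiForm_of_unitary hσ.isUnitaryForm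

theorem swp (x y : Fin 3 → F) : hermForm 3 F q y x = σ (hermForm 3 F q x y) := hσ.isUnitaryForm.herm y x

theorem orth_swp {x y : Fin 3 → F} (h : hermForm 3 F q x y = 0) : hermForm 3 F q y x = 0 := by
  rw [swp hσ x y, h, map_zero]

/-- Transvections generate. -/
theorem suGL_le_three (h3 : 3 ≤ q) {K : Subgroup (GL (Fin 3) F)}
    (h : ∀ (v : Fin 3 → F) (c : F), hermForm 3 F q v v = 0 → c + σ c = 0 → ∀ g, Tv q g v c → g ∈ K) :
    suGL 3 F q ≤ K := by
  let S : Set (GL (Fin 3) F) := {g | ∃ (v : Fin 3 → F) (c : F), hermForm 3 F q v v = 0 ∧ c + σ c = 0 ∧ Tv q g v c}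
  have hS : Subgroup.closure S ≤ suGL 3 F q := (Subgroup.closure_le _).mpr
    fun g ⟨v, c, hv, hc, hg⟩ => tv_mem hσ hv hc hg
  have hconj : ∀ g ∈ suGL 3 F q, ∀ x ∈ Subgroup.closure S, g * x * g⁻¹ ∈ Subgroup.closure S := by
    intro g hg x hx
    have : Subgroup.closure S ≤ (Subgroup.closure S).comap (MulAut.conj g).toMonoidHom :=
      (Subgroup.closure_le _).mpr fun t ⟨v, c, hv, hc, ht⟩ => Subgroup.subset_closure
        ⟨(g : Matrix (Fin 3) (Fin 3) F) *ᵥ v, c, (mem_GU_iff.mp hg.1 v v).trans hv, hc, tv_conj hg.1 ht⟩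
    exact this hx
  rcases (hσ.su_simple_facts le_rfl (by omega)).2 _ hS hconj with h0 | h1
  · exfalso
    obtain ⟨a, -, -, ha0, -, -, -, ha, -, -⟩ := hσ.three_values
    obtain ⟨c, hc0, hc⟩ := hσ.exists_skew
    obtain ⟨g, hg, hgv⟩ := hσ.exists_transvection
      (hσ.isotropic_pair (show (0 : Fin 3) ≠ 1 by decide) ha) hc
    obtain ⟨s, hs⟩ := (mem_scalars_iff _).mp (h0 (Subgroup.subset_closure
      ⟨_, c, hσ.isotropic_pair (show (0 : Fin 3) ≠ 1 by decide) ha, hc, hgv⟩))
    have e2 := hgv (Pi.single 0 1)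
    rw [hs, hσ.hermForm_single] at e2
    have h01 := congrFun e2 1
    simp [Matrix.smul_mulVec] at h01
    tauto
  · rw [← h1]
    exact (Subgroup.closure_le _).mpr fun g ⟨v, c, hv, hc, hg⟩ => h v c hv hc g hg

theorem decomp {e : Fin 3 → F} (he : hermForm 3 F q e e ≠ 0) (x : Fin 3 → F) :
    hermForm 3 F q (x + (-(hermForm 3 F q x e / hermForm 3 F q e e)) • e) e = 0 := by
  rw [(sf hσ).add_left, (sf hσ).smul_left, neg_mul, div_mul_cancel₀ _ he, add_neg_cancel]

/-- Two orthogonality conditions leave a nonzero vector. -/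
theorem exists_kernel (a b : Fin 3 → F) :
    ∃ w : Fin 3 → F, w ≠ 0 ∧ hermForm 3 F q w a = 0 ∧ hermForm 3 F q w b = 0 := by
  have hs := sf hσ
  let φ : (Fin 3 → F) →ₗ[F] F :=
    { toFun := fun x => hermForm 3 F q x a, map_add' := fun u v => hs.add_left u v a,
      map_smul' := fun c u => hs.smul_left c u a }
  let ψ : (Fin 3 → F) →ₗ[F] F :=
    { toFun := fun x => hermForm 3 F q x b, map_add' := fun u v => hs.add_left u v b,
      map_smul' := fun c u => hs.smul_left c u b }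
  have h2 := (φ.prod ψ).finrank_range_add_finrank_ker
  have h3 := Submodule.finrank_le (LinearMap.range (φ.prod ψ))
  rw [Module.finrank_prod, Module.finrank_self] at h3
  rw [Module.finrank_fintype_fun_eq_card, Fintype.card_fin] at h2
  have h4 : LinearMap.ker (φ.prod ψ) ≠ ⊥ := fun h => by rw [h, finrank_bot] at h2; omega
  obtain ⟨w, hw, hw0⟩ := (Submodule.ne_bot_iff _).mp h4
  rw [LinearMap.mem_ker, LinearMap.prod_apply, Prod.mk_eq_zero] at hw
  exact ⟨w, hw0, hw.1, hw.2⟩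

theorem exists_pair {e : Fin 3 → F} (he : hermForm 3 F q e e ≠ 0) : ∃ u v, Pair q e u v := by
  have hs := sf hσ
  obtain ⟨u, hu0, hue, huu⟩ : ∃ u : Fin 3 → F, u ≠ 0 ∧ hermForm 3 F q u e = 0 ∧ hermForm 3 F q u u = 0 := by
    obtain ⟨a, ha0, hae, -⟩ := exists_kernel hσ e e
    by_cases haa : hermForm 3 F q a a = 0
    · exact ⟨a, ha0, hae, haa⟩
    obtain ⟨b, hb0, hbe, hba⟩ := exists_kernel hσ e a
    by_cases hbb : hermForm 3 F q b b = 0
    · exact ⟨b, hb0, hbe, hbb⟩
    obtain ⟨t, -, ht⟩ := hσ.norm_surjective (t := -(hermForm 3 F q a a / hermForm 3 F q b b))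
      (neg_ne_zero.mpr (div_ne_zero haa hbb)) (by rw [map_neg, map_div₀, ← swp hσ, ← swp hσ])
    refine ⟨a + t • b, fun h => haa ?_, ?_, ?_⟩
    · have := congrArg (fun x => hermForm 3 F q x a) h
      simp only [hs.add_left, hs.smul_left, hba, mul_zero, add_zero] at this
      rw [this, ← zero_smul F a, hs.smul_left, zero_mul]
    · rw [hs.add_left, hs.smul_left, hae, hbe, mul_zero, add_zero]
    · rw [hs.add_left, hs.add_right, hs.add_right, hs.smul_left, hs.smul_left, hs.smul_right, hs.smul_right,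
        orth_swp hσ hba, hba, mul_zero, mul_zero, add_zero, zero_add, ← mul_assoc, ht, neg_mul,
        div_mul_cancel₀ _ hbb, add_neg_cancel]
  obtain ⟨y, hy⟩ := (hσ.isUnitaryForm.nondegenerate u hu0).2
  obtain ⟨z, hz, hze⟩ : ∃ z, hermForm 3 F q z u = 1 ∧ hermForm 3 F q z e = 0 := by
    have hyu : hermForm 3 F q y u ≠ 0 := fun h => hy (orth_swp hσ h)
    refine ⟨(hermForm 3 F q y u)⁻¹ • (y + (-(hermForm 3 F q y e / hermForm 3 F q e e)) • e), ?_, ?_⟩
    · rw [hs.smul_left, hs.add_left, hs.smul_left, orth_swp hσ hue, mul_zero, add_zero, inv_mul_cancel₀ hyu]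
    · rw [hs.smul_left, decomp hσ he, mul_zero]
  have huz : hermForm 3 F q u z = 1 := by rw [swp hσ z u, hz, map_one]
  obtain ⟨k, -, hk⟩ := UMaxSL.exists_trace (hσ.isUnitaryForm (n := 3)) (b := hermForm 3 F q z z) (swp hσ z z).symm
  refine ⟨u, z + k • u, huu, ?_, ?_, ?_, hue, ?_, fun w hw => ?_⟩
  · rw [hs.add_left, hs.add_right, hs.add_right, hs.smul_left, hs.smul_left, hs.smul_right, hs.smul_right, huu, huz, hz]
    linear_combination hk
  · rw [hs.add_right, hs.smul_right, huz, huu, mul_zero, add_zero]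
  · rw [hs.add_left, hs.smul_left, hz, huu, mul_zero, add_zero]
  · rw [hs.add_left, hs.smul_left, hze, hue, mul_zero, add_zero]
  obtain ⟨v, hv⟩ : ∃ v, v = z + k • u := ⟨_, rfl⟩
  rw [← hv]
  have hvv : hermForm 3 F q v v = 0 := by
    rw [hv, hs.add_left, hs.add_right, hs.add_right, hs.smul_left, hs.smul_left, hs.smul_right, hs.smul_right, huu, huz, hz]
    linear_combination hk
  have huv : hermForm 3 F q u v = 1 := by rw [hv, hs.add_right, hs.smul_right, huz, huu, mul_zero, add_zero]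
  have hvu : hermForm 3 F q v u = 1 := by rw [swp hσ u v, huv, map_one]
  have hve : hermForm 3 F q v e = 0 := by rw [hv, hs.add_left, hs.smul_left, hze, hue, mul_zero, add_zero]
  obtain ⟨d, hd⟩ : ∃ d, d = w + (-hermForm 3 F q w v) • u + (-hermForm 3 F q w u) • v := ⟨_, rfl⟩
  have d1 : hermForm 3 F q d v = 0 := by
    rw [hd, hs.add_left, hs.add_left, hs.smul_left, hs.smul_left, huv, hvv]; ring
  have d2 : hermForm 3 F q d u = 0 := by
    rw [hd, hs.add_left, hs.add_left, hs.smul_left, hs.smul_left, huu, hvu]; ring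
  have d3 : hermForm 3 F q d e = 0 := by
    rw [hd, hs.add_left, hs.add_left, hs.smul_left, hs.smul_left, hue, hve, hw]; ring
  have hli : LinearIndependent F ![e, u, v] := by
    rw [Fintype.linearIndependent_iff]
    intro g hg
    simp only [Fin.sum_univ_three, Matrix.cons_val_zero, Matrix.cons_val_one, Matrix.cons_val] at hg
    have h0 : ∀ x, g 0 * hermForm 3 F q e x + g 1 * hermForm 3 F q u x + g 2 * hermForm 3 F q v x = 0 := fun x => by
      rw [← hs.smul_left, ← hs.smul_left, ← hs.smul_left, ← hs.add_left, ← hs.add_left, hg, ← zero_smul F x,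
        hs.smul_left, zero_mul]
    have a0 := h0 e
    rw [hue, hve, mul_zero, mul_zero, add_zero, add_zero, mul_eq_zero, or_iff_left he] at a0
    have a1 := h0 v
    rw [a0, zero_mul, huv, hvv, mul_zero, add_zero, zero_add, mul_one] at a1
    have a2 := h0 u
    rw [a0, a1, zero_mul, zero_mul, hvu, zero_add, zero_add, mul_one] at a2
    intro i; fin_cases i <;> assumption
  have hsp := hli.span_eq_top_of_card_eq_finrank (by simp)
  by_contra hne
  have hd0 : d ≠ 0 := fun h0 => hne (by rw [hd] at h0; linear_combination (norm := module) h0)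
  obtain ⟨x, hx⟩ := (hσ.isUnitaryForm.nondegenerate d hd0).2
  refine hx ?_
  have hxx : x ∈ Submodule.span F (Set.range ![e, u, v]) := by rw [hsp]; exact Submodule.mem_top
  obtain ⟨g, rfl⟩ := (Submodule.mem_span_range_iff_exists_fun F).mp hxx
  simp only [Fin.sum_univ_three, Matrix.cons_val_zero, Matrix.cons_val_one, Matrix.cons_val, hs.add_right,
    hs.smul_right, d1, d2, d3, mul_zero, add_zero]

/-- The transvections on a chord move a vector of the plane to any other of the same norm. -/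
theorem exists_move {K : Subgroup (GL (Fin 3) F)} {e u v : Fin 3 → F} (P : Pair q e u v)
    (hK : ∀ (z : Fin 3 → F) (c : F), hermForm 3 F q z z = 0 → hermForm 3 F q z e = 0 → c + σ c = 0 →
      ∀ g, Tv q g z c → g ∈ K)
    {w w' : Fin 3 → F} (hw : hermForm 3 F q w e = 0) (hw' : hermForm 3 F q w' e = 0)
    (hn : hermForm 3 F q w w ≠ 0) (heq : hermForm 3 F q w' w' = hermForm 3 F q w w) :
    ∃ g ∈ K, (g : Matrix (Fin 3) (Fin 3) F) *ᵥ e = e ∧ (g : Matrix (Fin 3) (Fin 3) F) *ᵥ w = w' := by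
  have hs := sf hσ
  -- the elementary steps
  let R : (Fin 3 → F) → (Fin 3 → F) → Prop := fun a b =>
    ∃ g ∈ K, (g : Matrix (Fin 3) (Fin 3) F) *ᵥ e = e ∧ (g : Matrix (Fin 3) (Fin 3) F) *ᵥ a = b
  have htrans : ∀ {a b c}, R a b → R b c → R a c := fun {a b c} ⟨g, hg, g1, g2⟩ ⟨k, hk, k1, k2⟩ =>
    ⟨k * g, mul_mem hk hg, by rw [gl_mul_mulVec, g1, k1], by rw [gl_mul_mulVec, g2, k2]⟩
  have step : ∀ z, hermForm 3 F q z z = 0 → hermForm 3 F q z e = 0 → ∀ c, c + σ c = 0 → ∀ a,
      R a (a + (c * hermForm 3 F q a z) • z) := fun z hz hze c hc a => by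
    obtain ⟨g, -, hg⟩ := hσ.exists_transvection hz hc
    refine ⟨g, hK z c hz hze hc g hg, ?_, hg a⟩
    rw [hg, orth_swp hσ hze, mul_zero, zero_smul, add_zero]
  let V : F → F → (Fin 3 → F) := fun x y => x • u + y • v
  have hVu : ∀ x y, hermForm 3 F q (V x y) u = y := fun x y => by
    simp only [V, hs.add_left, hs.smul_left, P.uu, P.vu]; ring
  have hVv : ∀ x y, hermForm 3 F q (V x y) v = x := fun x y => by
    simp only [V, hs.add_left, hs.smul_left, P.uv, P.vv]; ring
  have hVn : ∀ x y, hermForm 3 F q (V x y) (V x y) = x * σ y + y * σ x := fun x y => by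
    simp only [V, hs.add_left, hs.add_right, hs.smul_left, hs.smul_right, P.uu, P.uv, P.vu, P.vv]; ring
  -- change of the first coordinate
  have mx : ∀ x x₁ y, y ≠ 0 → x₁ * σ y + y * σ x₁ = x * σ y + y * σ x → R (V x y) (V x₁ y) := fun x x₁ y hy h => by
    have hy' : σ y ≠ 0 := fun h0 => hy ((map_eq_zero σ).mp h0)
    have := step u P.uu P.ue ((x₁ - x) / y) (by
      rw [map_div₀, map_sub, div_add_div _ _ hy hy', div_eq_zero_iff]; left; linear_combination h) (V x y)
    rw [hVu, div_mul_cancel₀ _ hy] at this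
    convert this using 1
    simp only [V]; module
  have my : ∀ x y y₁, x ≠ 0 → x * σ y₁ + y₁ * σ x = x * σ y + y * σ x → R (V x y) (V x y₁) := fun x y y₁ hx h => by
    have hx' : σ x ≠ 0 := fun h0 => hx ((map_eq_zero σ).mp h0)
    have := step v P.vv P.ve ((y₁ - y) / x) (by
      rw [map_div₀, map_sub, div_add_div _ _ hx hx', div_eq_zero_iff]; left; linear_combination h) (V x y)
    rw [hVv, div_mul_cancel₀ _ hx] at this
    convert this using 1
    simp only [V]; module
  obtain ⟨ν, hν⟩ : ∃ ν, ν = hermForm 3 F q w w := ⟨_, rfl⟩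
  rw [← hν] at hn heq
  have hνσ : σ ν = ν := by rw [hν, ← swp hσ]
  have nz : ∀ x y : F, x * σ y + y * σ x = ν → x ≠ 0 ∧ y ≠ 0 := fun x y h =>
    ⟨fun h0 => hn (by rw [← h, h0]; simp), fun h0 => hn (by rw [← h, h0]; simp)⟩
  -- independent second coordinates
  have main : ∀ x y x' y', x * σ y + y * σ x = ν → x' * σ y' + y' * σ x' = ν → y' * σ y - y * σ y' ≠ 0 →
      R (V x y) (V x' y') := fun x y x' y' h h' hD => by
    obtain ⟨D, hDe⟩ : ∃ D, D = y' * σ y - y * σ y' := ⟨_, rfl⟩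
    rw [← hDe] at hD
    obtain ⟨x₁, hx₁⟩ : ∃ x₁, x₁ = ν * (y' - y) / D := ⟨_, rfl⟩
    have e1 : x₁ * D = ν * (y' - y) := by rw [hx₁, div_mul_cancel₀ _ hD]
    have e2 : σ x₁ * D = -(ν * (σ y' - σ y)) := by
      have := congrArg σ e1
      rw [map_mul, map_mul, hνσ, map_sub, hDe, map_sub, map_mul, map_mul, hσ.involutive, hσ.involutive] at this
      rw [hDe]; linear_combination -this
    have a1 : x₁ * σ y + y * σ x₁ = ν := mul_right_cancel₀ hD (by linear_combination σ y * e1 + y * e2 - ν * hDe)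
    have a2 : x₁ * σ y' + y' * σ x₁ = ν := mul_right_cancel₀ hD (by linear_combination σ y' * e1 + y' * e2 - ν * hDe)
    exact htrans (mx x x₁ y (nz x y h).2 (a1.trans h.symm)) (htrans (my x₁ y y' (nz x₁ y a1).1 (a2.trans a1.symm))
      (mx x₁ x' y' (nz x' y' h').2 (h'.trans a2.symm)))
  obtain ⟨x, y, hxy⟩ : ∃ x y, w = V x y := ⟨_, _, P.span w hw⟩
  obtain ⟨x', y', hxy'⟩ : ∃ x y, w' = V x y := ⟨_, _, P.span w' hw'⟩
  rw [hxy, hVn] at hν
  rw [hxy', hVn] at heq
  rw [hxy, hxy']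
  by_cases hD : y' * σ y - y * σ y' = 0
  · obtain ⟨c, hc0, hc⟩ := hσ.exists_skew
    have hx := nz x y hν.symm
    have hy' := nz x' y' heq
    have hn' : x * σ (y + c * x) + (y + c * x) * σ x = ν := by
      rw [map_add, map_mul]; linear_combination x * σ x * hc - hν
    refine htrans (my x y (y + c * x) hx.1 (hn'.trans hν)) (main _ _ _ _ hn' heq fun h => ?_)
    rw [map_add, map_mul] at h
    have h1 : c * (x * σ y' + y' * σ x) = 0 := by linear_combination -h + hD + y' * σ x * hc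
    have h2 : σ y * (x * σ y' + y' * σ x) = σ y' * ν := by linear_combination σ x * hD - σ y' * hν
    rw [mul_eq_zero, or_iff_right hc0] at h1
    rw [h1, mul_zero, eq_comm, mul_eq_zero, or_iff_left hn] at h2
    exact hy'.2 ((map_eq_zero σ).mp h2)
  · exact main x y x' y' hν.symm heq hD

/-- The chord criterion: all transvections on a chord and an element moving it give everything. -/
theorem full_of_chord (h3 : 3 ≤ q) {K : Subgroup (GL (Fin 3) F)} (hKS : K ≤ suGL 3 F q) {e : Fin 3 → F}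
    (he : hermForm 3 F q e e ≠ 0)
    (hK : ∀ (z : Fin 3 → F) (c : F), hermForm 3 F q z z = 0 → hermForm 3 F q z e = 0 → c + σ c = 0 →
      ∀ g, Tv q g z c → g ∈ K)
    {g : GL (Fin 3) F} (hg : g ∈ K) (hmove : ∀ a : F, (g : Matrix (Fin 3) (Fin 3) F) *ᵥ e ≠ a • e) :
    suGL 3 F q ≤ K := by
  have hs := sf hσ
  obtain ⟨u, v, P⟩ := exists_pair hσ he
  have hgU := mem_GU_iff.mp (hKS hg).1
  obtain ⟨N, hN⟩ : ∃ N, N = hermForm 3 F q e e := ⟨_, rfl⟩
  rw [← hN] at he
  -- an isotropic point of the chord leaving it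
  obtain ⟨r, hr, hre, hgr⟩ : ∃ r, hermForm 3 F q r r = 0 ∧ hermForm 3 F q r e = 0 ∧
      hermForm 3 F q ((g : Matrix (Fin 3) (Fin 3) F) *ᵥ r) e ≠ 0 := by
    by_contra hcon
    push Not at hcon
    obtain ⟨b, hb⟩ : ∃ b, b = ((g⁻¹ : GL (Fin 3) F) : Matrix (Fin 3) (Fin 3) F) *ᵥ e := ⟨_, rfl⟩
    have hgb : (g : Matrix (Fin 3) (Fin 3) F) *ᵥ b = e := by rw [hb, gl_mulVec_inv_cancel]
    have hu0 := hcon u P.uu P.ue
    have hv0 := hcon v P.vv P.ve
    rw [← hgb, hgU] at hu0 hv0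
    obtain ⟨d, hd⟩ : ∃ d, d = b + (-(hermForm 3 F q b e / N)) • e := ⟨_, rfl⟩
    have hd0 : hermForm 3 F q d e = 0 := by rw [hd, hN]; exact decomp hσ (hN ▸ he) b
    have := P.span d hd0
    have z1 : hermForm 3 F q d v = 0 := by
      rw [hd, hs.add_left, hs.smul_left, orth_swp hσ hv0, orth_swp hσ P.ve, mul_zero, add_zero]
    have z2 : hermForm 3 F q d u = 0 := by
      rw [hd, hs.add_left, hs.smul_left, orth_swp hσ hu0, orth_swp hσ P.ue, mul_zero, add_zero]
    rw [z1, z2, zero_smul, zero_smul, add_zero, hd] at this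
    have hbe : b = (hermForm 3 F q b e / N) • e := by linear_combination (norm := module) this
    have hk0 : hermForm 3 F q b e / N ≠ 0 := fun h0 => by
      rw [h0, zero_smul] at hbe
      rw [hbe, Matrix.mulVec_zero] at hgb
      rw [← hgb] at hN
      exact he (by rw [hN, ← zero_smul F (0 : Fin 3 → F), hs.smul_left, zero_mul])
    refine hmove (hermForm 3 F q b e / N)⁻¹ ?_
    obtain ⟨k, hk⟩ : ∃ k, k = hermForm 3 F q b e / N := ⟨_, rfl⟩
    rw [← hk] at hbe hk0 ⊢
    rw [hbe, Matrix.mulVec_smul] at hgb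
    rw [eq_inv_smul_iff₀ hk0]
    exact hgb
  obtain ⟨p, hp⟩ : ∃ p, p = (g : Matrix (Fin 3) (Fin 3) F) *ᵥ r := ⟨_, rfl⟩
  rw [← hp] at hgr
  have hpp : hermForm 3 F q p p = 0 := by rw [hp, hgU, hr]
  -- normalise an isotropic point off the chord
  have norm : ∀ z, hermForm 3 F q z z = 0 → hermForm 3 F q z e ≠ 0 → ∃ (a : F) (w : Fin 3 → F), a ≠ 0 ∧ hermForm 3 F q w e = 0 ∧
      hermForm 3 F q w w = -N ∧ z = a • (e + w) := fun z hz hze => by
    obtain ⟨a, ha⟩ : ∃ a, a = hermForm 3 F q z e / N := ⟨_, rfl⟩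
    have ha0 : a ≠ 0 := ha ▸ div_ne_zero hze he
    have hw : hermForm 3 F q (a⁻¹ • z + (-1 : F) • e) e = 0 := by
      rw [hs.add_left, hs.smul_left, hs.smul_left, ← hN, ha]; field_simp; ring
    refine ⟨a, _, ha0, hw, ?_, ?_⟩
    · rw [hs.add_left, hs.add_right, hs.add_right, hs.smul_left, hs.smul_left, hs.smul_right, hs.smul_right,
        hs.smul_left, hs.smul_left, hs.smul_right, hs.smul_right, hz, ← hN, map_neg, map_one, map_inv₀,
        swp hσ z e]
      rw [show hermForm 3 F q z e = a * N by rw [ha, div_mul_cancel₀ _ he], map_mul, show σ N = N by rw [hN, ← swp hσ]]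
      have hσa : σ a * (σ a)⁻¹ = 1 := mul_inv_cancel₀ fun h0 => ha0 ((map_eq_zero σ).mp h0)
      field_simp
      linear_combination (norm := ring_nf) (-(a * N)) * hσa
    · rw [smul_add, smul_add, smul_smul, smul_smul, mul_inv_cancel₀ ha0, one_smul]; module
  refine suGL_le_three hσ h3 fun z c hz hc t ht => ?_
  by_cases hze : hermForm 3 F q z e = 0
  · exact hK z c hz hze hc t ht
  obtain ⟨a, w, ha, hw, hww, hpe⟩ := norm p hpp hgr
  obtain ⟨a', w', ha', hw', hww', hze'⟩ := norm z hz hze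
  obtain ⟨k, hk, hk1, hk2⟩ := exists_move hσ P hK hw hw' (by rw [hww]; exact neg_ne_zero.mpr he) (hww'.trans hww.symm)
  obtain ⟨m, hm⟩ : ∃ m, m = k * g := ⟨_, rfl⟩
  have hmK : m ∈ K := hm ▸ mul_mem hk hg
  have hmr : (m : Matrix (Fin 3) (Fin 3) F) *ᵥ r = (a / a') • z := by
    rw [hm, gl_mul_mulVec, ← hp, hpe, Matrix.mulVec_smul, Matrix.mulVec_add, hk1, hk2, hze', smul_smul,
      div_mul_cancel₀ _ ha']
  obtain ⟨s, hs'⟩ : ∃ s, s = a / a' := ⟨_, rfl⟩
  have hs0 : s ≠ 0 := hs' ▸ div_ne_zero ha ha'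
  have hσs : σ s ≠ 0 := fun h0 => hs0 ((map_eq_zero σ).mp h0)
  rw [← hs'] at hmr
  obtain ⟨c', hc'⟩ : ∃ c', c' = c / (s * σ s) := ⟨_, rfl⟩
  have hcc : c' + σ c' = 0 := by
    rw [hc', map_div₀, map_mul, hσ.involutive, mul_comm (σ s) s, ← add_div, hc, zero_div]
  obtain ⟨t₀, -, ht₀⟩ := hσ.exists_transvection hr hcc
  have hconj := tv_conj (hKS hmK).1 (show Tv q t₀ r c' from ht₀)
  rw [hmr] at hconj
  have h1 := tv_smul hσ s hconj
  rw [show c' * s * σ s = c by rw [hc', mul_assoc, div_mul_cancel₀ _ (mul_ne_zero hs0 hσs)]] at h1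
  rw [tv_unique ht h1]
  exact mul_mem (mul_mem hmK (hK r c' hr hre hcc t₀ ht₀)) (inv_mem hmK)

end Cfsg.Agent.Classical.UThree
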