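/-
The normaliser of an extraspecial group of order twenty-seven in the special unitary group of degree three.
-/
import Cfsg.Agent.Lib.Classical.LinThree.HessMax
import Cfsg.Agent.Lib.Classical.UThree.Basic

set_option autoImplicit false
set_option linter.unusedSectionVars false
set_option linter.style.haveILetI false
set_option maxHeartbeats 400000

namespace Cfsg.Agent.Classical.UThree.Hess

open Matrix Module Cfsg.Geo
open Cfsg.Agent.Classical
open Cfsg.Agent.Classical.LinThree.Hess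
open Cfsg.Agent.Classical.UOver (Tv tv_unique tv_conj tv_smul tv_mem)

universe u

variable {F : Type u} [Field F] [Fintype F] {p q : ℕ} {σ : F ≃+* F} {ω : F}

/-- The fixed field is the prime field. -/
theorem nat_of_fixed (hσ : IsUSigma q σ) [CharP F p] (hp : p.Prime) (hqp : q = p) {x : F} (hx : σ x = x) :
    ∃ j : ℕ, (j : F) = x := by
  classical
  haveI := Fact.mk hp
  haveI : CharP (fixedField σ) p := RingHom.charP (fixedField σ).subtype (fixedField σ).subtype.injective p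
  have hb : Function.Bijective (ZMod.castHom (dvd_refl p) (fixedField σ)) := by
    haveI : Fintype (fixedField σ) := Fintype.ofFinite _
    refine (Fintype.bijective_iff_injective_and_card _).mpr ⟨RingHom.injective _, ?_⟩
    rw [ZMod.card, ← Nat.card_eq_fintype_card, hσ.card_fixed, hqp]
  obtain ⟨z, hz⟩ := hb.2 ⟨x, mem_fixedField.mpr hx⟩
  refine ⟨z.val, ?_⟩
  have h2 : ((z.val : ℕ) : fixedField σ) = ⟨x, mem_fixedField.mpr hx⟩ := by
    rw [← hz, ← map_natCast (ZMod.castHom (dvd_refl p) (fixedField σ)), ZMod.natCast_zmod_val]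
  have h := congrArg (fixedField σ).subtype h2
  rwa [map_natCast] at h

/-- The standard matrices are unitary. -/
theorem unitary_std (hσ : IsUSigma q σ) (hω : Om ω) (hσω : σ ω = ω * ω) :
    (∀ e x y, hermForm 3 F q (rm ω e *ᵥ x) (rm ω e *ᵥ y) = hermForm 3 F q x y) ∧
    (∀ e x y, hermForm 3 F q (Tm ω e *ᵥ x) (Tm ω e *ᵥ y) = hermForm 3 F q x y) ∧
    (∀ k x y, hermForm 3 F q (qm ω k *ᵥ x) (qm ω k *ᵥ y) = hermForm 3 F q x y) ∧
    (∀ c x y, hermForm 3 F q ((pw ω c • (1 : Matrix (Fin 3) (Fin 3) F)) *ᵥ x)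
      ((pw ω c • (1 : Matrix (Fin 3) (Fin 3) F)) *ᵥ y) = hermForm 3 F q x y) := by
  have hc := hω.cube
  have hh : ∀ x y : Fin 3 → F, hermForm 3 F q x y = x 0 * σ (y 0) + x 1 * σ (y 1) + x 2 * σ (y 2) := fun x y => by
    simp [hermForm, Fin.sum_univ_three, hσ.apply_eq]
  refine ⟨fun e x y => ?_, fun e x y => ?_, fun k x y => ?_, fun c x y => ?_⟩
  · rw [hh, hh]
    obtain ⟨a, b⟩ := e
    fin_cases a <;> fin_cases b <;>
      simp [rm, mono, Matrix.mulVec, dotProduct, Fin.sum_univ_three, pw_zero, pw_one_val, pw_two_val, fin_three_facts,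
        hσω] <;> grind
  · rw [hh, hh]
    obtain ⟨a, b⟩ := e
    fin_cases a <;> fin_cases b <;>
      simp [Tm, mono, Matrix.mulVec, dotProduct, Fin.sum_univ_three, pw_zero, pw_one_val, pw_two_val, fin_three_facts,
        hσω] <;> grind
  · rw [hh, hh]
    have hg := hω.gauss_ne
    have hg2 := hω.gauss_sq
    have hσg : σ (ω - ω * ω) = -(ω - ω * ω) := by
      rw [map_sub, map_mul, hσω]; linear_combination (-ω) * hc
    simp only [qm, Matrix.smul_mulVec, Pi.smul_apply, smul_eq_mul, map_mul, map_inv₀, hσg]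
    obtain ⟨A, hA⟩ : ∃ A, A = (Fm ω k *ᵥ x) 0 * σ ((Fm ω k *ᵥ y) 0) + (Fm ω k *ᵥ x) 1 * σ ((Fm ω k *ᵥ y) 1) +
        (Fm ω k *ᵥ x) 2 * σ ((Fm ω k *ᵥ y) 2) := ⟨_, rfl⟩
    have hA3 : A = 3 * (x 0 * σ (y 0) + x 1 * σ (y 1) + x 2 * σ (y 2)) := by
      have hr := hω.root
      rw [hA]
      fin_cases k <;>
        simp [Fm, Matrix.mulVec, dotProduct, Fin.sum_univ_three, pw_zero, pw_one_val, pw_two_val, fin_three_facts,
          hσω, show (2 : Fin 3) * 2 = 1 by decide, show (2 : Fin 3) + 2 = 1 by decide] <;> grind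
    have hinv : (ω - ω * ω)⁻¹ * (-(ω - ω * ω))⁻¹ = (3 : F)⁻¹ := by rw [← mul_inv, mul_neg, hg2, neg_neg]
    have hA4 : (3 : F)⁻¹ * A = x 0 * σ (y 0) + x 1 * σ (y 1) + x 2 * σ (y 2) := by
      rw [hA3, inv_mul_cancel_left₀ hω.three]
    linear_combination A * hinv + hA4 + ((ω - ω * ω)⁻¹ * (-(ω - ω * ω))⁻¹) * hA.symm
  · rw [Matrix.smul_mulVec, Matrix.smul_mulVec, Matrix.one_mulVec, Matrix.one_mulVec, (sf hσ).smul_left,
      (sf hσ).smul_right, ← mul_assoc]
    have : pw ω c * σ (pw ω c) = 1 := by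
      fin_cases c <;> simp [pw_zero, pw_one_val, pw_two_val, hσω] <;> grind
    rw [this, one_mul]

/-- A nontrivial element with square-zero displacement is a transvection. -/
theorem tv_of_sq_zero (hσ : IsUSigma q σ) {g : GL (Fin 3) F} (hg : g ∈ GU 3 F q)
    (hg1 : g ≠ 1) (h2 : ((g : Matrix (Fin 3) (Fin 3) F) - 1) * ((g : Matrix (Fin 3) (Fin 3) F) - 1) = 0) :
    ∃ (w : Fin 3 → F) (c : F), w ≠ 0 ∧ hermForm 3 F q w w = 0 ∧ c ≠ 0 ∧ c + σ c = 0 ∧ Tv q g w c := by
  have hs := sf hσ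
  obtain ⟨a, β, ha, hβ, hβa, hN⟩ := rank_one_of_sq_zero (N := (g : Matrix (Fin 3) (Fin 3) F) - 1)
    (fun e => hg1 (Units.ext (sub_eq_zero.mp e))) h2
  have hgx : ∀ x, (g : Matrix (Fin 3) (Fin 3) F) *ᵥ x = x + (β ⬝ᵥ x) • a := fun x => by
    rw [← Cfsg.Agent.Small.Generation.tv_mulVec, Cfsg.Agent.Small.Generation.tv, ← hN, add_sub_cancel]
  have hpres : ∀ x y, (β ⬝ᵥ x) * hermForm 3 F q a y + σ (β ⬝ᵥ y) * hermForm 3 F q x a +
      (β ⬝ᵥ x) * σ (β ⬝ᵥ y) * hermForm 3 F q a a = 0 := fun x y => by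
    have h := mem_GU_iff.mp hg x y
    simp only [hgx, hs.add_left, hs.add_right, hs.smul_left, hs.smul_right] at h
    linear_combination h
  obtain ⟨x₀, hx₀⟩ : ∃ x₀, β ⬝ᵥ x₀ ≠ 0 := by
    by_contra hcon
    push Not at hcon
    exact hβ (funext fun i => by simpa using hcon (Pi.single i 1))
  have haa : hermForm 3 F q a a = 0 := by
    have h := hpres x₀ a
    rw [hβa, map_zero, zero_mul, add_zero, mul_zero, zero_mul, add_zero] at h
    exact (mul_eq_zero.mp h).resolve_left hx₀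
  obtain ⟨y₀, hy₀⟩ : ∃ y₀, hermForm 3 F q a y₀ = 1 := by
    obtain ⟨y, hy⟩ := (hσ.isUnitaryForm.nondegenerate a ha).2
    refine ⟨σ (hermForm 3 F q a y)⁻¹ • y, ?_⟩
    rw [hs.smul_right, hσ.involutive, inv_mul_cancel₀ hy]
  obtain ⟨c, hc⟩ : ∃ c, c = -σ (β ⬝ᵥ y₀) := ⟨_, rfl⟩
  have hbx : ∀ x, β ⬝ᵥ x = c * hermForm 3 F q x a := fun x => by
    have h := hpres x y₀
    rw [hy₀, haa] at h
    rw [hc]; linear_combination h
  have hby : β ⬝ᵥ y₀ = c := by rw [hbx, swp hσ a y₀, hy₀, map_one, mul_one]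
  refine ⟨a, c, ha, haa, fun e => hx₀ (by rw [hbx, e, zero_mul]), ?_, fun x => by rw [hgx, hbx]⟩
  rw [hc]
  rw [hc] at hby
  have := congrArg σ hby
  rw [map_neg, hσ.involutive] at this
  rw [map_neg, hσ.involutive]
  linear_combination -hby + 0 * this

/-- Order divisible by `p²` gives a transvection. -/
theorem exists_transvection (hσ : IsUSigma q σ) [Fact p.Prime] [CharP F p] (hqp : q = p) (h3 : 3 ≤ p)
    {G : Subgroup (GL (Fin 3) F)} (hG : G ≤ suGL 3 F q) (h : p ^ 2 ∣ Nat.card G) :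
    ∃ (w : Fin 3 → F) (c : F), w ≠ 0 ∧ hermForm 3 F q w w = 0 ∧ c ≠ 0 ∧ c + σ c = 0 ∧
      ∃ g ∈ G, Tv q g w c := by
  classical
  have hs := sf hσ
  have hp : p.Prime := Fact.out
  obtain ⟨P, hP⟩ := Sylow.exists_subgroup_card_pow_prime p h
  have hab := (IsPGroup.commutative_of_card_eq_prime_sq (G := P) hP)
  let val : G → Matrix (Fin 3) (Fin 3) F := fun g => ((g : GL (Fin 3) F) : Matrix (Fin 3) (Fin 3) F)
  have hval : ∀ g h, val (g * h) = val g * val h := fun g h => rfl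
  have hpow : ∀ g n, val (g ^ n) = val g ^ n := fun g n => by
    induction n with
    | zero => rfl
    | succ n ih => rw [pow_succ, pow_succ, hval, ih]
  have hinj : Function.Injective val := fun g h e => Subtype.ext (Units.ext e)
  have hnil : ∀ g : P, (val g - 1) * (val g - 1) * (val g - 1) = 0 := fun g =>
    nilp_cube hp h3 ⟨2, by
      rw [← hpow]
      have : (g : G) ^ p ^ 2 = 1 := by
        rw [← hP, ← Subgroup.coe_pow, pow_card_eq_one', Subgroup.coe_one]
      rw [this]; rfl⟩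
  have hexp : ∀ g : P, g ^ p = 1 := fun g => Subtype.ext (hinj (by
    rw [Subgroup.coe_pow, hpow]
    haveI : CharP (Matrix (Fin 3) (Fin 3) F) p :=
      charP_of_injective_algebraMap (FaithfulSMul.algebraMap_injective F _) p
    have h1 : (val g - 1) ^ p = val g ^ p - 1 := by
      rw [sub_pow_char_of_commute (R := Matrix (Fin 3) (Fin 3) F) (p := p) (Commute.one_right _), one_pow]
    have h0 : val g ^ p - 1 = 0 := by
      rw [← h1, ← Nat.sub_add_cancel h3, pow_add, pow_succ, pow_two, hnil, mul_zero]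
    exact sub_eq_zero.mp h0))
  -- a square-zero one suffices
  suffices hsq : ∃ g : P, (g : G) ≠ 1 ∧ (val g - 1) * (val g - 1) = 0 by
    obtain ⟨g, hg1, hg2⟩ := hsq
    obtain ⟨w, c, hw, hww, hc, hcc, ht⟩ := tv_of_sq_zero hσ (hG (g : G).2).1 (fun e => hg1 (Subtype.ext e)) hg2
    exact ⟨w, c, hw, hww, hc, hcc, _, (g : G).2, ht⟩
  obtain ⟨g, hg⟩ : ∃ g : P, g ≠ 1 := by
    haveI : Nontrivial P := Finite.one_lt_card_iff_nontrivial.mp (by rw [hP]; exact Nat.one_lt_pow two_ne_zero hp.one_lt)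
    exact exists_ne 1
  have hg' : (g : G) ≠ 1 := fun e => hg (Subtype.ext e)
  by_cases hN2 : (val g - 1) * (val g - 1) = 0
  · exact ⟨g, hg', hN2⟩
  obtain ⟨h', hh'⟩ : ∃ h' : P, h' ∉ Subgroup.zpowers g := by
    by_contra hall
    push Not at hall
    have := Subgroup.card_le_card_group (Subgroup.zpowers g)
    have htop : Subgroup.zpowers g = ⊤ := eq_top_iff.mpr fun x _ => hall x
    have hc := Nat.card_zpowers g
    rw [htop, Subgroup.card_top, hP, orderOf_eq_prime (hexp g) hg] at hc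
    nlinarith [hp.two_le]
  obtain ⟨N, hN⟩ : ∃ N, N = val g - 1 := ⟨_, rfl⟩
  obtain ⟨K, hK⟩ : ∃ K, K = val h' - 1 := ⟨_, rfl⟩
  rw [← hN] at hN2
  have hcomm : K * N = N * K := by
    have : val g * val h' = val h' * val g := by
      rw [← hval, ← hval, ← Subgroup.coe_mul, ← Subgroup.coe_mul, hab g h']
    rw [hK, hN]
    simp only [sub_mul, mul_sub, mul_one, one_mul, this]
    abel
  have hN3 : N * N * N = 0 := hN ▸ hnil g
  have hK3 : K * K * K = 0 := hK ▸ hnil h'
  obtain ⟨v, hv⟩ : ∃ v, (N * N) *ᵥ v ≠ 0 := by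
    by_contra hh
    push Not at hh
    exact hN2 (Matrix.ext_of_mulVec_single fun j => by rw [hh, zero_mulVec])
  have hli : LinearIndependent F ![v, N *ᵥ v, (N * N) *ᵥ v] := by
    rw [Fintype.linearIndependent_iff]
    intro c hc
    simp only [Fin.sum_univ_three, Matrix.cons_val_zero, Matrix.cons_val_one, Matrix.cons_val_two,
      Matrix.head_cons, Matrix.tail_cons] at hc
    have c0 : c 0 = 0 := by
      have e := congrArg ((N * N) *ᵥ ·) hc
      simp only [mulVec_add, mulVec_smul, mulVec_mulVec, mulVec_zero, hN3, ← Matrix.mul_assoc,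
        zero_mulVec, smul_zero, add_zero, Matrix.zero_mul] at e
      exact (smul_eq_zero.mp e).resolve_right hv
    rw [c0, zero_smul, zero_add] at hc
    have c1 : c 1 = 0 := by
      have e := congrArg (N *ᵥ ·) hc
      simp only [mulVec_add, mulVec_smul, mulVec_mulVec, mulVec_zero, hN3, ← Matrix.mul_assoc,
        zero_mulVec, smul_zero, add_zero] at e
      exact (smul_eq_zero.mp e).resolve_right hv
    rw [c1, zero_smul, zero_add] at hc
    intro i; fin_cases i
    exacts [c0, c1, (smul_eq_zero.mp hc).resolve_right hv]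
  let B := basisOfLinearIndependentOfCardEqFinrank hli (by simp)
  have hB : ∀ i, B i = ![v, N *ᵥ v, (N * N) *ᵥ v] i := fun i => by
    simp [B]
  obtain ⟨a, b, c, habc⟩ : ∃ a b c, K *ᵥ v = a • v + b • (N *ᵥ v) + c • ((N * N) *ᵥ v) :=
    ⟨B.repr (K *ᵥ v) 0, B.repr (K *ᵥ v) 1, B.repr (K *ᵥ v) 2, by
      conv_lhs => rw [← B.sum_repr (K *ᵥ v)]
      simp [Fin.sum_univ_three, hB]⟩
  have hNK : ∀ x, N *ᵥ (K *ᵥ x) = K *ᵥ (N *ᵥ x) := fun x => by rw [mulVec_mulVec, mulVec_mulVec, hcomm]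
  have hKN : K *ᵥ (N *ᵥ v) = a • (N *ᵥ v) + b • ((N * N) *ᵥ v) := by
    rw [← hNK, habc]
    simp [mulVec_add, mulVec_smul, mulVec_mulVec, ← Matrix.mul_assoc, hN3]
  have hKNN : K *ᵥ ((N * N) *ᵥ v) = a • ((N * N) *ᵥ v) := by
    rw [← mulVec_mulVec v N N, ← hNK, hKN]
    simp [mulVec_add, mulVec_smul, mulVec_mulVec, ← Matrix.mul_assoc, hN3]
  have ha : a = 0 := by
    have e : (K * K * K) *ᵥ ((N * N) *ᵥ v) = (a * a * a) • ((N * N) *ᵥ v) := by
      rw [← mulVec_mulVec, ← mulVec_mulVec, hKNN, mulVec_smul, hKNN, mulVec_smul, mulVec_smul, hKNN, smul_smul,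
        smul_smul]
    rw [hK3, zero_mulVec] at e
    simpa using (smul_eq_zero.mp e.symm).resolve_right hv
  have hKeq : K = b • N + c • (N * N) := by
    refine Matrix.toLin'.injective (B.ext fun i => ?_)
    rw [Matrix.toLin'_apply, Matrix.toLin'_apply, hB]
    fin_cases i
    · simp [habc, ha, add_mulVec, smul_mulVec]
    · show K *ᵥ (N *ᵥ v) = (b • N + c • (N * N)) *ᵥ (N *ᵥ v)
      rw [hKN, ha, add_mulVec, smul_mulVec, smul_mulVec, mulVec_mulVec, mulVec_mulVec, hN3, zero_smul,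
        zero_add, zero_mulVec, smul_zero, add_zero]
    · show K *ᵥ ((N * N) *ᵥ v) = (b • N + c • (N * N)) *ᵥ ((N * N) *ᵥ v)
      rw [hKNN, ha, add_mulVec, smul_mulVec, smul_mulVec, mulVec_mulVec, mulVec_mulVec, ← Matrix.mul_assoc N N N,
        hN3, Matrix.mul_assoc N N (N * N), ← Matrix.mul_assoc N N N, hN3, Matrix.mul_zero, zero_smul, zero_mulVec,
        smul_zero, smul_zero, add_zero]
  have hbσ : σ b = b := by
    have hP2 : ∀ (g : P) x y, hermForm 3 F q ((val g - 1) *ᵥ x) y + hermForm 3 F q x ((val g - 1) *ᵥ y) +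
        hermForm 3 F q ((val g - 1) *ᵥ x) ((val g - 1) *ᵥ y) = 0 := fun g x y => by
      have h0 := mem_GU_iff.mp (hG (g : G).2).1 x y
      have e1 : ∀ z, ((g : G) : GL (Fin 3) F).1 *ᵥ z = z + (val g - 1) *ᵥ z := fun z => by
        rw [Matrix.sub_mulVec, Matrix.one_mulVec, add_sub_cancel]
      simp only [e1, hs.add_left, hs.add_right] at h0
      linear_combination h0
    obtain ⟨v₁, hv₁⟩ : ∃ v₁, v₁ = N *ᵥ v := ⟨_, rfl⟩
    obtain ⟨v₂, hv₂⟩ : ∃ v₂, v₂ = (N * N) *ᵥ v := ⟨_, rfl⟩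
    have n1 : N *ᵥ v₁ = v₂ := by rw [hv₁, hv₂, mulVec_mulVec]
    have n2 : N *ᵥ v₂ = 0 := by rw [hv₂, mulVec_mulVec, ← Matrix.mul_assoc, hN3, zero_mulVec]
    have z0 : ∀ z, hermForm 3 F q 0 z = 0 := fun z => by
      rw [← zero_smul F (0 : Fin 3 → F), hs.smul_left, zero_mul]
    have z1 : ∀ z, hermForm 3 F q z 0 = 0 := fun z => orth_swp hσ (z0 z)
    have g1 := hP2 g v v₂
    have g2 := hP2 g v₁ v₂
    have g3 := hP2 g v₁ v₁
    have g4 := hP2 g v v₁
    rw [← hN, ← hv₁, n2, z1, z1, add_zero, add_zero] at g1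
    rw [← hN, n1, n2, z1, z1, add_zero, add_zero] at g2
    rw [← hN, n1] at g3
    rw [← hN, ← hv₁, n1, g1, add_zero] at g4
    have a21 : hermForm 3 F q v₂ v₁ = 0 := orth_swp hσ g1
    have a20 : hermForm 3 F q v₂ v ≠ 0 := fun e0 => by
      obtain ⟨y, hy⟩ := (hσ.isUnitaryForm.nondegenerate v₂ (hv₂ ▸ hv)).2
      refine hy ?_
      have hy' : y = B.repr y 0 • v + B.repr y 1 • v₁ + B.repr y 2 • v₂ := by
        conv_lhs => rw [← B.sum_repr y]
        simp [Fin.sum_univ_three, hB, hv₁, hv₂]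
      rw [hy']
      simp only [hs.add_right, hs.smul_right, e0, a21, g2, mul_zero, add_zero]
    have hh := hP2 h' v v₁
    rw [← hK] at hh
    rw [show K *ᵥ v = b • v₁ + c • v₂ by rw [habc, ha, zero_smul, zero_add, ← hv₁, ← hv₂],
      show K *ᵥ v₁ = b • v₂ by rw [hv₁, hKN, ha, zero_smul, zero_add, ← hv₂]] at hh
    simp only [hs.add_left, hs.smul_left, hs.smul_right, g1, g2, a21, mul_zero, add_zero] at hh
    have a02 : hermForm 3 F q v v₂ ≠ 0 := fun e0 => a20 (orth_swp hσ e0)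
    have hfin : (σ b - b) * hermForm 3 F q v v₂ = 0 := by linear_combination hh - b * g4
    exact sub_eq_zero.mp ((mul_eq_zero.mp hfin).resolve_right a02)
  obtain ⟨j, hj⟩ := nat_of_fixed hσ hp hqp (x := -b) (by rw [map_neg, hbσ])
  obtain ⟨e, he⟩ := one_add_pow (F := F) N hN3 j
  refine ⟨h' * g ^ j, fun q => hh' ?_, ?_⟩
  · have q' : h' * g ^ j = 1 := Subtype.ext q
    rw [eq_inv_of_mul_eq_one_left q']
    exact Subgroup.inv_mem _ (Subgroup.pow_mem _ (Subgroup.mem_zpowers g) j)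
  · have hv' : val ((h' * g ^ j : P) : G) - 1 = (c + e - b * b) • (N * N) := by
      rw [Subgroup.coe_mul, Subgroup.coe_pow, hval, hpow, show val h' = 1 + K by rw [hK, add_sub_cancel],
        show val g = 1 + N by rw [hN, add_sub_cancel], he, hKeq, hj]
      simp only [mul_add, add_mul, one_mul, mul_one, smul_mul_assoc, mul_smul_comm, hN3, smul_zero,
        show N * (N * N) = 0 by rw [← Matrix.mul_assoc, hN3], show N * N * (N * N) = 0 by
          rw [← Matrix.mul_assoc, hN3, Matrix.zero_mul], smul_smul, add_zero]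
      module
    rw [hv', smul_mul_assoc, mul_smul_comm, ← Matrix.mul_assoc, hN3, Matrix.zero_mul, smul_zero, smul_zero]

/-- The dichotomy for a group of unitary matrices containing the standard ones. -/
theorem permutes_or_top (hσ : IsUSigma q σ) [Fact p.Prime] [CharP F p] (hqp : q = p) (h7 : 7 ≤ p) (hω : Om ω)
    {K : Subgroup (GL (Fin 3) F)} (hKS : K ≤ suGL 3 F q)
    (hr : ∀ e, ∃ g ∈ K, (g : Matrix (Fin 3) (Fin 3) F) = rm ω e)
    (hz : ∃ g ∈ K, (g : Matrix (Fin 3) (Fin 3) F) = pw ω 1 • (1 : Matrix (Fin 3) (Fin 3) F))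
    (ht : ∀ e, ∃ g ∈ K, (g : Matrix (Fin 3) (Fin 3) F) = Tm ω e)
    (hq : ∀ k, ∃ g ∈ K, (g : Matrix (Fin 3) (Fin 3) F) = qm ω k) :
    (∀ g ∈ K, ∀ e, ∃ f, (g : Matrix (Fin 3) (Fin 3) F) * Tm ω e = Tm ω f * (g : Matrix (Fin 3) (Fin 3) F)) ∨
      suGL 3 F q ≤ K := by
  classical
  have hp : p.Prime := Fact.out
  have hs := sf hσ
  let τ₀ : K →* Matrix (Fin 3) (Fin 3) F := (Units.coeHom _).comp K.subtype
  choose r hr1 hr2 using hr
  choose t ht1 ht2 using ht
  choose k₀ hq1 hq2 using hq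
  obtain ⟨z, hz1, hz2⟩ := hz
  let C : Ctx K ω :=
    { om := hω, σ := τ₀, inj := fun a b h => Subtype.ext (Units.ext h)
      det := fun g => mem_specialLinear_iff.mp (hKS g.2).2
      r := fun e => ⟨r e, hr1 e⟩, hr := hr2, z := ⟨z, hz1⟩, hz := hz2
      t := fun e => ⟨t e, ht1 e⟩, ht := ht2, q := fun k => ⟨k₀ k, hq1 k⟩, hq := hq2 }
  by_cases hG : p ∣ Nat.card K
  swap
  · left
    intro g hg e
    obtain ⟨f, hf⟩ := C.permutes hp h7 hG ⟨g, hg⟩ e
    refine ⟨f, ?_⟩
    rw [mul_inv_eq_iff_eq_mul] at hf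
    have := congrArg τ₀ hf
    rw [map_mul, map_mul] at this
    rwa [show τ₀ (C.t e) = Tm ω e from ht2 e, show τ₀ (C.t f) = Tm ω f from ht2 f] at this
  right
  by_cases hG2 : p ^ 2 ∣ Nat.card K
  swap
  · exfalso
    haveI := Fintype.ofFinite K
    obtain ⟨x, hx⟩ := exists_prime_orderOf_dvd_card' p hG
    let τ : K →* Module.End F (Fin 3 → F) :=
      (Matrix.toLinAlgEquiv' : Matrix (Fin 3) (Fin 3) F ≃ₐ[F] _).toMonoidHom.comp τ₀
    obtain ⟨W, hW3, hWst⟩ := exists_three_summand (n := 3) hp (by norm_num) (by omega) hG2 τ hx fun e => by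
      have : x = 1 := C.inj (Matrix.toLinAlgEquiv'.injective (e.trans (map_one τ).symm))
      rw [this, orderOf_one] at hx
      omega
    let W' : Submodule F (Matrix (Fin 3) (Fin 3) F) :=
      W.comap (Matrix.toLinAlgEquiv' : Matrix (Fin 3) (Fin 3) F ≃ₐ[F] _).toLinearMap
    have hW' : finrank F W' = 3 := by
      exact (LinearEquiv.finrank_eq ((Matrix.toLinAlgEquiv' :
        Matrix (Fin 3) (Fin 3) F ≃ₐ[F] _).toLinearEquiv.ofSubmodule' W)).trans hW3
    have hst : ∀ g : K, ∀ X ∈ W', ∀ Y, τ₀ g * Y = 1 → τ₀ g * X * Y ∈ W' := by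
      intro g X hX Y hY
      have e : Y = τ₀ g⁻¹ := by
        calc Y = τ₀ g⁻¹ * τ₀ g * Y := by rw [← map_mul, inv_mul_cancel, map_one, Matrix.one_mul]
          _ = _ := by rw [Matrix.mul_assoc, hY, Matrix.mul_one]
      show Matrix.toLinAlgEquiv' (τ₀ g * X * Y) ∈ W
      rw [e, map_mul, map_mul]
      exact hWst g _ hX
    exact no_three_space hω hW' (fun e X hX Y hY => by
        rw [← show τ₀ (C.r e) = rm ω e from hr2 e] at hY ⊢; exact hst _ X hX Y hY)
      (fun k X hX Y hY => by rw [← show τ₀ (C.q k) = qm ω k from hq2 k] at hY ⊢; exact hst _ X hX Y hY)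
  obtain ⟨w, c, hw0, hww, hc0, hcc, g, hg, hgt⟩ := exists_transvection hσ hqp (by omega) hKS hG2
  -- the whole root group
  have hroot : ∀ c', c' + σ c' = 0 → ∀ g', Tv q g' w c' → g' ∈ K := fun c' hc' g' hg' => by
    obtain ⟨j, hj⟩ := nat_of_fixed hσ hp hqp (x := c' / c) (by
      rw [map_div₀, eq_neg_of_add_eq_zero_right hc', eq_neg_of_add_eq_zero_right hcc, neg_div_neg_eq])
    have hpw : ∀ n : ℕ, Tv q (g ^ n) w ((n : F) * c) := fun n => by
      induction n with
      | zero => intro x; simp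
      | succ n ih =>
        intro x
        rw [pow_succ, gl_mul_mulVec, hgt x, ih, hs.add_left, hs.smul_left, hww, Nat.cast_succ]
        module
    have := hpw j
    rw [hj, div_mul_cancel₀ _ hc0] at this
    rw [tv_unique hg' this]
    exact K.pow_mem hg j
  -- a second centre
  obtain ⟨e₁, he₁⟩ : ∃ e₁, hermForm 3 F q (rm ω e₁ *ᵥ w) w ≠ 0 := by
    by_contra hcon
    push Not at hcon
    let W : Submodule F (Fin 3 → F) :=
      { carrier := {x | ∀ e, hermForm 3 F q (rm ω e *ᵥ x) w = 0}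
        add_mem' := fun {a b} ha hb e => by rw [mulVec_add, hs.add_left, ha e, hb e, add_zero]
        zero_mem' := fun e => by rw [mulVec_zero, ← zero_smul F w, hs.smul_left, zero_mul]
        smul_mem' := fun c x hx e => by rw [mulVec_smul, hs.smul_left, hx e, mul_zero] }
    have hW := submodule_top_of_rm hω (W := W) (fun e x hx f => by
      rw [mulVec_mulVec, rm_mul hω, smul_mulVec, hs.smul_left, hx, mul_zero]) (v := w) hcon hw0
    obtain ⟨y, hy⟩ := (hσ.isUnitaryForm.nondegenerate w hw0).1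
    have := (SetLike.ext_iff.mp hW y).mpr trivial 0
    rw [rm_zero, one_mulVec] at this
    exact hy this
  obtain ⟨w', hw'⟩ : ∃ w', w' = rm ω e₁ *ᵥ w := ⟨_, rfl⟩
  rw [← hw'] at he₁
  have hrU := mem_GU_iff.mp (hKS (hr1 e₁)).1
  have hw'w' : hermForm 3 F q w' w' = 0 := by rw [hw', ← hr2 e₁, hrU]; exact hww
  have hne' : hermForm 3 F q w w' ≠ 0 := fun e0 => he₁ (orth_swp hσ e0)
  obtain ⟨s, hs'⟩ : ∃ s, s = σ (hermForm 3 F q w w')⁻¹ := ⟨_, rfl⟩
  obtain ⟨v, hv⟩ : ∃ v, v = s • w' := ⟨_, rfl⟩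
  have hwv : hermForm 3 F q w v = 1 := by rw [hv, hs.smul_right, hs', hσ.involutive, inv_mul_cancel₀ hne']
  have hvw : hermForm 3 F q v w = 1 := by rw [swp hσ w v, hwv, map_one]
  have hvv : hermForm 3 F q v v = 0 := by rw [hv, hs.smul_left, hs.smul_right, hw'w', mul_zero, mul_zero]
  have hallv : ∀ c', c' + σ c' = 0 → ∀ g', Tv q g' v c' → g' ∈ K := fun c' hc' g' hg' => by
    have h1 : Tv q g' w' (c' * s * σ s) := tv_smul hσ s (hv ▸ hg')
    have hsk : c' * s * σ s + σ (c' * s * σ s) = 0 := by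
      rw [map_mul, map_mul, hσ.involutive]; linear_combination s * σ s * hc'
    obtain ⟨g₀, -, hg₀⟩ := hσ.exists_transvection hww hsk
    have := tv_conj (hKS (hr1 e₁)).1 (show Tv q g₀ w (c' * s * σ s) from hg₀)
    rw [hr2 e₁, ← hw'] at this
    rw [tv_unique h1 this]
    exact mul_mem (mul_mem (hr1 e₁) (hroot _ hsk g₀ hg₀)) (inv_mem (hr1 e₁))
  obtain ⟨e, he0, hew, hev⟩ := exists_kernel hσ w v
  have hzero : ∀ d, hermForm 3 F q d w = 0 → hermForm 3 F q d v = 0 → hermForm 3 F q d e = 0 → d = 0 := by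
    intro d d1 d2 d3
    by_contra hd0
    have hli : LinearIndependent F ![w, v, e] := by
      rw [Fintype.linearIndependent_iff]
      intro a ha
      simp only [Fin.sum_univ_three, Matrix.cons_val_zero, Matrix.cons_val_one, Matrix.cons_val] at ha
      have z0 : ∀ z, hermForm 3 F q 0 z = 0 := fun z => by
        rw [← zero_smul F (0 : Fin 3 → F), hs.smul_left, zero_mul]
      have a1 := congrArg (fun z => hermForm 3 F q z v) ha
      have a2 := congrArg (fun z => hermForm 3 F q z w) ha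
      simp only [hs.add_left, hs.smul_left, hwv, hvw, hvv, hww, hew, hev, z0, mul_zero, mul_one, add_zero,
        zero_add] at a1 a2
      rw [a1, a2, zero_smul, zero_smul, zero_add, zero_add] at ha
      intro i; fin_cases i
      exacts [a1, a2, (smul_eq_zero.mp ha).resolve_right he0]
    obtain ⟨y, hy⟩ := (hσ.isUnitaryForm.nondegenerate d hd0).2
    have hsp := hli.span_eq_top_of_card_eq_finrank (by simp)
    obtain ⟨a, rfl⟩ := (Submodule.mem_span_range_iff_exists_fun F).mp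
      (show y ∈ Submodule.span F (Set.range ![w, v, e]) by rw [hsp]; trivial)
    simp only [Fin.sum_univ_three, Matrix.cons_val_zero, Matrix.cons_val_one, Matrix.cons_val, hs.add_right,
      hs.smul_right, d1, d2, d3, mul_zero, add_zero] at hy
    exact hy rfl
  have hee : hermForm 3 F q e e ≠ 0 := fun h => he0 (hzero e hew hev h)
  have P : Pair q e w v :=
    { uu := hww, vv := hvv, uv := hwv, vu := hvw, ue := orth_swp hσ hew, ve := orth_swp hσ hev
      span := fun z hz => by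
        refine sub_eq_zero.mp (hzero _ ?_ ?_ ?_) <;>
          simp [sub_eq_add_neg, ← neg_smul, neg_add, hs.add_left, hs.smul_left, hww, hvv, hwv, hvw, hz,
            orth_swp hσ hew, orth_swp hσ hev] }
  obtain ⟨e₂, he₂⟩ : ∃ e₂, ∀ a : F, rm ω e₂ *ᵥ e ≠ a • e := by
    by_contra hcon
    push Not at hcon
    have h := submodule_top_of_rm hω (W := Submodule.span F {e}) (fun f x hx => by
      obtain ⟨a, rfl⟩ := Submodule.mem_span_singleton.mp hx
      obtain ⟨b, hb⟩ := hcon f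
      rw [mulVec_smul, hb, smul_smul]
      exact Submodule.mem_span_singleton.mpr ⟨_, rfl⟩) (Submodule.mem_span_singleton_self e) he0
    have := finrank_span_singleton (K := F) he0
    rw [h, finrank_top, Module.finrank_fintype_fun_eq_card, Fintype.card_fin] at this
    omega
  refine full_of_chord hσ (by omega) hKS hee (fun z c' hzz hze hc' g' hg' => ?_) (hr1 e₂)
    (fun a => by rw [hr2 e₂]; exact he₂ a)
  obtain ⟨x, y, hxy⟩ : ∃ x y, z = x • w + y • v := ⟨_, _, P.span z hze⟩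
  by_cases hx : x = 0
  · have hg'' : Tv q g' (y • v) c' := by rwa [hxy, hx, zero_smul, zero_add] at hg'
    refine hallv _ ?_ g' (tv_smul hσ y hg'')
    rw [map_mul, map_mul, hσ.involutive]; linear_combination y * σ y * hc'
  obtain ⟨s', hs''⟩ : ∃ s', s' = y / x := ⟨_, rfl⟩
  have hxy' : z = x • (w + s' • v) := by rw [hxy, hs'', smul_add, smul_smul, mul_div_cancel₀ _ hx]
  have hss' : s' + σ s' = 0 := by
    rw [hxy'] at hzz
    simp only [hs.smul_left, hs.smul_right, hs.add_left, hs.add_right, hww, hvv, hwv, hvw, mul_one, mul_zero,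
      zero_add, add_zero] at hzz
    have : x * σ x * (s' + σ s') = 0 := by linear_combination hzz
    exact (mul_eq_zero.mp this).resolve_left (mul_ne_zero hx fun e0 => hx ((map_eq_zero σ).mp e0))
  obtain ⟨k, -, hk⟩ := hσ.exists_transvection hvv hss'
  have hku : (k : Matrix (Fin 3) (Fin 3) F) *ᵥ w = w + s' • v := by rw [hk, hwv, mul_one]
  have hkK := hallv s' hss' k hk
  have hgu : Tv q g' (w + s' • v) (c' * x * σ x) := tv_smul hσ x (hxy' ▸ hg')
  have hcx : c' * x * σ x + σ (c' * x * σ x) = 0 := by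
    rw [map_mul, map_mul, hσ.involutive]; linear_combination x * σ x * hc'
  obtain ⟨g₀, -, hg₀⟩ := hσ.exists_transvection hww hcx
  have := tv_conj (hKS hkK).1 (show Tv q g₀ w (c' * x * σ x) from hg₀)
  rw [hku] at this
  rw [tv_unique hgu this]
  exact mul_mem (mul_mem hkK (hroot _ hcx g₀ hg₀)) (inv_mem hkK)

end Cfsg.Agent.Classical.UThree.Hess
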