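/-
The normaliser of an extraspecial group of order twenty-seven is maximal in the special unitary group of degree three.
-/
import Cfsg.Agent.Lib.Classical.UThree.Hess

set_option autoImplicit false
set_option linter.unusedSectionVars false
set_option linter.style.haveILetI false
set_option maxHeartbeats 400000

namespace Cfsg.Agent.Classical.UThree.Hess

open Matrix Module Cfsg.Geo
open Cfsg.Agent.Classical
open Cfsg.Agent.Classical.LinThree.Hess

universe u

variable {F : Type u} [Field F] [Fintype F] {p q : ℕ} {σ : F ≃+* F}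

/-- **Maximality.** -/
theorem isMaximal (hσ : IsUSigma q σ) (hp : p.Prime) (hqp : q = p) (hp3 : p % 3 = 2) (h11 : 11 ≤ p)
    {R : Subgroup (GL (Fin 3) F)} (hsymp : IsSymplecticTypeGroup 3 R)
    (habs : ActsAbsolutelyIrreducibly (matrixSet R)) (hsim : R ≤ similarityGroup (hermForm 3 F q))
    (hcard : Nat.card R = 27) (hZ : Nat.card (Subgroup.center R) = 3) :
    IsMaximalIn (suGL 3 F q) (subgroupNormalizer R ⊓ suGL 3 F q) := by
  classical
  haveI := Fact.mk hp
  have hs := sf hσ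
  haveI : CharP F p := Cfsg.Agent.Classical.Frame.charP_of_card_pow hp two_ne_zero (by rw [hσ.card, hqp])
  have h3 : (3 : F) ≠ 0 := by
    rw [show (3 : F) = ((3 : ℕ) : F) by norm_num, Ne, CharP.cast_eq_zero_iff F p]
    exact fun h => by have := Nat.le_of_dvd (by norm_num) h; omega
  obtain ⟨ω, P, hω, hmem⟩ := exists_coords_of hsymp habs h3 hcard hZ
  have hσω : σ ω = ω * ω := by
    rw [hσ.apply_eq, hqp, ← Nat.div_add_mod p 3, hp3, pow_add, pow_mul, pow_succ, pow_two, hω.cube, one_pow, one_mul]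
  have hRG : ∀ g ∈ R, g ∈ GU 3 F q := by
    intro g hg
    obtain ⟨μ, hμ⟩ := hsim hg
    have h3' : g ^ 3 = 1 := by
      have h := (Monoid.exponent_dvd_iff_forall_pow_eq_one.mp (dvd_of_eq hsymp.exponent_eq)) (⟨g, hg⟩ : R)
      simpa using congrArg Subtype.val h
    obtain ⟨y, hy⟩ : ∃ y, hermForm 3 F q (Pi.single 0 1) y ≠ 0 :=
      (hσ.isUnitaryForm.nondegenerate (Pi.single 0 1 : Fin 3 → F) fun h => one_ne_zero (α := F) (by simpa using congrFun h 0)).2
    have hfix : σ (μ : F) = μ := by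
      have h1 := congrArg σ (hμ y (Pi.single 0 1))
      rw [← swp hσ, hμ, map_mul, ← swp hσ] at h1
      exact mul_right_cancel₀ hy h1.symm
    have hμ3 : (μ : F) * μ * μ = 1 := by
      have h := congrArg (fun m : GL (Fin 3) F => hermForm 3 F q ((m : Matrix (Fin 3) (Fin 3) F) *ᵥ Pi.single 0 1)
        ((m : Matrix (Fin 3) (Fin 3) F) *ᵥ y)) h3'
      simp only [pow_succ, pow_zero, one_mul, gl_mul_mulVec, hμ, Units.val_one, Matrix.one_mulVec, ← mul_assoc] at h
      exact mul_right_cancel₀ hy (h.trans (one_mul _).symm)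
    have hμ1 : (μ : F) = 1 := by
      rw [hσ.apply_eq, hqp, ← Nat.div_add_mod p 3, hp3, pow_add, pow_mul, pow_succ, pow_two, hμ3, one_pow, one_mul] at hfix
      exact mul_right_cancel₀ μ.ne_zero (hfix.trans (one_mul _).symm)
    refine mem_GU_iff.mpr fun a b => ?_
    rw [hμ, hμ1, one_mul]
  let ψ : GL (Fin 3) F →* GL (Fin 3) F := (MulAut.conj P).toMonoidHom
  have hψ : ∀ g, ψ g = P * g * P⁻¹ := fun g => rfl
  have hdet : ∀ g, ψ g ∈ specialLinear (Fin 3) F ↔ g ∈ specialLinear (Fin 3) F := fun g => by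
    rw [mem_specialLinear_iff, mem_specialLinear_iff, hψ, Units.val_mul, Units.val_mul, Matrix.det_mul_right_comm,
      ← Units.val_mul, mul_inv_cancel, Units.val_one, Matrix.one_mul]
  have hrm : ∀ e, ∃ g : GL (Fin 3) F, (g : Matrix (Fin 3) (Fin 3) F) = rm ω e := fun e =>
    ⟨GeneralLinearGroup.mkOfDetNeZero (rm ω e) (by rw [det_rm hω]; exact one_ne_zero), rfl⟩
  choose r hr using hrm
  have hrR : ∀ e, ψ (r e) ∈ R := fun e => (hmem _).mpr ⟨0, e, by
    rw [show P⁻¹ * ψ (r e) * P = r e by rw [hψ]; group, hr, pw_zero, one_smul]⟩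
  -- the Gram matrix in the new coordinates is scalar
  obtain ⟨a, ha0, hgram⟩ : ∃ a : F, a ≠ 0 ∧ ∀ x y, hermForm 3 F q ((P : Matrix (Fin 3) (Fin 3) F) *ᵥ x)
      ((P : Matrix (Fin 3) (Fin 3) F) *ᵥ y) = a * hermForm 3 F q x y := by
    obtain ⟨G, hG⟩ : ∃ G : Fin 3 → Fin 3 → F, ∀ i j, G i j =
        hermForm 3 F q ((P : Matrix (Fin 3) (Fin 3) F) *ᵥ Pi.single i 1)
          ((P : Matrix (Fin 3) (Fin 3) F) *ᵥ Pi.single j 1) := ⟨_, fun _ _ => rfl⟩
    have hinv : ∀ e x y, hermForm 3 F q ((P : Matrix (Fin 3) (Fin 3) F) *ᵥ (rm ω e *ᵥ x))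
        ((P : Matrix (Fin 3) (Fin 3) F) *ᵥ (rm ω e *ᵥ y)) =
        hermForm 3 F q ((P : Matrix (Fin 3) (Fin 3) F) *ᵥ x) ((P : Matrix (Fin 3) (Fin 3) F) *ᵥ y) := fun e x y => by
      have h := mem_GU_iff.mp (hRG _ (hrR e)) ((P : Matrix (Fin 3) (Fin 3) F) *ᵥ x)
        ((P : Matrix (Fin 3) (Fin 3) F) *ᵥ y)
      rwa [hψ, gl_mul_mulVec, gl_mul_mulVec, gl_inv_mulVec_cancel, gl_mul_mulVec, gl_mul_mulVec,
        gl_inv_mulVec_cancel, hr] at h
    have hdiag : ∀ i j, G i j = pw ω i * σ (pw ω j) * G i j := fun i j => by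
      have h := hinv (0, 1) (Pi.single i 1) (Pi.single j 1)
      have e1 : ∀ i : Fin 3, rm ω (0, 1) *ᵥ Pi.single i 1 = pw ω i • (Pi.single i 1 : Fin 3 → F) := fun i => by
        funext k
        fin_cases i <;> fin_cases k <;>
          simp [rm, mono, pw_zero, pw_one_val, pw_two_val]
      rw [e1, e1, Matrix.mulVec_smul, Matrix.mulVec_smul, hs.smul_left, hs.smul_right, ← hG, ← mul_assoc] at h
      exact h.symm
    have hoff : ∀ i j, i ≠ j → G i j = 0 := fun i j hij => by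
      have h := hdiag i j
      have hne : pw ω i * σ (pw ω j) ≠ 1 := by
        have h1 := hω.cube
        have h2 := hω.root
        have h4 := hω.three
        fin_cases i <;> fin_cases j <;>
          simp [pw_zero, pw_one_val, pw_two_val, hσω] at hij ⊢ <;> grind
      have : (pw ω i * σ (pw ω j) - 1) * G i j = 0 := by linear_combination -h
      exact (mul_eq_zero.mp this).resolve_left (sub_ne_zero.mpr hne)
    have hcyc : ∀ i : Fin 3, G (i + 1) (i + 1) = G i i := fun i => by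
      have h := hinv (1, 0) (Pi.single i 1) (Pi.single i 1)
      have e1 : ∀ i : Fin 3, rm ω (1, 0) *ᵥ Pi.single i 1 = (Pi.single (i + 1) 1 : Fin 3 → F) := fun i => by
        funext k
        fin_cases i <;> fin_cases k <;>
          simp [rm, mono, pw_zero, pw_one_val, pw_two_val, fin_three_facts]
      rw [e1, ← hG, ← hG] at h
      exact h
    have g1 : G 1 1 = G 0 0 := hcyc 0
    have g2 : G 2 2 = G 0 0 := (hcyc 1).trans g1
    have hxy : ∀ x y, hermForm 3 F q ((P : Matrix (Fin 3) (Fin 3) F) *ᵥ x) ((P : Matrix (Fin 3) (Fin 3) F) *ᵥ y) =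
        G 0 0 * hermForm 3 F q x y := fun x y => by
      have ex : ∀ x : Fin 3 → F, x = x 0 • (Pi.single 0 1 : Fin 3 → F) + x 1 • Pi.single 1 1 + x 2 • Pi.single 2 1 :=
        fun x => by funext i; fin_cases i <;> simp
      conv_lhs => rw [ex x, ex y]
      simp only [Matrix.mulVec_add, Matrix.mulVec_smul, hs.add_left, hs.add_right, hs.smul_left, hs.smul_right, ← hG,
        hoff 0 1 (by decide), hoff 0 2 (by decide), hoff 1 0 (by decide), hoff 1 2 (by decide),
        hoff 2 0 (by decide), hoff 2 1 (by decide), g1, g2]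
      simp [hermForm, Fin.sum_univ_three, hσ.apply_eq]
      ring
    refine ⟨G 0 0, fun h0 => ?_, hxy⟩
    obtain ⟨y, hy⟩ := (hσ.isUnitaryForm.nondegenerate ((P : Matrix (Fin 3) (Fin 3) F) *ᵥ Pi.single 0 1) fun h => by
      have := congrFun (congrArg (fun z => ((P⁻¹ : GL (Fin 3) F) : Matrix (Fin 3) (Fin 3) F) *ᵥ z) h) 0
      simp only [gl_inv_mulVec_cancel, Matrix.mulVec_zero] at this
      simp at this).2
    rw [← gl_mulVec_inv_cancel P y, hxy, h0, zero_mul] at hy
    exact hy rfl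
  have hGU : ∀ g, ψ g ∈ GU 3 F q ↔ g ∈ GU 3 F q := fun g => by
    constructor
    · intro h
      refine mem_GU_iff.mpr fun x y => mul_left_cancel₀ ha0 ?_
      rw [← hgram, ← hgram]
      have h1 := mem_GU_iff.mp h ((P : Matrix (Fin 3) (Fin 3) F) *ᵥ x) ((P : Matrix (Fin 3) (Fin 3) F) *ᵥ y)
      rwa [hψ, gl_mul_mulVec, gl_mul_mulVec, gl_inv_mulVec_cancel, gl_mul_mulVec, gl_mul_mulVec,
        gl_inv_mulVec_cancel] at h1
    · intro h
      refine mem_GU_iff.mpr fun x y => ?_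
      rw [hψ, gl_mul_mulVec, gl_mul_mulVec, gl_mul_mulVec, gl_mul_mulVec, hgram, mem_GU_iff.mp h, ← hgram,
        gl_mulVec_inv_cancel, gl_mulVec_inv_cancel]
  have hSU : ∀ g, ψ g ∈ suGL 3 F q ↔ g ∈ suGL 3 F q := fun g => by
    simp only [suGL, Subgroup.mem_inf, hGU, hdet]
  have hnorm : ∀ g : GL (Fin 3) F,
      (∀ e, ∃ c f, (g : Matrix (Fin 3) (Fin 3) F) * rm ω e = pw ω c • (rm ω f * (g : Matrix (Fin 3) (Fin 3) F))) →
        ψ g ∈ subgroupNormalizer R := by
    intro g hg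
    refine Ctx.mem_normalizer_of_forall fun x hx => ?_
    obtain ⟨c, e, he⟩ := (hmem x).mp hx
    obtain ⟨c', f, hf⟩ := hg e
    refine (hmem _).mpr ⟨c + c', f, ?_⟩
    rw [show P⁻¹ * (ψ g * x * (ψ g)⁻¹) * P = g * (P⁻¹ * x * P) * g⁻¹ by rw [hψ]; group, Units.val_mul,
      Units.val_mul, he, Matrix.mul_smul, hf, smul_smul, ← pw_add hω, Matrix.smul_mul, Matrix.mul_assoc (rm ω f),
      ← Units.val_mul, mul_inv_cancel, Units.val_one, Matrix.mul_one]
  obtain ⟨u1, u2, u3, u4⟩ := unitary_std hσ hω hσω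
  have hstd : ∀ X : Matrix (Fin 3) (Fin 3) F, X.det = 1 → (∀ x y, hermForm 3 F q (X *ᵥ x) (X *ᵥ y) = hermForm 3 F q x y) →
      (∀ e, ∃ c f, X * rm ω e = pw ω c • (rm ω f * X)) →
      ∃ g : GL (Fin 3) F, (g : Matrix (Fin 3) (Fin 3) F) = X ∧ ψ g ∈ subgroupNormalizer R ⊓ suGL 3 F q :=
    fun X hd hu hn => ⟨GeneralLinearGroup.mkOfDetNeZero X (by rw [hd]; exact one_ne_zero), rfl, hnorm _ hn,
      (hSU _).mpr ⟨mem_GU_iff.mpr hu, mem_specialLinear_iff.mpr hd⟩⟩
  have hzd : (pw ω 1 • (1 : Matrix (Fin 3) (Fin 3) F)).det = 1 := by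
    rw [Matrix.det_smul, Matrix.det_one, mul_one, Fintype.card_fin, pw_one_val]
    linear_combination hω.cube
  have hRsl : R ≤ suGL 3 F q := fun g hg => by
    refine ⟨hRG g hg, mem_specialLinear_iff.mpr ?_⟩
    obtain ⟨c, e, he⟩ := (hmem g).mp hg
    have h := congrArg Matrix.det he
    rw [Units.val_mul, Units.val_mul, Matrix.det_mul_right_comm, ← Units.val_mul, inv_mul_cancel, Units.val_one,
      Matrix.one_mul, Matrix.det_smul, det_rm hω, Fintype.card_fin, mul_one] at h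
    rw [h, pw, ← pow_mul, mul_comm, pow_mul, pow_succ, pow_two, hω.cube, one_pow]
  refine ⟨lt_of_le_not_ge inf_le_right fun hall => ?_, fun M hle hM => ?_⟩
  · rcases (hσ.su_simple_facts le_rfl (by omega)).2 R hRsl fun g hg x hx =>
      (Subgroup.mem_normalizer_iff.mp (hall hg).1 x).mp hx with hsc | heq
    · obtain ⟨s, hs'⟩ := (mem_scalars_iff _).mp (hsc (hrR (0, 1)))
      have h1 : ((P⁻¹ * ψ (r (0, 1)) * P : GL (Fin 3) F) : Matrix (Fin 3) (Fin 3) F) = (s : F) • 1 := by
        rw [Units.val_mul, Units.val_mul, hs', Matrix.mul_smul, Matrix.smul_mul, Matrix.mul_one, ← Units.val_mul,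
          inv_mul_cancel, Units.val_one]
      rw [show P⁻¹ * ψ (r (0, 1)) * P = r (0, 1) by rw [hψ]; group, hr] at h1
      have a0 := congrFun (congrFun h1 0) 0
      have a1 := congrFun (congrFun h1 1) 1
      simp [rm, mono, pw_zero, pw_one_val] at a0 a1
      exact hω.ne_one (a1.trans a0.symm)
    · obtain ⟨a', -, -, ha', -, -, -, hiso, -, -⟩ := hσ.three_values
      obtain ⟨c, hc0, hc⟩ := hσ.exists_skew
      have hv := hσ.isotropic_pair (show (0 : Fin 3) ≠ 1 by decide) hiso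
      obtain ⟨g, hg, hgv⟩ := hσ.exists_transvection hv hc
      have h3' := (Monoid.exponent_dvd_iff_forall_pow_eq_one.mp (dvd_of_eq hsymp.exponent_eq))
        (⟨g, heq ▸ hg⟩ : R)
      have h4 : g ^ 3 = 1 := by simpa using congrArg Subtype.val h3'
      obtain ⟨v, hv_def⟩ : ∃ v, v = Pi.single (M := fun _ : Fin 3 => F) 0 1 + Pi.single 1 a' := ⟨_, rfl⟩
      rw [← hv_def] at hv
      have hv0 : v ≠ 0 := fun h => one_ne_zero (α := F) (by
        simpa [hv_def, Pi.single_apply] using congrFun h 0)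
      have hgv' : ∀ x, (g : Matrix (Fin 3) (Fin 3) F) *ᵥ x = x + (c * hermForm 3 F q x v) • v := fun x => by
        rw [hv_def]; exact hgv x
      obtain ⟨w, hw⟩ := (hσ.isUnitaryForm.nondegenerate v hv0).1
      have := congrArg (fun m : GL (Fin 3) F => (m : Matrix (Fin 3) (Fin 3) F) *ᵥ w) h4
      simp only [pow_succ, pow_zero, one_mul, gl_mul_mulVec, hgv', hs.add_left, hs.smul_left, hv, mul_zero,
        add_zero, Units.val_one, Matrix.one_mulVec, add_assoc, add_eq_left, ← add_smul, smul_eq_zero] at this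
      rcases this with h | h
      · refine mul_ne_zero h3 (mul_ne_zero hc0 hw) ?_
        linear_combination h
      · exact hv0 h
  · rcases permutes_or_top hσ hqp (by omega) hω (K := M.comap ψ) (fun g hg => (hSU g).mp (hM hg))
      (fun e => by
        obtain ⟨g, hg, hgM⟩ := hstd _ (det_rm hω e) (u1 e) (fun f => ⟨_, f, rm_comm hω e f⟩)
        exact ⟨g, hle hgM, hg⟩)
      (by
        obtain ⟨g, hg, hgM⟩ := hstd _ hzd (u4 1) (fun e => ⟨0, e, by simp [pw_zero]⟩)
        exact ⟨g, hle hgM, hg⟩)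
      (fun b => by
        obtain ⟨g, hg, hgM⟩ := hstd _ (det_Tm hω b) (u2 b) (fun e => by
          have h1 : Tm ω b * rm ω b = rm ω b * Tm ω 0 := by simpa using Tm_mul_rm hω b 0
          have hi : rm ω b * (pw ω (-(b.2 * (-b).1)) • rm ω (-b)) = 1 := by
            rw [Matrix.mul_smul, rm_mul hω, add_neg_cancel, rm_zero, smul_smul, ← pw_add hω, neg_add_cancel, pw_zero,
              one_smul]
          have hT : Tm ω b = rm ω b * Tm ω 0 * (pw ω (-(b.2 * (-b).1)) • rm ω (-b)) := by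
            rw [← h1, Matrix.mul_assoc, hi, Matrix.mul_one]
          obtain ⟨c1, hc1⟩ := Tm_zero_rm hω e
          refine ⟨((-b).2 * e.1 - e.2 * (-b).1) + c1 + (b.2 * (-e).1 - (-e).2 * b.1), -e, ?_⟩
          rw [hT]
          simp only [Matrix.mul_smul, Matrix.smul_mul, Matrix.mul_assoc, rm_comm hω (-b) e, smul_smul]
          rw [← Matrix.mul_assoc (Tm ω 0), hc1]
          simp only [Matrix.mul_smul, Matrix.smul_mul, smul_smul, Matrix.mul_assoc]
          rw [← Matrix.mul_assoc (rm ω b) (rm ω (-e)), rm_comm hω b (-e)]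
          simp only [Matrix.mul_smul, Matrix.smul_mul, smul_smul, Matrix.mul_assoc, pw_add hω]
          congr 1
          ring)
        exact ⟨g, hle hgM, hg⟩)
      (fun k => by
        obtain ⟨g, hg, hgM⟩ := hstd _ (det_qm hω k) (u3 k) (fun e => by
          obtain ⟨c, hc⟩ := qm_rm hω k e
          exact ⟨c, _, hc⟩)
        exact ⟨g, hle hgM, hg⟩) with hperm | htop
    · left
      refine le_antisymm (fun g hg => ⟨?_, hM hg⟩) hle
      have e0 : ψ (P⁻¹ * g * P) = g := by rw [hψ]; group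
      rw [← e0]
      obtain ⟨s, hs'⟩ : ∃ s, s = P⁻¹ * g * P := ⟨_, rfl⟩
      rw [← hs']
      have hsK : s ∈ M.comap ψ := by rw [Subgroup.mem_comap, hs', e0]; exact hg
      refine hnorm s fun e => ?_
      obtain ⟨x, hx⟩ := hperm s hsK (-e)
      obtain ⟨y, hy⟩ := hperm s hsK 0
      obtain ⟨d, hd⟩ := Tm_mul_Tm hω (-e) 0
      obtain ⟨d', hd'⟩ := Tm_mul_Tm hω x y
      rw [show -e - 0 + (-e - 0) = e from (show ∀ e : Fin 3 × Fin 3, -e - 0 + (-e - 0) = e by decide +kernel) e] at hd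
      have hre : rm ω e = pw ω (-d) • (Tm ω (-e) * Tm ω 0) := by
        rw [hd, smul_smul, ← pw_add hω, neg_add_cancel, pw_zero, one_smul]
      refine ⟨-d + d', x - y + (x - y), ?_⟩
      rw [hre, Matrix.mul_smul, ← Matrix.mul_assoc, hx, Matrix.mul_assoc, hy, ← Matrix.mul_assoc, hd',
        Matrix.smul_mul, smul_smul, pw_add hω]
    · right
      refine le_antisymm hM fun g hg => ?_
      have e0 : ψ (P⁻¹ * g * P) = g := by rw [hψ]; group
      rw [← e0]
      exact htop ((hSU _).mp (e0.symm ▸ hg))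

end Cfsg.Agent.Classical.UThree.Hess
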