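/-
No subgroup of `GL_2` has a diagonal point stabiliser which is a Frobenius complement with an element of
large order.
-/
import Cfsg.Agent.Lib.Solv.Frobenius

set_option autoImplicit false
set_option linter.unusedSectionVars false

namespace Cfsg.Agent.Classical.UThree

open Matrix Cfsg
open scoped Pointwise

variable {G : Type*} [Group G] [Finite G]

/-- An abelian subgroup of the kernel normalised by an element of the complement. -/
theorem exists_normalised {C : Subgroup G} (hC : IsFrobeniusComplement C) {h : G} (hh : h ∈ C) (h1 : h ≠ 1) :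
    ∃ A : Subgroup G, A ≠ ⊥ ∧ (∀ x ∈ A, ∀ y ∈ A, x * y = y * x) ∧ (∀ x ∈ A, x ≠ 1 → x ∉ C) ∧
      ∀ x ∈ A, h * x * h⁻¹ ∈ A := by
  classical
  obtain ⟨N, hN, hNn, hcompl⟩ := Cfsg.Agent.Solv.frobenius_theorem hC
  haveI := hNn
  have hout : ∀ x ∈ N, x ≠ 1 → ∀ g : G, g⁻¹ * x * g ∉ C := fun x hx hx1 g hg => by
    have : x ∈ frobeniusKernel C := hN ▸ hx
    rcases this with h' | h'
    · exact hx1 h'
    · refine h' g ?_
      rw [Subgroup.mem_pointwise_smul_iff_inv_smul_mem, ← map_inv, MulAut.smul_def, MulAut.conj_apply, inv_inv]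
      exact hg
  have hN1 : N ≠ ⊥ := fun e => hC.2.1 (by
    rw [← Subgroup.index_eq_one, hcompl.index_eq_card, Subgroup.card_eq_one.mpr e])
  obtain ⟨r, hr, hrN⟩ := Nat.exists_prime_and_dvd (n := Nat.card N) (fun e => hN1 (Subgroup.card_eq_one.mp e))
  haveI : Fact r.Prime := ⟨hr⟩
  let R : Sylow r N := default
  haveI : Nontrivial (R : Subgroup N) := (Subgroup.nontrivial_iff_ne_bot _).mpr (R.ne_bot_of_dvd_card hrN)
  haveI := R.isPGroup'.center_nontrivial
  -- an element of the normaliser in the coset of `h`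
  obtain ⟨RG, hRG⟩ : ∃ RG : Subgroup G, RG = (R : Subgroup N).map N.subtype := ⟨_, rfl⟩
  have hfr : Subgroup.normalizer (RG : Set G) ⊔ N = ⊤ := hRG ▸ Sylow.normalizer_sup_eq_top R
  obtain ⟨y, hy, n, hn, hyn⟩ : ∃ y ∈ Subgroup.normalizer (RG : Set G), ∃ n ∈ N, y * n = h := by
    have : h ∈ ((Subgroup.normalizer (RG : Set G) ⊔ N : Subgroup G) : Set G) := hfr ▸ Subgroup.mem_top h
    rw [Subgroup.mul_normal] at this
    exact this
  have hhN : h ∉ N := fun hm => hout h hm h1 1 (by simpa using hh)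
  have hyN : y ∉ N := fun hm => hhN (hyn ▸ mul_mem hm hn)
  obtain ⟨c, hc⟩ : ∃ c : G, c⁻¹ * y * c ∈ C := by
    have : y ∉ frobeniusKernel C := by rw [← hN]; exact hyN
    simp only [frobeniusKernel, Set.mem_setOf_eq, not_or, not_forall, not_not] at this
    obtain ⟨-, c, hc⟩ := this
    rw [Subgroup.mem_pointwise_smul_iff_inv_smul_mem, ← map_inv, MulAut.smul_def, MulAut.conj_apply, inv_inv] at hc
    exact ⟨c, hc⟩
  obtain ⟨⟨⟨m, hm⟩, ⟨c₀, hc₀⟩⟩, hmc : m * c₀ = c⟩ := hcompl.surjective c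
  have he : m⁻¹ * y * m ∈ C := by
    have := mul_mem (mul_mem hc₀ hc) (inv_mem hc₀)
    rwa [← hmc, show c₀ * ((m * c₀)⁻¹ * y * (m * c₀)) * c₀⁻¹ = m⁻¹ * y * m by group] at this
  have heq : m⁻¹ * y * m = h := by
    have hd : (m⁻¹ * y * m)⁻¹ * h ∈ N := by
      rw [← hyn, show (m⁻¹ * y * m)⁻¹ * (y * n) = m⁻¹ * (y⁻¹ * m * y) * n by group]
      exact mul_mem (mul_mem (inv_mem hm) (by simpa using hNn.conj_mem m hm y⁻¹)) hn
    by_contra hne
    exact hout _ hd (fun e => hne (inv_mul_eq_one.mp e)) 1 (by simpa using mul_mem (inv_mem he) hh)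
  let A : Subgroup G := ((Subgroup.center (R : Subgroup N)).map ((MulAut.conj m⁻¹).toMonoidHom.comp
    (N.subtype.comp (R : Subgroup N).subtype)))
  have mem : ∀ x ∈ A, ∃ s : (R : Subgroup N), s ∈ Subgroup.center (R : Subgroup N) ∧ x = m⁻¹ * (s : G) * m := by
    rintro x ⟨s, hs, rfl⟩
    exact ⟨s, hs, by simp⟩
  refine ⟨A, fun e => ?_, fun x hx y' hy' => ?_, fun x hx hx1 => ?_, fun x hx => ?_⟩
  · rw [Subgroup.map_eq_bot_iff] at e
    obtain ⟨s, hs⟩ := exists_ne (1 : Subgroup.center (R : Subgroup N))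
    have := MonoidHom.mem_ker.mp (e s.2)
    simp only [MonoidHom.comp_apply, MulEquiv.toMonoidHom_eq_coe, MonoidHom.coe_coe, MulAut.conj_apply] at this
    have : (((s : (R : Subgroup N)) : N) : G) = 1 := by
      have := congrArg (fun t => m * t * m⁻¹) this
      simpa [mul_assoc] using this
    exact hs (Subtype.ext (Subtype.ext (Subtype.ext this)))
  · obtain ⟨s, hs, rfl⟩ := mem x hx
    obtain ⟨t, -, rfl⟩ := mem y' hy'
    have := congrArg (fun u : (R : Subgroup N) => m⁻¹ * (u : G) * m) (Subgroup.mem_center_iff.mp hs t).symm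
    simp only [Subgroup.coe_mul] at this
    rw [show m⁻¹ * ((s : N) : G) * m * (m⁻¹ * ((t : N) : G) * m) = m⁻¹ * (((s : N) : G) * ((t : N) : G)) * m by group, this]
    group
  · obtain ⟨s, -, rfl⟩ := mem x hx
    refine fun hxC => hout (s : G) (s : N).2 (fun e => hx1 (by rw [e]; group)) m (by simpa using hxC)
  · obtain ⟨s, hs, rfl⟩ := mem x hx
    have hys : y * (s : G) * y⁻¹ ∈ RG := (Subgroup.mem_normalizer_iff.mp hy _).mp (hRG ▸ ⟨(s : N), s.2, rfl⟩)
    rw [hRG] at hys
    obtain ⟨w, hw, hwe⟩ := hys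
    refine ⟨⟨w, hw⟩, Subgroup.mem_center_iff.mpr fun t => ?_, ?_⟩
    · -- the centre is preserved
      have hyt : y⁻¹ * (t : G) * y ∈ RG := by
        have := Subgroup.mem_normalizer_iff.mp (inv_mem hy) (t : G)
        rw [inv_inv] at this
        exact this.mp (hRG ▸ ⟨(t : N), t.2, rfl⟩)
      rw [hRG] at hyt
      obtain ⟨v, hv, hve⟩ := hyt
      have := congrArg (fun u : (R : Subgroup N) => y * (u : G) * y⁻¹) (Subgroup.mem_center_iff.mp hs ⟨v, hv⟩)
      refine Subtype.ext (Subtype.ext ?_)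
      simp only [Subgroup.coe_mul] at this ⊢
      simp only [Subgroup.coe_subtype] at hwe hve
      rw [hve] at this
      rw [hwe]
      calc (t : G) * (y * (s : G) * y⁻¹) = y * (y⁻¹ * (t : G) * y * (s : G)) * y⁻¹ := by group
        _ = y * ((s : G) * (y⁻¹ * (t : G) * y)) * y⁻¹ := this
        _ = y * (s : G) * y⁻¹ * (t : G) := by group
    · simp only [MonoidHom.comp_apply, MulEquiv.toMonoidHom_eq_coe, MonoidHom.coe_coe, MulAut.conj_apply,
        Subgroup.coe_subtype] at hwe ⊢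
      rw [hwe, ← heq]
      group

/-- A nontrivial group of order at most four admits no such element of order above three. -/
theorem small_action {C A : Subgroup G} (hC : IsFrobeniusComplement C) {h : G} (hh : h ∈ C) (hA : A ≠ ⊥)
    (hout : ∀ x ∈ A, x ≠ 1 → x ∉ C) (hn : ∀ x ∈ A, h * x * h⁻¹ ∈ A) (h4 : Nat.card A ≤ 4) :
    h ^ 2 = 1 ∨ h ^ 3 = 1 := by
  classical
  have fpf : ∀ x ∈ A, x ≠ 1 → ∀ i : ℕ, h ^ i * x * (h ^ i)⁻¹ = x → h ^ i = 1 := fun x hx hx1 i he => by
    have := hC.2.2 x (hout x hx hx1)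
    rw [eq_bot_iff] at this
    refine Subgroup.mem_bot.mp (this ⟨pow_mem hh i, ?_⟩)
    show h ^ i ∈ MulAut.conj x • C
    rw [Subgroup.mem_pointwise_smul_iff_inv_smul_mem, ← map_inv, MulAut.smul_def, MulAut.conj_apply, inv_inv]
    have : x⁻¹ * h ^ i * x = h ^ i := by
      have e : h ^ i * x = x * h ^ i := mul_inv_eq_iff_eq_mul.mp he
      rw [mul_assoc, e, inv_mul_cancel_left]
    rw [this]
    exact pow_mem hh i
  obtain ⟨x, hx1⟩ := (Subgroup.ne_bot_iff_exists_ne_one.mp hA)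
  have hx : (x : G) ≠ 1 := fun e => hx1 (Subtype.ext e)
  have hmem : ∀ i : ℕ, h ^ i * (x : G) * (h ^ i)⁻¹ ∈ A := fun i => by
    induction i with
    | zero => simp
    | succ i ih =>
      have := hn _ ih
      rwa [show h * (h ^ i * (x : G) * (h ^ i)⁻¹) * h⁻¹ = h ^ (i + 1) * (x : G) * (h ^ (i + 1))⁻¹ by
        rw [pow_succ']; group] at this
  let f : Fin 4 → {y : A // y ≠ 1} := fun i => ⟨⟨_, hmem i⟩, fun e => hx (by
    have := congrArg Subtype.val e
    simpa [mul_assoc] using congrArg (fun t => (h ^ (i : ℕ))⁻¹ * t * h ^ (i : ℕ)) this)⟩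
  have hcard : Nat.card {y : A // y ≠ 1} < Nat.card (Fin 4) := by
    haveI : Fintype A := Fintype.ofFinite A
    rw [Nat.card_eq_fintype_card, Fintype.card_subtype_compl, Fintype.card_subtype_eq, Nat.card_fin]
    rw [Nat.card_eq_fintype_card] at h4
    omega
  obtain ⟨i, j, hij, hne⟩ : ∃ i j, f i = f j ∧ i ≠ j := by
    by_contra hcon
    push Not at hcon
    exact hcard.not_ge (Nat.card_le_card_of_injective f hcon)
  wlog hlt : (i : ℕ) < j generalizing i j
  · exact this j i hij.symm hne.symm (lt_of_le_of_ne (not_lt.mp hlt) fun e => hne (Fin.ext e.symm))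
  have e := congrArg (fun y : {y : A // y ≠ 1} => (h ^ (i : ℕ))⁻¹ * ((y : A) : G) * h ^ (i : ℕ)) hij
  simp only [f] at e
  obtain ⟨d, hd⟩ : ∃ d, (j : ℕ) = i + d := ⟨j - i, by omega⟩
  have hfix : h ^ d * (x : G) * (h ^ d)⁻¹ = x := by
    rw [hd, pow_add] at e
    simpa [mul_assoc] using e.symm
  have h1 := fpf _ x.2 hx d hfix
  have hd4 : d ≤ 3 := by have := j.isLt; omega
  have hd1 : 1 ≤ d := by omega
  interval_cases d
  · left; rw [pow_one] at h1; rw [h1, one_pow]
  · left; exact h1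
  · right; exact h1

variable {F : Type*} [Field F]

/-- Two-by-two matrices commuting with a nonscalar one. -/
theorem comm_span {Y Z : Matrix (Fin 2) (Fin 2) F} (hb : Z 0 1 ≠ 0) (h : Y * Z = Z * Y) :
    ∃ s t : F, Y = s • 1 + t • Z := by
  have e := fun i j => congrFun (congrFun h i) j
  simp [Matrix.mul_apply, Fin.sum_univ_two] at e
  refine ⟨Y 0 0 - Y 0 1 / Z 0 1 * Z 0 0, Y 0 1 / Z 0 1, ?_⟩
  ext i j
  fin_cases i <;> fin_cases j <;> simp [Matrix.one_apply]
  · rw [div_mul_cancel₀ _ hb]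
  · field_simp; linear_combination -(e.1.1)
  · field_simp; linear_combination -e.1.2

/-- The statement. -/
theorem no_frobenius_two (ρ : G →* GL (Fin 2) F)
    (hdiag : ∀ g, (ρ g : Matrix (Fin 2) (Fin 2) F) 1 0 = 0 → (ρ g : Matrix (Fin 2) (Fin 2) F) 0 1 = 0)
    (hdiag' : ∀ g, (ρ g : Matrix (Fin 2) (Fin 2) F) 0 1 = 0 → (ρ g : Matrix (Fin 2) (Fin 2) F) 1 0 = 0)
    (hanti : ∀ g, (ρ g : Matrix (Fin 2) (Fin 2) F) 0 0 = 0 → False)
    {h g₁ : G} (hg₁ : (ρ g₁ : Matrix (Fin 2) (Fin 2) F) 1 0 ≠ 0) (hh : (ρ h : Matrix (Fin 2) (Fin 2) F) 1 0 = 0)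
    (h2 : (ρ h : Matrix (Fin 2) (Fin 2) F) 0 0 ^ 2 ≠ (ρ h : Matrix (Fin 2) (Fin 2) F) 1 1 ^ 2)
    (h3 : (2 : F) ≠ 0 → (ρ h : Matrix (Fin 2) (Fin 2) F) 0 0 ^ 3 ≠ (ρ h : Matrix (Fin 2) (Fin 2) F) 1 1 ^ 3) :
    False := by
  classical
  let m : G → Matrix (Fin 2) (Fin 2) F := fun g => (ρ g : Matrix (Fin 2) (Fin 2) F)
  have hm : ∀ a b, m (a * b) = m a * m b := fun a b => by simp [m]
  have hdet : ∀ g, (m g).det ≠ 0 := fun g => ((ρ g).isUnit.map Matrix.detMonoidHom).ne_zero
  have hinv : ∀ g, m g * m g⁻¹ = 1 ∧ m g⁻¹ * m g = 1 := fun g => by simp [m, ← Units.val_mul]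
  let Sc : Subgroup G := (Subgroup.center (GL (Fin 2) F)).comap ρ
  haveI : Sc.Normal := (inferInstance : (Subgroup.center (GL (Fin 2) F)).Normal).comap ρ
  have sc_iff : ∀ g, g ∈ Sc ↔ ∃ s : F, m g = s • 1 := fun g => by
    show ρ g ∈ Subgroup.center (GL (Fin 2) F) ↔ _
    constructor
    · intro hg
      rw [Matrix.GeneralLinearGroup.center_eq_range_scalar] at hg
      obtain ⟨u, hu⟩ := hg
      exact ⟨u, by simp only [m, ← hu]; exact (Matrix.smul_one_eq_diagonal _).symm⟩
    · rintro ⟨s, hs⟩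
      refine Subgroup.mem_center_iff.mpr fun x => Units.ext ?_
      simp only [Units.val_mul]
      change x.val * m g = m g * x.val
      simp [hs]
  let C0 : Subgroup G :=
    { carrier := {g | m g 1 0 = 0}
      one_mem' := by simp [m]
      mul_mem' := fun {a b} ha hb => by
        simp only [Set.mem_setOf_eq] at ha hb ⊢
        rw [hm, Matrix.mul_apply, Fin.sum_univ_two, ha, hb]; ring
      inv_mem' := fun {a} ha => by
        simp only [Set.mem_setOf_eq] at ha ⊢
        have e1 := congrFun (congrFun (hinv a).1 1) 0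
        simp [Matrix.mul_apply, Fin.sum_univ_two, ha] at e1
        refine e1.resolve_left fun h0 => hdet a ?_
        rw [Matrix.det_fin_two, ha, h0]; ring }
  have hC0 : ∀ g, g ∈ C0 ↔ m g 1 0 = 0 := fun g => Iff.rfl
  have hti : ∀ c ∈ C0, ∀ g ∉ C0, g⁻¹ * c * g ∈ C0 → c ∈ Sc := fun c hc g hg hcg => by
    have e : m c * m g = m g * m (g⁻¹ * c * g) := by rw [← hm, ← hm]; congr 1; group
    have e0 := congrFun (congrFun e 0) 0
    have e1 := congrFun (congrFun e 1) 0
    rw [Matrix.mul_apply, Matrix.mul_apply, Fin.sum_univ_two, Fin.sum_univ_two, (hC0 _).mp hcg, show m c 0 1 = 0 from hdiag c hc] at e0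
    rw [Matrix.mul_apply, Matrix.mul_apply, Fin.sum_univ_two, Fin.sum_univ_two, (hC0 _).mp hcg, (hC0 _).mp hc] at e1
    have hg0 : m g 0 0 ≠ 0 := fun h0 => hanti g h0
    have hg1 : m g 1 0 ≠ 0 := fun h0 => hg ((hC0 g).mpr h0)
    refine (sc_iff c).mpr ⟨m c 0 0, ?_⟩
    have heq : m c 1 1 = m c 0 0 := by
      have a0 : m c 0 0 = m (g⁻¹ * c * g) 0 0 := mul_right_cancel₀ hg0 (by linear_combination e0)
      exact mul_right_cancel₀ hg1 (by linear_combination e1 - m g 1 0 * a0)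
    have c10 : m c 1 0 = 0 := hc
    have c01 : m c 0 1 = 0 := hdiag c hc
    ext i j
    fin_cases i <;> fin_cases j <;> simp [heq, c10, c01]
  -- the quotient
  let π := QuotientGroup.mk' Sc
  have hπ : ∀ a b : G, π a = π b ↔ a⁻¹ * b ∈ Sc := fun a b => QuotientGroup.eq
  have hScC0 : Sc ≤ C0 := fun g hg => by
    obtain ⟨s, hs⟩ := (sc_iff g).mp hg
    show m g 1 0 = 0
    simp [hs]
  have hback : ∀ g : G, π g ∈ C0.map π → g ∈ C0 := fun g hg => by
    have : g ∈ (C0.map π).comap π := hg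
    rwa [Subgroup.comap_map_eq, QuotientGroup.ker_mk', sup_eq_left.mpr hScC0] at this
  have hh0 : h ∉ Sc := fun hm' => by
    obtain ⟨s, hs⟩ := (sc_iff h).mp hm'
    apply h2
    change m h 0 0 ^ 2 = m h 1 1 ^ 2
    simp [hs]
  have hπh : π h ≠ 1 := fun e => hh0 ((QuotientGroup.eq_one_iff h).mp e)
  have hF : IsFrobeniusComplement (C0.map π) := by
    refine ⟨fun e => hπh ?_, fun e => hg₁ (hback g₁ (e ▸ Subgroup.mem_top _)), fun g hg => ?_⟩
    · exact Subgroup.mem_bot.mp (e ▸ Subgroup.mem_map_of_mem π ((hC0 h).mpr hh))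
    obtain ⟨g, rfl⟩ := QuotientGroup.mk'_surjective Sc g
    rw [eq_bot_iff]
    rintro x ⟨hx1, hx2⟩
    obtain ⟨c, hc, rfl⟩ := hx1
    change π c ∈ MulAut.conj (QuotientGroup.mk' Sc g) • Subgroup.map π C0 at hx2
    rw [Subgroup.mem_pointwise_smul_iff_inv_smul_mem, ← map_inv, MulAut.smul_def, MulAut.conj_apply,
      inv_inv, ← map_inv, ← map_mul, ← map_mul] at hx2
    exact Subgroup.mem_bot.mpr ((QuotientGroup.eq_one_iff c).mpr
      (hti c hc g (fun hgC => hg (Subgroup.mem_map_of_mem π hgC)) (hback _ hx2)))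
  obtain ⟨A, hA, hab, hout, hnorm⟩ := exists_normalised hF (Subgroup.mem_map_of_mem π ((hC0 h).mpr hh)) hπh
  have hout' : ∀ z : G, π z ∈ A → π z ≠ 1 → m z 1 0 ≠ 0 ∧ m z 0 1 ≠ 0 := fun z hz hz1 =>
    ⟨fun e => hout _ hz hz1 (Subgroup.mem_map_of_mem π ((hC0 z).mpr e)),
      fun e => hout _ hz hz1 (Subgroup.mem_map_of_mem π ((hC0 z).mpr (hdiag' z e)))⟩
  -- commuting up to sign
  have hsign : ∀ y z : G, π y ∈ A → π z ∈ A → ∃ ε : F, ε * ε = 1 ∧ m y * m z = ε • (m z * m y) := fun y z hy hz => by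
    have hh' := (hπ (z * y) (y * z)).mp (by rw [map_mul, map_mul]; exact hab _ hz _ hy)
    obtain ⟨s, hs⟩ := (sc_iff _).mp hh'
    have e : m y * m z = s • (m z * m y) := by
      rw [← hm, ← hm, show y * z = z * y * ((z * y)⁻¹ * (y * z)) by group, hm, hs]
      simp
    refine ⟨s, ?_, e⟩
    have := congrArg Matrix.det e
    rw [Matrix.det_smul, Matrix.det_mul, Matrix.det_mul, Fintype.card_fin] at this
    exact mul_right_cancel₀ (mul_ne_zero (hdet z) (hdet y)) (by linear_combination -this)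
  obtain ⟨z, hzA, hz1⟩ : ∃ z : G, π z ∈ A ∧ π z ≠ 1 := by
    obtain ⟨x, hx⟩ := Subgroup.ne_bot_iff_exists_ne_one.mp hA
    obtain ⟨z, hz⟩ := QuotientGroup.mk'_surjective Sc (x : G ⧸ Sc)
    exact ⟨z, hz ▸ x.2, fun e => hx (Subtype.ext (hz.symm.trans e))⟩
  obtain ⟨hzc, hzb⟩ := hout' z hzA hz1
  by_cases hall : ∀ y : G, π y ∈ A → m y * m z = m z * m y
  · -- `h` normalises the commutant
    obtain ⟨w, hw⟩ : ∃ w, w = h * z * h⁻¹ := ⟨_, rfl⟩
    have hwA : π w ∈ A := by rw [hw, map_mul, map_mul, map_inv]; exact hnorm _ hzA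
    obtain ⟨s, t, hst⟩ := comm_span hzb (hall w hwA)
    have e : m w * m h = m h * m z := by rw [← hm, ← hm, hw]; congr 1; group
    have hh1 : m h 1 0 = 0 := hh
    have hh01 : m h 0 1 = 0 := hdiag h hh
    rw [hst] at e
    have e01 := congrFun (congrFun e 0) 1
    have e10 := congrFun (congrFun e 1) 0
    simp [Matrix.mul_apply, Fin.sum_univ_two, hh1, hh01] at e01 e10
    have t1 : t * m h 1 1 = m h 0 0 := mul_left_cancel₀ hzb (by linear_combination e01)
    have t2 : t * m h 0 0 = m h 1 1 := mul_left_cancel₀ hzc (by linear_combination e10)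
    apply h2
    change m h 0 0 ^ 2 = m h 1 1 ^ 2
    linear_combination -(m h 0 0) * t1 + m h 1 1 * t2
  · push Not at hall
    obtain ⟨y, hyA, hyz⟩ := hall
    have two : (2 : F) ≠ 0 := fun h0 => by
      obtain ⟨ε, hε, he⟩ := hsign y z hyA hzA
      have : (ε - 1) * (ε - 1) = 0 := by linear_combination hε + (1 - ε) * h0
      rw [sub_eq_zero.mp (mul_self_eq_zero.mp this), one_smul] at he
      exact hyz he
    have hy1 : π y ≠ 1 := fun e => by
      obtain ⟨s, hs⟩ := (sc_iff y).mp ((QuotientGroup.eq_one_iff y).mp e)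
      exact hyz (by simp [hs])
    obtain ⟨hyc, hyb⟩ := hout' y hyA hy1
    have anti : m y * m z = -(m z * m y) := by
      obtain ⟨ε, hε, he⟩ := hsign y z hyA hzA
      rcases mul_eq_zero.mp (show (ε - 1) * (ε + 1) = 0 by linear_combination hε) with h' | h'
      · exact absurd (by rw [he, sub_eq_zero.mp h', one_smul]) hyz
      · rw [he, eq_neg_of_add_eq_zero_left h', neg_one_smul]
    have flip : ∀ {u v : G}, π u ∈ A → π v ∈ A → m u * m v ≠ m v * m u → m u * m v = -(m v * m u) :=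
      fun {u v} hu hv hne => by
        obtain ⟨ε, hε, he⟩ := hsign u v hu hv
        rcases mul_eq_zero.mp (show (ε - 1) * (ε + 1) = 0 by linear_combination hε) with h' | h'
        · exact absurd (by rw [he, sub_eq_zero.mp h', one_smul]) hne
        · rw [he, eq_neg_of_add_eq_zero_left h', neg_one_smul]
    have key : ∀ u : G, π u ∈ A → m u * m z = m z * m u → m u * m y = m y * m u → π u = 1 := fun u hu h1 h2' => by
      obtain ⟨s, t, hst⟩ := comm_span hzb h1
      refine (QuotientGroup.eq_one_iff u).mpr ((sc_iff u).mpr ⟨s, ?_⟩)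
      rw [hst, Matrix.add_mul, Matrix.mul_add, Matrix.smul_mul, Matrix.smul_mul, Matrix.mul_smul, Matrix.mul_smul,
        Matrix.one_mul, Matrix.mul_one, add_right_inj, anti, smul_neg] at h2'
      have ht : t = 0 := by
        by_contra ht
        have h4 : (t * 2) • (m z * m y) = 0 := by
          rw [mul_smul, two_smul, smul_add]
          nth_rewrite 1 [h2']
          exact neg_add_cancel _
        have := congrArg Matrix.det h4
        rw [Matrix.det_smul, Matrix.det_mul, Matrix.det_zero, Fintype.card_fin] at this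
        exact mul_ne_zero (pow_ne_zero 2 (mul_ne_zero ht two)) (mul_ne_zero (hdet z) (hdet y)) this
      rw [hst, ht, zero_smul, add_zero]
    let f : A → Bool × Bool := fun a =>
      (decide (m (Function.surjInv (QuotientGroup.mk'_surjective Sc) a.1) * m z = m z * m (Function.surjInv (QuotientGroup.mk'_surjective Sc) a.1)),
       decide (m (Function.surjInv (QuotientGroup.mk'_surjective Sc) a.1) * m y = m y * m (Function.surjInv (QuotientGroup.mk'_surjective Sc) a.1)))
    have hf : Function.Injective f := fun a b hab' => by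
      obtain ⟨u, hu⟩ : ∃ u, u = Function.surjInv (QuotientGroup.mk'_surjective Sc) a.1 := ⟨_, rfl⟩
      obtain ⟨v, hv⟩ : ∃ v, v = Function.surjInv (QuotientGroup.mk'_surjective Sc) b.1 := ⟨_, rfl⟩
      have eu : π u = a.1 := hu ▸ Function.surjInv_eq _ _
      have ev : π v = b.1 := hv ▸ Function.surjInv_eq _ _
      simp only [f, Prod.mk.injEq, decide_eq_decide, ← hu, ← hv] at hab'
      have hcomm : ∀ x : G, π x ∈ A → (m u * m x = m x * m u ↔ m v * m x = m x * m v) →
          m (u⁻¹ * v) * m x = m x * m (u⁻¹ * v) := fun x hx hiff => by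
        rw [hm]
        by_cases hc : m u * m x = m x * m u
        · have hc' := hiff.mp hc
          have hi : m u⁻¹ * m x = m x * m u⁻¹ := by
            calc m u⁻¹ * m x = m u⁻¹ * (m x * m u) * m u⁻¹ := by rw [mul_assoc, mul_assoc, (hinv u).1, mul_one]
              _ = m u⁻¹ * (m u * m x) * m u⁻¹ := by rw [hc]
              _ = m x * m u⁻¹ := by rw [← mul_assoc, (hinv u).2, one_mul]
          rw [mul_assoc, hc', ← mul_assoc, hi, mul_assoc]
        · have hc' : ¬ (m v * m x = m x * m v) := fun h' => hc (hiff.mpr h')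
          have a1 := flip (eu ▸ a.2) hx hc
          have a2 := flip (ev ▸ b.2) hx hc'
          have hi : m u⁻¹ * m x = -(m x * m u⁻¹) := by
            calc m u⁻¹ * m x = m u⁻¹ * (m x * m u) * m u⁻¹ := by rw [mul_assoc, mul_assoc, (hinv u).1, mul_one]
              _ = m u⁻¹ * (-(m u * m x)) * m u⁻¹ := by rw [a1, neg_neg]
              _ = -(m x * m u⁻¹) := by rw [Matrix.mul_neg, Matrix.neg_mul, ← mul_assoc, (hinv u).2, one_mul]
          rw [mul_assoc, a2, Matrix.mul_neg, ← mul_assoc, hi, Matrix.neg_mul, neg_neg, mul_assoc]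
      have h1 : π (u⁻¹ * v) = 1 := key _ (by rw [map_mul, map_inv, eu, ev]; exact mul_mem (inv_mem a.2) b.2)
        (hcomm z hzA hab'.1) (hcomm y hyA hab'.2)
      rw [map_mul, map_inv, eu, ev, inv_mul_eq_one] at h1
      exact Subtype.ext h1
    have h4 : Nat.card A ≤ 4 := (Nat.card_le_card_of_injective f hf).trans (by simp)
    rcases small_action hF (Subgroup.mem_map_of_mem π ((hC0 h).mpr hh)) hA hout hnorm h4 with e | e <;>
      rw [← map_pow, ← map_one π, eq_comm, hπ, inv_one, one_mul, sc_iff] at e <;> obtain ⟨s, hs⟩ := e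
    all_goals
      have d0 := congrFun (congrFun hs 0) 0
      have d1 := congrFun (congrFun hs 1) 1
      simp [pow_succ, hm, Matrix.mul_apply, Fin.sum_univ_two, show m h 1 0 = 0 from hh, show m h 0 1 = 0 from hdiag h hh] at d0 d1
    · exact h2 (by show m h 0 0 ^ 2 = m h 1 1 ^ 2; linear_combination d0 - d1)
    · exact h3 two (by show m h 0 0 ^ 3 = m h 1 1 ^ 3; linear_combination d0 - d1)

end Cfsg.Agent.Classical.UThree
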