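/-
Two opposite groups of transvections over a subfield of odd prime index.
-/
import Cfsg.Agent.Lib.Classical.Dickson.Classify
import Cfsg.Agent.Lib.Classical.Dickson.Orders
import Cfsg.Agent.Lib.Classical.Subfield

set_option autoImplicit false
set_option linter.unusedSectionVars false
set_option maxHeartbeats 400000

namespace Cfsg.Agent.Classical.UThree

open Cfsg.Agent.Small
open Cfsg.Agent.Classical.Dickson (Kind)

universe u

variable {k : Type u} [Field k] [Fintype k]

local notation "SL2" => Matrix.SpecialLinearGroup (Fin 2) k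

theorem mem_iff_pow (K : Subfield k) : ∀ x : k, x ∈ K ↔ x ^ Nat.card K = x := by
  obtain ⟨p, hchar⟩ := CharP.exists k
  obtain ⟨⟨e, he⟩, hp, hcard⟩ := FiniteField.card k p
  obtain ⟨b, -, -, hb, hiff⟩ := subfield_card_eq hp hcard K
  intro x; rw [hb]; exact hiff x

/-- A root of a quadratic over a subfield of odd index is in it. -/
theorem quad_mem {k0 : Subfield k} {r : ℕ} (hro : Odd r) (hcard : Fintype.card k = Nat.card k0 ^ r) {x α β : k}
    (hα : α ∈ k0) (hβ : β ∈ k0) (h : x * x + α * x + β = 0) : x ∈ k0 := by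
  obtain ⟨p, hchar⟩ := CharP.exists k
  obtain ⟨⟨e, he⟩, hp, hc⟩ := FiniteField.card k p
  obtain ⟨b, -, -, hb, hiff⟩ := subfield_card_eq hp hc k0
  haveI : ExpChar k p := ExpChar.prime hp
  let φ : k →+* k := iterateFrobenius k p b
  have hφ : ∀ y, φ y = y ^ Nat.card k0 := fun y => by rw [hb]; rfl
  have hφi : Function.Injective φ := φ.injective
  have hroot : ∀ y, y * y + α * y + β = 0 → φ y * φ y + α * φ y + β = 0 := fun y hy => by
    have := congrArg φ hy
    rw [map_add, map_add, map_mul, map_mul, map_zero, hφ α, hφ β, (mem_iff_pow k0 α).mp hα,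
      (mem_iff_pow k0 β).mp hβ] at this
    exact this
  by_contra hx
  have h1 : φ x ≠ x := fun e' => hx ((mem_iff_pow k0 x).mpr (by rw [← hφ, e']))
  have h2 : φ (φ x) = x := by
    have hne : φ (φ x) ≠ φ x := fun e' => h1 (hφi e')
    have e1 := hroot x h
    have e2 := hroot _ e1
    have s1 : φ x + x + α = 0 := by
      refine (mul_eq_zero.mp ?_).resolve_left (sub_ne_zero.mpr h1)
      linear_combination e1 - h
    have s2 : φ (φ x) + φ x + α = 0 := by
      refine (mul_eq_zero.mp ?_).resolve_left (sub_ne_zero.mpr hne)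
      linear_combination e2 - e1
    linear_combination s2 - s1
  obtain ⟨i, hi⟩ := hro
  have hpow : ∀ j, x ^ (Nat.card k0 ^ (2 * j)) = x := fun j => by
    induction j with
    | zero => simp
    | succ j ih =>
      rw [show 2 * (j + 1) = 2 * j + 1 + 1 by ring, pow_succ, pow_succ, pow_mul, pow_mul, ih, ← hφ, ← hφ, h2]
  refine h1 ?_
  have hk := FiniteField.pow_card x
  rw [hcard, hi, pow_succ, pow_mul, hpow] at hk
  rw [hφ]; exact hk

/-- A proper subfield above a subfield of prime index is that subfield. -/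
theorem eq_of_le {k0 K : Subfield k} {r : ℕ} (hr : r.Prime) (hcard : Fintype.card k = Nat.card k0 ^ r)
    (hle : k0 ≤ K) (hK : K ≠ ⊤) : ∀ x ∈ K, x ∈ k0 := by
  obtain ⟨p, hchar⟩ := CharP.exists k
  obtain ⟨⟨e, he⟩, hp, hc⟩ := FiniteField.card k p
  change Fintype.card k = p ^ e at hc
  obtain ⟨b, hb0, hbe, hb, -⟩ := subfield_card_eq hp hc k0
  obtain ⟨c, hc0, hce, hcK, hKiff⟩ := subfield_card_eq hp hc K
  have her : e = b * r := Nat.pow_right_injective hp.two_le (by
    show p ^ e = p ^ (b * r)
    rw [← hc, hcard, hb, pow_mul])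
  haveI : Fintype k0 := Fintype.ofFinite _
  haveI : Fintype K := Fintype.ofFinite _
  letI : Algebra k0 K := (Subfield.inclusion hle).toAlgebra
  have hfr := Module.card_eq_pow_finrank (K := k0) (V := K)
  rw [← Nat.card_eq_fintype_card, ← Nat.card_eq_fintype_card, hcK, hb, ← pow_mul] at hfr
  have hcb : c = b * Module.finrank k0 K := Nat.pow_right_injective hp.two_le hfr
  rw [her, hcb] at hce
  have hd := Nat.dvd_of_mul_dvd_mul_left hb0 hce
  rcases (Nat.dvd_prime hr).mp hd with h1 | h1
  · rw [h1, mul_one] at hcb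
    intro x hx
    rw [mem_iff_pow k0 x, hb, ← hcb]
    exact (hKiff x).mp hx
  · exfalso
    refine hK (eq_top_iff.mpr fun x _ => (hKiff x).mpr ?_)
    rw [hcb, h1, ← her, ← hc]
    exact FiniteField.pow_card x

theorem uS_val (x : k) : (PSL2.uS x).1 = !![1, x; 0, 1] := rfl

theorem vS_val (x : k) : (PSL2.vS x).1 = !![1, 0; x, 1] := rfl

theorem uS_one_zero : PSL2.uS (0 : k) = 1 := by
  apply Subtype.ext; ext i j; fin_cases i <;> fin_cases j <;> simp [PSL2.val_mul, uS_val]

/-- The set of translations in a subgroup. -/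
def shiftGroup (G : Subgroup SL2) : AddSubgroup k where
  carrier := {x | PSL2.uS x ∈ G}
  zero_mem' := by simp only [Set.mem_setOf_eq, uS_one_zero]; exact one_mem G
  add_mem' := fun {a b} ha hb => by simp only [Set.mem_setOf_eq, PSL2.uS_add]; exact mul_mem ha hb
  neg_mem' := fun {a} ha => by
    simp only [Set.mem_setOf_eq] at ha ⊢
    rw [show PSL2.uS (-a) = (PSL2.uS a)⁻¹ from eq_inv_of_mul_eq_one_left (by rw [← PSL2.uS_add, neg_add_cancel, uS_one_zero])]
    exact inv_mem ha

theorem pr_eq_cases {A B : SL2} (h : PSL2.pr A = PSL2.pr B) : A.1 = B.1 ∨ A.1 = -B.1 := by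
  obtain ⟨ε, hε, he⟩ := (PSL2.pr_eq_iff A B).mp h
  rcases mul_eq_zero.mp (show (ε - 1) * (ε + 1) = 0 by linear_combination hε) with h' | h'
  · left; rw [he, sub_eq_zero.mp h', one_smul]
  · right; rw [he, eq_neg_of_add_eq_zero_left h', neg_one_smul]

theorem not_commute {μ : k} (hμ : μ ≠ 0) :
    PSL2.pr (PSL2.uS 1) * PSL2.pr (PSL2.vS μ) ≠ PSL2.pr (PSL2.vS μ) * PSL2.pr (PSL2.uS (1 : k)) := by
  intro h
  rw [← map_mul, ← map_mul] at h
  rcases pr_eq_cases h with h | h <;>
  · have a := congrFun (congrFun h 0) 0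
    have b := congrFun (congrFun h 0) 1
    simp [PSL2.val_mul, uS_val, vS_val, Matrix.mul_apply, Fin.sum_univ_two] at a b
    first
      | exact hμ a
      | exact hμ (by linear_combination a - b)

/-- The polyhedral cases. -/
theorem poly_case (k0 : Subfield k) {r : ℕ} (hro : Odd r) (hcard : Fintype.card k = Nat.card k0 ^ r)
    {G' : Subgroup SL2} {μ b : k} (h2 : (2 : k) ≠ 0) (hu : ∀ x ∈ k0, PSL2.uS x ∈ G') (hl : PSL2.vS μ ∈ G')
    (hb : PSL2.uS b ∈ G') {Q : Type*} [Group Q] (iso : ↥(G'.map PSL2.pr) ≃* Q)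
    (hsmall : ∀ x : Q, x ^ 2 = 1 ∨ x ^ 3 = 1 ∨ x ^ 4 = 1 ∨ x ^ 5 = 1) (hP : Nat.card Q ∣ 60 ∨ Nat.card Q ∣ 24) :
    b ∈ k0 ∧ μ ∈ k0 := by
  obtain ⟨p, hchar⟩ := CharP.exists k
  obtain ⟨⟨e, he⟩, hp, hc⟩ := FiniteField.card k p
  obtain ⟨b0, hb00, -, hk0, -⟩ := subfield_card_eq hp hc k0
  let S := shiftGroup G'
  have hSk : ∀ x ∈ k0, x ∈ S := fun x hx => hu x hx
  let φ : S → ↥(G'.map PSL2.pr) := fun x => ⟨PSL2.pr (PSL2.uS (x : k)), Subgroup.mem_map_of_mem _ x.2⟩
  have hφ : Function.Injective φ := fun x y h => Subtype.ext (PSL2.pr_uS_inj (congrArg Subtype.val h))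
  have hadd : ∀ x y : S, φ (x + y) = φ x * φ y := fun x y => Subtype.ext (by simp [φ, PSL2.uS_add])
  have h45 : ∀ y : ↥(G'.map PSL2.pr), ∃ n, 2 ≤ n ∧ n ≤ 5 ∧ y ^ n = 1 := fun y => by
    rcases hsmall (iso y) with h | h | h | h
    · exact ⟨2, le_rfl, by omega, iso.injective (by rw [map_pow, h, map_one])⟩
    · exact ⟨3, by omega, by omega, iso.injective (by rw [map_pow, h, map_one])⟩
    · exact ⟨4, by omega, by omega, iso.injective (by rw [map_pow, h, map_one])⟩
    · exact ⟨5, by omega, le_rfl, iso.injective (by rw [map_pow, h, map_one])⟩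
  have hp2 : p ≠ 2 := fun e' => h2 (by rw [← CharP.cast_eq_zero k p, e']; norm_num)
  have hp3 : 3 ≤ p := by have := hp.two_le; omega
  -- translations
  have hS : ∀ x ∈ S, x ∈ k0 := by
    have hdiv : Nat.card S ∣ 60 ∨ Nat.card S ∣ 24 := by
      have hd : Nat.card S ∣ Nat.card ↥(G'.map PSL2.pr) := by
        let f : Multiplicative S →* ↥(G'.map PSL2.pr) := MonoidHom.mk' (fun x => φ x.toAdd) fun x y => hadd _ _
        have := Subgroup.card_dvd_of_injective f fun x y h => hφ h
        exact this
      rw [Nat.card_congr iso.toEquiv] at hd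
      exact hP.imp hd.trans hd.trans
    obtain ⟨j, hj⟩ : ∃ j, Nat.card S = p ^ j := by
      haveI : Fact p.Prime := ⟨hp⟩
      have : IsPGroup p (Multiplicative S) := fun x => ⟨1, by
        refine Multiplicative.toAdd.injective ?_
        rw [pow_one, toAdd_pow, toAdd_one]
        exact Subtype.ext (by simp [CharP.cast_eq_zero])⟩
      exact (IsPGroup.iff_card.mp this).imp fun j hj => (Nat.card_congr Multiplicative.ofAdd).trans hj
    have hj1 : j ≤ 1 := by
      by_contra hj2
      push Not at hj2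
      have hpp : p ^ 2 ∣ Nat.card S := hj ▸ Nat.pow_dvd_pow p hj2
      rcases hdiv with h | h <;>
      · have h9 := hpp.trans h
        have := Nat.le_of_dvd (by norm_num) h9
        have hp7 : p ≤ 7 := by nlinarith
        interval_cases p <;> revert h9 <;> norm_num
    let ι : k0 → S := fun x => ⟨x, hSk x x.2⟩
    have hle' : Nat.card k0 ≤ Nat.card S :=
      Nat.card_le_card_of_injective ι fun a c h => Subtype.ext (congrArg (fun z : S => (z : k)) h)
    have hge : Nat.card S ≤ Nat.card k0 := by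
      rw [hj, hk0]; exact Nat.pow_le_pow_right hp.pos (le_trans hj1 hb00)
    intro x hx
    obtain ⟨z, hz⟩ := ((Nat.bijective_iff_injective_and_card ι).mpr
      ⟨fun a c h => Subtype.ext (congrArg (fun z : S => (z : k)) h), le_antisymm hle' hge⟩).2 ⟨x, hx⟩
    rw [← show (z : k) = x from congrArg Subtype.val hz]
    exact z.2
  refine ⟨hS b hb, ?_⟩
  obtain ⟨y, hy⟩ : ∃ y : SL2, y = PSL2.uS 1 * PSL2.vS μ := ⟨_, rfl⟩
  have hyG : PSL2.pr y ∈ G'.map PSL2.pr := Subgroup.mem_map_of_mem _
    (hy ▸ mul_mem (hu 1 (one_mem _)) hl)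
  obtain ⟨n, hn2, hn5, hn⟩ := h45 ⟨_, hyG⟩
  have hn' : PSL2.pr (y ^ n) = PSL2.pr 1 := by
    rw [map_pow, map_one]; exact congrArg Subtype.val hn
  obtain ⟨ε, -, hε⟩ := (PSL2.pr_eq_iff _ _).mp hn'
  have e01 := congrFun (congrFun hε 0) 1
  have hy' : y.1 = !![1 + μ, 1; μ, 1] := by
    rw [hy]; ext i j; fin_cases i <;> fin_cases j <;> simp [PSL2.val_mul, uS_val, vS_val, Matrix.mul_apply, Fin.sum_univ_two]
  simp only [Matrix.SpecialLinearGroup.coe_pow, Matrix.SpecialLinearGroup.coe_one, hy'] at e01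
  suffices ht : 2 + μ ∈ k0 by
    have := sub_mem ht (show (2 : k) ∈ k0 by exact_mod_cast natCast_mem k0 2)
    simpa using this
  obtain ⟨t, ht⟩ : ∃ t, t = 2 + μ := ⟨_, rfl⟩
  rw [← ht]
  interval_cases n <;> simp [pow_succ, Matrix.mul_apply, Fin.sum_univ_two] at e01
  · rw [show t = 0 by rw [ht]; linear_combination e01]; exact zero_mem _
  · exact quad_mem hro hcard (zero_mem _) (neg_mem (one_mem k0)) (by rw [ht]; linear_combination e01)
  · rcases mul_eq_zero.mp (show t * (t * t - 2) = 0 by rw [ht]; linear_combination e01) with h | h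
    · rw [h]; exact zero_mem _
    · exact quad_mem hro hcard (zero_mem _) (neg_mem (show (2 : k) ∈ k0 by exact_mod_cast natCast_mem k0 2))
        (by linear_combination h)
  · rcases mul_eq_zero.mp (show (t * t + t - 1) * (t * t - t - 1) = 0 by rw [ht]; linear_combination e01) with h | h
    · exact quad_mem hro hcard (one_mem _) (neg_mem (one_mem k0)) (by linear_combination h)
    · exact quad_mem hro hcard (neg_mem (one_mem k0)) (neg_mem (one_mem k0)) (by linear_combination h)
/-- All translations, or everything rational. -/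
theorem rational_or_top (k0 : Subfield k) {r : ℕ} (hr : r.Prime) (hro : Odd r)
    (hcard : Fintype.card k = Nat.card k0 ^ r) {G : Subgroup SL2} {μ b : k} (hμ : μ ≠ 0)
    (hu : ∀ x ∈ k0, PSL2.uS x ∈ G) (hl : ∀ x ∈ k0, PSL2.vS (μ * x) ∈ G) (hb : PSL2.uS b ∈ G)
    (hbig : 3 ≤ Nat.card k0 ∨ μ ∈ k0) :
    (b ∈ k0 ∧ μ ∈ k0) ∨ ∀ x : k, PSL2.uS x ∈ G := by
  classical
  obtain ⟨p, hchar⟩ := CharP.exists k
  obtain ⟨⟨e, he⟩, hp, hc⟩ := FiniteField.card k p
  change Fintype.card k = p ^ e at hc
  obtain ⟨b0, hb00, hb0e, hk0, -⟩ := subfield_card_eq hp hc k0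
  obtain ⟨G', hG'⟩ : ∃ G' : Subgroup SL2, G' = G ⊔ Subgroup.center SL2 := ⟨_, rfl⟩
  have hle : G ≤ G' := hG' ▸ le_sup_left
  have hsign : ∀ y ∈ G', ∃ z ∈ G, y.1 = z.1 ∨ y.1 = -z.1 := fun y hy => by
    rw [hG'] at hy
    have hy' : y ∈ ((G ⊔ Subgroup.center SL2 : Subgroup SL2) : Set SL2) := hy
    rw [Subgroup.mul_normal] at hy'
    obtain ⟨z, hz, c, hc', rfl⟩ := hy'
    refine ⟨z, hz, pr_eq_cases ?_⟩
    rw [map_mul, show PSL2.pr c = 1 from (QuotientGroup.eq_one_iff c).mpr hc', mul_one]
  let S := shiftGroup G'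
  have hSmem : ∀ x, x ∈ S ↔ PSL2.uS x ∈ G' := fun x => Iff.rfl
  have hSk : ∀ x ∈ k0, x ∈ S := fun x hx => hle (hu x hx)
  have hSb : b ∈ S := hle hb
  have hun : PSL2.pr (PSL2.uS (1 : k)) ∈ G'.map PSL2.pr := Subgroup.mem_map_of_mem _ (hle (hu 1 (one_mem _)))
  have hln : PSL2.pr (PSL2.vS μ) ∈ G'.map PSL2.pr :=
    Subgroup.mem_map_of_mem _ (hle (by simpa using hl 1 (one_mem _)))
  let φ : S → ↥(G'.map PSL2.pr) := fun x => ⟨PSL2.pr (PSL2.uS (x : k)), Subgroup.mem_map_of_mem _ x.2⟩
  have hφ : Function.Injective φ := fun x y h => Subtype.ext (PSL2.pr_uS_inj (congrArg Subtype.val h))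
  have hadd : ∀ x y : S, φ (x + y) = φ x * φ y := fun x y => Subtype.ext (by simp [φ, PSL2.uS_add])
  have hpow : ∀ x : k, PSL2.uS x ^ p = 1 := fun x => by
    have : ∀ n : ℕ, PSL2.uS x ^ n = PSL2.uS ((n : k) * x) := fun n => by
      induction n with
      | zero => simp [uS_one_zero]
      | succ n ih => rw [pow_succ, ih, ← PSL2.uS_add]; push_cast; ring_nf
    rw [this, CharP.cast_eq_zero, zero_mul, uS_one_zero]
  rcases Dickson.kind (show Subgroup.center SL2 ≤ G' from hG' ▸ le_sup_right) with
    ⟨n, -, hcy, -⟩ | ⟨n, hn, -, ⟨iso⟩⟩ | ⟨g, hg, -⟩ | ⟨h2, ⟨iso⟩⟩ | ⟨h2, ⟨iso⟩⟩ | ⟨h2, ⟨iso⟩⟩ | ⟨g, K, hlow, hhigh, -⟩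
  · exfalso
    haveI := hcy
    obtain ⟨gen, hgen⟩ := IsCyclic.exists_generator (α := ↥(G'.map PSL2.pr))
    obtain ⟨i, hi⟩ := Subgroup.mem_zpowers_iff.mp (hgen ⟨_, hun⟩)
    obtain ⟨j, hj⟩ := Subgroup.mem_zpowers_iff.mp (hgen ⟨_, hln⟩)
    refine not_commute hμ (congrArg Subtype.val (?_ : (⟨_, hun⟩ : ↥(G'.map PSL2.pr)) * ⟨_, hln⟩ = ⟨_, hln⟩ * ⟨_, hun⟩))
    rw [← hi, ← hj, ← zpow_add, ← zpow_add, add_comm]
  · by_cases hp2 : p = 2
    · subst hp2
      have hodd : Odd n := by
        have hev : Even (Fintype.card k) := by rw [hc]; exact (Nat.even_pow' (by omega)).mpr even_two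
        have h2 : 2 ≤ Fintype.card k := Fintype.one_lt_card
        rw [Nat.odd_iff]
        rcases Nat.even_or_odd n with ⟨m, hm⟩ | h
        · exfalso
          have hg2 : Nat.gcd 2 (Fintype.card k - 1) = 1 := by
            refine (Nat.prime_two.coprime_iff_not_dvd).mpr ?_
            rintro ⟨t, ht⟩
            obtain ⟨s, hs⟩ := hev
            omega
          rw [hg2, Nat.div_one, Nat.div_one] at hn
          obtain ⟨s, hs⟩ := hev
          rcases hn with ⟨t, ht⟩ | ⟨t, ht⟩ <;> · rw [hm, add_mul] at ht; omega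
        · exact Nat.odd_iff.mp h
      have hinv : ∀ x : S, x ≠ 0 → ∃ i, iso (φ x) = DihedralGroup.sr i := fun x hx => by
        have hx2 : φ x * φ x = 1 := Subtype.ext (by
          show PSL2.pr (PSL2.uS (x : k)) * PSL2.pr (PSL2.uS (x : k)) = 1
          rw [← map_mul, ← pow_two, hpow, map_one])
        rcases hix : iso (φ x) with i | i
        · exfalso
          have := congrArg iso hx2
          rw [map_mul, map_one, hix, DihedralGroup.r_mul_r, DihedralGroup.one_def, DihedralGroup.r.injEq] at this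
          have hi0 : i = 0 := by
            obtain ⟨m, hm⟩ := hodd
            have hnat : ((2 * m + 1 : ℕ) : ZMod n) = 0 := by rw [← hm]; exact ZMod.natCast_self n
            push_cast at hnat
            linear_combination (-(m : ZMod n)) * this + i * hnat
          rw [hi0] at hix
          refine hx (hφ ?_)
          refine iso.injective (hix.trans ?_)
          rw [show φ 0 = 1 from Subtype.ext (by simp [φ, uS_one_zero]), map_one, DihedralGroup.one_def]
        · exact ⟨i, rfl⟩
      have hone : ∀ x y : S, x ≠ 0 → y ≠ 0 → x = y := fun x y hx hy => by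
        by_contra hne
        have hxy : x + y ≠ 0 := fun e' => hne (by
          have : (x : k) + y = 0 := congrArg Subtype.val e'
          refine Subtype.ext ?_
          have h2' : (2 : k) = 0 := by exact_mod_cast CharP.cast_eq_zero k 2
          linear_combination this - (y : k) * h2')
        obtain ⟨i, hi⟩ := hinv x hx
        obtain ⟨j, hj⟩ := hinv y hy
        obtain ⟨l, hl'⟩ := hinv (x + y) hxy
        rw [hadd, map_mul, hi, hj, DihedralGroup.sr_mul_sr] at hl'
        simp at hl'
      have hb' : b ∈ k0 := by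
        by_cases hb0' : b = 0
        · rw [hb0']; exact zero_mem _
        · have := hone ⟨b, hSb⟩ ⟨1, hSk 1 (one_mem _)⟩ (fun e' => hb0' (congrArg Subtype.val e'))
            (fun e' => one_ne_zero (congrArg Subtype.val e'))
          rw [show b = 1 from congrArg Subtype.val this]; exact one_mem _
      rcases hbig with h3 | hm
      · exfalso
        obtain ⟨x, hx0, hx1⟩ : ∃ x : k0, x ≠ 0 ∧ x ≠ 1 := by
          by_contra hcon
          push Not at hcon
          haveI : Fintype k0 := Fintype.ofFinite _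
          rw [Nat.card_eq_fintype_card] at h3
          have : (Finset.univ : Finset k0).card ≤ ({0, 1} : Finset k0).card :=
            Finset.card_le_card fun z _ => by
              by_cases hz : z = 0
              · simp [hz]
              · simp [hcon z hz]
          rw [Finset.card_univ] at this
          exact absurd (this.trans Finset.card_le_two) (by omega)
        have := hone ⟨x, hSk x x.2⟩ ⟨1, hSk 1 (one_mem _)⟩
          (fun e' => hx0 (Subtype.ext (congrArg (fun z : S => (z : k)) e')))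
          (fun e' => one_ne_zero (congrArg (fun z : S => (z : k)) e'))
        exact hx1 (Subtype.ext (congrArg (fun z : S => (z : k)) this))
      · exact Or.inl ⟨hb', hm⟩
    · exfalso
      have rot : ∀ y : SL2, y ∈ G' → y ^ p = 1 → ∀ hy : PSL2.pr y ∈ G'.map PSL2.pr,
          ∃ i, iso ⟨_, hy⟩ = DihedralGroup.r i := fun y _ hyp hy => by
        rcases hix : iso ⟨_, hy⟩ with i | i
        · exact ⟨i, rfl⟩
        · exfalso
          have h1 : (⟨_, hy⟩ : ↥(G'.map PSL2.pr)) ^ p = 1 := Subtype.ext (by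
            rw [SubmonoidClass.coe_pow, ← map_pow, hyp, map_one]; rfl)
          have := congrArg iso h1
          rw [map_pow, map_one, hix] at this
          obtain ⟨m, hm⟩ := hp.odd_of_ne_two hp2
          rw [hm, pow_succ, pow_mul, pow_two, DihedralGroup.sr_mul_self, one_pow, one_mul, DihedralGroup.one_def] at this
          simp at this
          cases this
      have hlp : PSL2.vS μ ^ p = (1 : SL2) := by
        have : ∀ n : ℕ, PSL2.vS μ ^ n = PSL2.vS ((n : k) * μ) := fun n => by
          induction n with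
          | zero => rw [pow_zero]; apply Subtype.ext; ext i j; fin_cases i <;> fin_cases j <;> simp [PSL2.val_mul, vS_val]
          | succ n ih =>
            rw [pow_succ, ih]; apply Subtype.ext; ext i j
            fin_cases i <;> fin_cases j <;> simp [PSL2.val_mul, vS_val, PSL2.val_mul, Matrix.mul_apply, Fin.sum_univ_two, add_mul]
        rw [this, CharP.cast_eq_zero, zero_mul]
        apply Subtype.ext; ext i j; fin_cases i <;> fin_cases j <;> simp [PSL2.val_mul, vS_val]
      obtain ⟨i, hi⟩ := rot _ (hle (hu 1 (one_mem _))) (hpow 1) hun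
      obtain ⟨j, hj⟩ := rot _ (hle (by simpa using hl 1 (one_mem _))) hlp hln
      refine not_commute hμ (congrArg Subtype.val (iso.injective ?_ :
        (⟨_, hun⟩ : ↥(G'.map PSL2.pr)) * ⟨_, hln⟩ = ⟨_, hln⟩ * ⟨_, hun⟩))
      rw [map_mul, map_mul, hi, hj, DihedralGroup.r_mul_r, DihedralGroup.r_mul_r, add_comm]
  · exfalso
    have key : ∀ y ∈ G', y.1.trace = 2 → ∃ x : k, PSL2.conjSL g y = PSL2.uS x := fun y hy ht => by
      obtain ⟨A, hA⟩ : ∃ A, A = PSL2.conjSL g y := ⟨_, rfl⟩
      have h10 : A.1 1 0 = 0 := hA ▸ hg _ ⟨y, hy, rfl⟩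
      have htr : A.1.trace = 2 := by
        rw [hA, PSL2.conjSL_val, Matrix.trace_mul_comm, ← mul_assoc, ← Units.val_mul, inv_mul_cancel, Units.val_one,
          one_mul, ht]
      have hd := PSL2.det_two A
      rw [h10, mul_zero, sub_zero] at hd
      rw [Matrix.trace_fin_two] at htr
      have h00 : A.1 0 0 = 1 := by
        refine sub_eq_zero.mp (mul_self_eq_zero.mp ?_)
        linear_combination A.1 0 0 * htr - hd
      refine ⟨A.1 0 1, hA ▸ Subtype.ext ?_⟩
      ext i j
      fin_cases i <;> fin_cases j <;> simp [PSL2.val_mul, uS_val, h10, h00]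
      linear_combination htr - h00
    obtain ⟨x, hx⟩ := key _ (hle (hu 1 (one_mem _))) (by simp [PSL2.val_mul, uS_val, Matrix.trace_fin_two]; norm_num)
    obtain ⟨y, hy⟩ := key _ (hle (by simpa using hl 1 (one_mem _))) (by simp [PSL2.val_mul, vS_val, Matrix.trace_fin_two]; norm_num)
    refine not_commute hμ ?_
    rw [← map_mul, ← map_mul]
    congr 1
    apply (PSL2.conjSL g).injective
    rw [map_mul, map_mul, hx, hy, ← PSL2.uS_add, ← PSL2.uS_add, add_comm]
  · exact Or.inl (poly_case k0 hro hcard h2 (fun x hx => hle (hu x hx)) (hle (by simpa using hl 1 (one_mem _)))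
      (hle hb) iso Dickson.pow_small_a4 (Or.inl (by rw [Nat.card_eq_fintype_card]; decide)))
  · exact Or.inl (poly_case k0 hro hcard h2 (fun x hx => hle (hu x hx)) (hle (by simpa using hl 1 (one_mem _)))
      (hle hb) iso Dickson.pow_small_s4 (Or.inr (by rw [Nat.card_eq_fintype_card]; decide)))
  · exact Or.inl (poly_case k0 hro hcard h2 (fun x hx => hle (hu x hx)) (hle (by simpa using hl 1 (one_mem _)))
      (hle hb) iso Dickson.pow_small_a5 (Or.inl (by rw [Nat.card_eq_fintype_card]; decide)))
  · by_cases hK : K = ⊤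
    · right
      intro x
      have h1 : ∀ z : k, PSL2.uS z ∈ G' := by
        have htop : ∀ A : SL2, A ∈ G'.map (PSL2.conjSL g).toMonoidHom := fun A => by
          have hu' := fun z : k => (hlow z (hK ▸ Subfield.mem_top z)).1
          have hv' := fun z : k => (hlow z (hK ▸ Subfield.mem_top z)).2
          have gen : ∀ B : SL2, B.1 1 0 ≠ 0 → B ∈ G'.map (PSL2.conjSL g).toMonoidHom := fun B hB => by
            have e' : B = PSL2.uS ((B.1 0 0 - 1) / B.1 1 0) * PSL2.vS (B.1 1 0) * PSL2.uS ((B.1 1 1 - 1) / B.1 1 0) := by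
              have hd := PSL2.det_two B
              apply Subtype.ext; ext i j
              fin_cases i <;> fin_cases j <;> simp [PSL2.val_mul, uS_val, vS_val, Matrix.mul_apply, Fin.sum_univ_two, hB]
              all_goals (field_simp; first | ring1 | linear_combination -hd | linear_combination hd)
            rw [e']
            exact mul_mem (mul_mem (hu' _) (hv' _)) (hu' _)
          by_cases hA : A.1 1 0 = 0
          · have hd := PSL2.det_two A
            rw [hA, mul_zero, sub_zero] at hd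
            have h11 : A.1 1 1 ≠ 0 := fun h0 => by rw [h0, mul_zero] at hd; exact zero_ne_one hd
            have := mul_mem (gen (A * PSL2.vS 1) (by simp [PSL2.val_mul, vS_val, Matrix.mul_apply, Fin.sum_univ_two, hA, h11]))
              (inv_mem (hv' 1))
            rwa [mul_inv_cancel_right] at this
          · exact gen A hA
        intro z
        obtain ⟨w, hw, hwe⟩ := htop (PSL2.conjSL g (PSL2.uS z))
        rwa [← (PSL2.conjSL g).injective hwe]
      by_cases h2 : (2 : k) = 0
      · obtain ⟨z, hz, h | h⟩ := hsign _ (h1 x)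
        · rwa [Subtype.ext h]
        · rw [show PSL2.uS x = z from Subtype.ext (by
            rw [h]; ext i j; simp only [Matrix.neg_apply]; linear_combination -(z.1 i j) * h2)]
          exact hz
      · obtain ⟨z, hz, h⟩ := hsign _ (h1 (x / 2))
        have : z * z = PSL2.uS x := Subtype.ext (by
          rw [show x = x / 2 + x / 2 by rw [← add_div, ← two_mul, mul_div_cancel_left₀ _ h2], PSL2.uS_add,
            PSL2.val_mul, PSL2.val_mul]
          rcases h with h | h <;> rw [h] <;> simp)
        rw [← this]; exact mul_mem hz hz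
    · left
      have htr : ∀ y ∈ G', y.1.trace * y.1.trace ∈ K := fun y hy => by
        obtain ⟨c, N, hN, hcN⟩ := hhigh _ ⟨y, hy, rfl⟩
        have htrace : (PSL2.conjSL g y).1.trace = y.1.trace := by
          rw [PSL2.conjSL_val, Matrix.trace_mul_comm, ← mul_assoc, ← Units.val_mul, inv_mul_cancel, Units.val_one, one_mul]
        change (PSL2.conjSL g y).1 = c • N at hcN
        have hd := (PSL2.conjSL g y).2
        rw [hcN, Matrix.det_smul, Fintype.card_fin] at hd
        have hdN : N.det ∈ K := by rw [Matrix.det_fin_two]; exact sub_mem (mul_mem (hN 0 0) (hN 1 1)) (mul_mem (hN 0 1) (hN 1 0))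
        have hc2 : c ^ 2 ∈ K := by
          rw [eq_inv_of_mul_eq_one_left hd]; exact inv_mem hdN
        rw [← htrace, hcN, Matrix.trace_smul, smul_eq_mul,
          show c * N.trace * (c * N.trace) = c ^ 2 * (N.trace * N.trace) by ring, Matrix.trace_fin_two]
        exact mul_mem hc2 (mul_mem (add_mem (hN 0 0) (hN 1 1)) (add_mem (hN 0 0) (hN 1 1)))
      have hprod : ∀ x ∈ S, μ * x ∈ K := fun x hx => by
        have h1 := htr _ (mul_mem hx (hle (hl 1 (one_mem _))))
        have h2' := htr _ (mul_mem ((hSmem _).mp (neg_mem hx)) (hle (hl 1 (one_mem _))))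
        simp [PSL2.val_mul, uS_val, vS_val, Matrix.trace_fin_two, Matrix.mul_apply, Fin.sum_univ_two] at h1 h2'
        by_cases h2 : (2 : k) = 0
        · have hsq : (μ * x) * (μ * x) ∈ K := by
            convert h1 using 1
            linear_combination (-(2 + x * μ + x * μ) : k) * h2
          obtain ⟨w, hw⟩ : ∃ w : K, (w : k) * w = (μ * x) * (μ * x) := by
            have hinj : Function.Injective fun w : K => w * w := fun a c h => by
              have h' : ((a : k) - c) * (a - c) = 0 := by
                have e' : (a : k) * a = c * c := congrArg Subtype.val h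
                linear_combination e' + ((c : k) * c - a * c) * h2
              exact Subtype.ext (sub_eq_zero.mp (mul_self_eq_zero.mp h'))
            obtain ⟨w, hw⟩ := Finite.injective_iff_surjective.mp hinj ⟨_, hsq⟩
            exact ⟨w, congrArg Subtype.val hw⟩
          have : ((w : k) - μ * x) * (w - μ * x) = 0 := by linear_combination hw + ((μ * x) * (μ * x) - w * (μ * x)) * h2
          rw [← sub_eq_zero.mp (mul_self_eq_zero.mp this)]
          exact w.2
        · have h8 : (8 : k) * (μ * x) ∈ K := by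
            convert sub_mem h1 h2' using 1
            ring
          have e8 : (8 : k) ≠ 0 := by
            intro h0
            exact h2 (pow_eq_zero_iff (n := 3) (by norm_num) |>.mp (by norm_num; exact h0))
          have := mul_mem (inv_mem (show (8 : k) ∈ K by exact_mod_cast natCast_mem K 8)) h8
          rwa [inv_mul_cancel_left₀ e8] at this
      have hμK : μ ∈ K := by simpa using hprod 1 (hSk 1 (one_mem _))
      have hdivK : ∀ x ∈ S, x ∈ K := fun x hx => by
        have := mul_mem (inv_mem hμK) (hprod x hx)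
        rwa [inv_mul_cancel_left₀ hμ] at this
      have hkK : k0 ≤ K := fun x hx => hdivK x (hSk x hx)
      exact ⟨eq_of_le hr hcard hkK hK b (hdivK b hSb), eq_of_le hr hcard hkK hK μ hμK⟩

end Cfsg.Agent.Classical.UThree
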