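/-
The monomial elements and one more element fixing a coordinate point generate the stabiliser of that point.
-/
import Cfsg.Agent.Lib.Classical.UThree.Basic
import Cfsg.Agent.Lib.Classical.UnitaryCount
import Cfsg.Agent.Lib.Classical.LinMonomialOver
import Cfsg.Agent.Lib.Classical.FormPower

set_option autoImplicit false
set_option linter.unusedSectionVars false

namespace Cfsg.Agent.Classical.UThree

open Matrix Cfsg.Geo
open Cfsg.Agent.Classical
open Cfsg.Agent.Classical.LMon (IsMon)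
open Cfsg.Agent.Classical.UOver (Tv tv_unique tv_conj tv_smul tv_mem)

variable {F : Type*} [Field F] [Fintype F]

/-- The setting: an overgroup of the monomial elements. -/
structure MData (q : ℕ) (σ : F ≃+* F) (M : Subgroup (GL (Fin 3) F)) : Prop where
  sig : IsUSigma q σ
  three : 3 ≤ q
  le : M ≤ suGL 3 F q
  mon : ∀ g : GL (Fin 3) F, g ∈ suGL 3 F q → IsMon (g : Matrix (Fin 3) (Fin 3) F) → g ∈ M

/-- The matrices fixing the last coordinate point. -/
def blk (σ : F ≃+* F) (a c l : F) : Matrix (Fin 3) (Fin 3) F :=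
  !![a, -(l * σ c), 0; c, l * σ a, 0; 0, 0, σ l]

/-- The last coordinate line. -/
def axis (F : Type*) [Field F] : Submodule F (Fin 3 → F) := Submodule.span F {Pi.single (2 : Fin 3) (1 : F)}

/-- The parameters with prescribed norm of the second entry. -/
def Par (σ : F ≃+* F) (S : Finset F) : Type _ :=
  {t : F × F × F // t.1 * σ t.1 + t.2.1 * σ t.2.1 = 1 ∧ t.2.2 * σ t.2.2 = 1 ∧ t.2.1 * σ t.2.1 ∈ S}

variable {q : ℕ} {σ : F ≃+* F}

section

variable (hσ : IsUSigma q σ)

include hσ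

theorem herm_three (u v : Fin 3 → F) :
    hermForm 3 F q u v = u 0 * σ (v 0) + u 1 * σ (v 1) + u 2 * σ (v 2) := by
  rw [hσ.hermForm_eq, Fin.sum_univ_three]

theorem exists_blk {a c l : F} (h : a * σ a + c * σ c = 1) (hl : l * σ l = 1) :
    ∃ g ∈ suGL 3 F q, (g : Matrix (Fin 3) (Fin 3) F) = blk σ a c l := by
  have hd : (blk σ a c l).det = 1 := by
    rw [det_fin_three]; simp [blk]
    linear_combination l * σ l * h + hl
  refine ⟨GeneralLinearGroup.mkOfDetNeZero _ (fun e => one_ne_zero (hd.symm.trans e)),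
    ⟨mem_GU_iff.mpr fun u v => ?_, mem_specialLinear_iff.mpr hd⟩, rfl⟩
  show hermForm 3 F q (blk σ a c l *ᵥ u) (blk σ a c l *ᵥ v) = _
  rw [herm_three hσ, herm_three hσ]
  simp [blk, Matrix.mulVec, dotProduct, Fin.sum_univ_three, hσ.involutive]
  linear_combination (u 0 * σ (v 0) + l * σ l * (u 1 * σ (v 1))) * h + (u 1 * σ (v 1) + u 2 * σ (v 2)) * hl

theorem coords {g : GL (Fin 3) F} (hg : g ∈ suGL 3 F q) (h0 : (g : Matrix (Fin 3) (Fin 3) F) 0 2 = 0)
    (h1 : (g : Matrix (Fin 3) (Fin 3) F) 1 2 = 0) :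
    ∃ a c l, a * σ a + c * σ c = 1 ∧ l * σ l = 1 ∧ (g : Matrix (Fin 3) (Fin 3) F) = blk σ a c l := by
  obtain ⟨A, hA⟩ : ∃ A, A = (g : Matrix (Fin 3) (Fin 3) F) := ⟨_, rfl⟩
  rw [← hA] at h0 h1 ⊢
  have hcol : ∀ i j : Fin 3, A 0 i * σ (A 0 j) + A 1 i * σ (A 1 j) + A 2 i * σ (A 2 j) = if i = j then 1 else 0 := by
    intro i j
    have := mem_GU_iff.mp hg.1 (Pi.single i 1) (Pi.single j 1)
    rw [Matrix.mulVec_single_one, Matrix.mulVec_single_one, herm_three hσ, hσ.hermForm_single, one_mul] at this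
    rw [hA]
    simpa [Pi.single_apply, apply_ite σ] using this
  have n22 := hcol 2 2
  rw [h0, h1, if_pos rfl] at n22
  simp at n22
  have h22 : A 2 2 ≠ 0 := left_ne_zero_of_mul_eq_one n22
  have o02 := hcol 0 2
  have o12 := hcol 1 2
  rw [h0, h1] at o02 o12
  simp [h22] at o02 o12
  have hdet := mem_specialLinear_iff.mp hg.2
  rw [← hA, det_fin_three, h0, h1, o02, o12] at hdet
  have n00 := hcol 0 0
  have o10 := hcol 1 0
  rw [o02, if_pos rfl] at n00
  rw [o02, o12, if_neg (by decide)] at o10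
  simp at n00 o10
  refine ⟨A 0 0, A 1 0, σ (A 2 2), n00, by rw [hσ.involutive, mul_comm]; exact n22, ?_⟩
  ext i j
  fin_cases i <;> fin_cases j <;> simp [blk, h0, h1, o02, o12, hσ.involutive]
  · refine mul_left_cancel₀ h22 ?_
    linear_combination σ (A 1 0) * A 2 2 * σ (A 2 2) * 0 - A 2 2 * A 0 1 * n00 - σ (A 1 0) * hdet
      + A 2 2 * A 0 0 * o10 + σ (A 1 0) * n22
  · refine mul_left_cancel₀ h22 ?_
    linear_combination -(A 2 2) * A 1 1 * n00 + σ (A 0 0) * hdet + A 2 2 * A 1 0 * o10 - σ (A 0 0) * n22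

theorem card_par (S : Finset F) (hS : ∀ d ∈ S, σ d = d) (h0 : (0 : F) ∈ S) (h1 : (1 : F) ∈ S) :
    Nat.card (Par σ S) + 2 * (q + 1) * ((q + 1) * (q + 1)) =
      (q + 1) * ((q + 1) * 2) + S.card * ((q + 1) * (q + 1)) * (q + 1) := by
  classical
  let f : F → ℕ := fun d => Nat.card {x : F // x * σ x = d}
  have hf0 : f 0 = 1 := by
    refine Nat.card_eq_one_iff_unique.mpr ⟨⟨?_⟩, ⟨⟨0, by simp⟩⟩⟩
    rintro ⟨x, hx⟩ ⟨y, hy⟩
    simp at hx hy
    exact Subtype.ext (hx.trans hy.symm)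
  have hf : ∀ d, σ d = d → d ≠ 0 → f d = q + 1 := fun d hd hd0 => UCount.card_norm_fibre hσ hd0 hd
  have e : Par σ S ≃ (Σ d : S, ({x : F // x * σ x = 1 - (d : F)} × {x : F // x * σ x = (d : F)})) ×
      {x : F // x * σ x = 1} :=
    { toFun := fun t => (⟨⟨t.1.2.1 * σ t.1.2.1, t.2.2.2⟩, ⟨t.1.1, by linear_combination t.2.1⟩, ⟨t.1.2.1, rfl⟩⟩,
        ⟨t.1.2.2, t.2.2.1⟩)
      invFun := fun t => ⟨(t.1.2.1.1, t.1.2.2.1, t.2.1),
        by rw [t.1.2.1.2, t.1.2.2.2]; ring, t.2.2, by rw [t.1.2.2.2]; exact t.1.1.2⟩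
      left_inv := fun t => rfl
      right_inv := by rintro ⟨⟨⟨d, hd⟩, ⟨a, ha⟩, ⟨c, hc⟩⟩, l⟩; change c * σ c = d at hc; subst hc; rfl }
  rw [Nat.card_congr e, Nat.card_prod, Nat.card_sigma]
  simp only [Nat.card_prod]
  rw [Finset.sum_coe_sort S fun d => f (1 - d) * f d, show Nat.card {x : F // x * σ x = 1} = q + 1 from
    hf 1 (map_one σ) one_ne_zero]
  obtain ⟨T, hT⟩ : ∃ T, T = (S.erase 0).erase 1 := ⟨_, rfl⟩
  have hc : T.card + 2 = S.card := by
    rw [hT, Finset.card_erase_of_mem (Finset.mem_erase.mpr ⟨one_ne_zero, h1⟩), Finset.card_erase_of_mem h0]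
    have : ({0, 1} : Finset F).card ≤ S.card := Finset.card_le_card (by simp [Finset.insert_subset_iff, h0, h1])
    rw [Finset.card_pair zero_ne_one] at this
    omega
  rw [← Finset.add_sum_erase S _ h0, ← Finset.add_sum_erase _ _ (Finset.mem_erase.mpr ⟨one_ne_zero, h1⟩), ← hT,
    Finset.sum_congr rfl (g := fun _ => (q + 1) * (q + 1)) (fun d hd => ?_), Finset.sum_const, smul_eq_mul, ← hc]
  · rw [sub_zero, sub_self, hf0, hf 1 (map_one σ) one_ne_zero]
    ring
  · simp [hT] at hd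
    rw [hf d (hS d hd.2.2) hd.2.1, hf (1 - d) (by rw [map_sub, map_one, hS d hd.2.2]) (sub_ne_zero.mpr (Ne.symm hd.1))]

theorem fixed_card [DecidableEq F] : (Finset.univ.filter fun d : F => σ d = d).card = q := by
  rw [← Fintype.card_subtype, ← Nat.card_eq_fintype_card]
  exact hσ.card_fixed

end

variable {M : Subgroup (GL (Fin 3) F)} (D : MData q σ M)

include D

theorem block_move {a c l a' c' l' : F} (hl : l * σ l = 1) (hl' : l' * σ l' = 1) (ha : a' * σ a' = a * σ a)
    (hc : c' * σ c' = c * σ c) {g : GL (Fin 3) F} (hg : g ∈ M)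
    (hge : (g : Matrix (Fin 3) (Fin 3) F) = blk σ a c l) :
    ∃ g' ∈ M, (g' : Matrix (Fin 3) (Fin 3) F) = blk σ a' c' l' := by
  have hσ := D.sig
  have ph : ∀ x x' : F, x' * σ x' = x * σ x → ∃ z, z * σ z = 1 ∧ x' = z * x := fun x x' h => by
    by_cases hx : x = 0
    · refine ⟨1, by simp, ?_⟩
      rw [hx, zero_mul] at h
      simp at h
      rw [h, hx, mul_zero]
    · refine ⟨x' / x, ?_, (div_mul_cancel₀ _ hx).symm⟩
      rw [map_div₀, div_mul_div_comm, h, div_self]
      exact mul_ne_zero hx fun e => hx ((map_eq_zero σ).mp e)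
  obtain ⟨z, hz, rfl⟩ := ph a a' ha
  obtain ⟨w, hw, rfl⟩ := ph c c' hc
  have diag : ∀ x y : F, x * σ x = 1 → y * σ y = 1 → ∃ t ∈ M, (t : Matrix (Fin 3) (Fin 3) F) =
      Matrix.diagonal ![x, y, σ x * σ y] := fun x y hx hy => by
    obtain ⟨t, ht, hts⟩ := diagGL_exists (d := ![x, y, σ x * σ y]) (by
      simp [Fin.prod_univ_three]; linear_combination y * σ y * hx + hy)
    refine ⟨t, D.mon t ⟨hσ.diag_mem_GU ht fun i => ?_, hts⟩ (by rw [ht]; exact LMon.isMon_diagonal _), ht⟩
    fin_cases i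
    · simpa using hx
    · simpa using hy
    · simp [hσ.involutive]; linear_combination y * σ y * hx + hy
  obtain ⟨t₁, ht₁, e₁⟩ := diag z w hz hw
  obtain ⟨k, hk⟩ : ∃ k, k = l' * σ (z * w * l) := ⟨_, rfl⟩
  have hkn : k * σ k = 1 := by
    rw [hk]; simp only [map_mul, hσ.involutive]
    linear_combination (z * σ z * (w * σ w) * (l * σ l)) * hl' + (w * σ w * (l * σ l)) * hz + (l * σ l) * hw + hl
  have hk' : k * (z * w * l) = l' := by
    rw [hk]; simp only [map_mul]
    linear_combination l' * (w * σ w * (l * σ l)) * hz + l' * (l * σ l) * hw + l' * hl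
  obtain ⟨t₂, ht₂, e₂⟩ := diag 1 k (by simp) hkn
  refine ⟨t₁ * g * t₂, mul_mem (mul_mem ht₁ hg) ht₂, ?_⟩
  rw [Units.val_mul, Units.val_mul, e₁, e₂, hge]
  ext i j
  fin_cases i <;> fin_cases j <;> simp [blk, Matrix.mul_diagonal, Matrix.diagonal_mul, ← hk', map_mul]
  · linear_combination -(l * σ c * z * k) * hw
  · linear_combination -(l * σ a * w * k) * hz
  · ring

/-- A non-monomial element fixing the last coordinate point gives all of its stabiliser. -/
theorem block_full {x : GL (Fin 3) F} (hx : x ∈ M) (h0 : (x : Matrix (Fin 3) (Fin 3) F) 0 2 = 0)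
    (h1 : (x : Matrix (Fin 3) (Fin 3) F) 1 2 = 0) (hm : ¬ IsMon (x : Matrix (Fin 3) (Fin 3) F)) :
    ∀ g ∈ suGL 3 F q, (g : Matrix (Fin 3) (Fin 3) F) 0 2 = 0 → (g : Matrix (Fin 3) (Fin 3) F) 1 2 = 0 → g ∈ M := by
  classical
  have hσ := D.sig
  let S : Finset F := Finset.univ.filter fun d => ∃ g ∈ M, ∃ a c l : F, a * σ a + c * σ c = 1 ∧ l * σ l = 1 ∧
    (g : Matrix (Fin 3) (Fin 3) F) = blk σ a c l ∧ c * σ c = d
  have hS : ∀ d ∈ S, σ d = d := fun d hd => by
    simp [S] at hd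
    obtain ⟨g, -, a, c, -, l, -, -, rfl⟩ := hd
    rw [map_mul, hσ.involutive, mul_comm]
  obtain ⟨a₀, c₀, l₀, hn₀, hl₀, he₀⟩ := coords hσ (D.le hx) h0 h1
  have hc₀ : c₀ ≠ 0 := fun e => hm (by
    rw [e, zero_mul, add_zero] at hn₀
    rw [he₀, e]
    intro j; fin_cases j
    · exact ⟨0, fun i hi => by fin_cases i <;> simp_all [blk]⟩
    · exact ⟨1, fun i hi => by fin_cases i <;> simp_all [blk]⟩
    · exact ⟨2, fun i hi => by fin_cases i <;> simp_all [blk]⟩)
  have ha₀ : a₀ ≠ 0 := fun e => hm (by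
    rw [he₀, e]
    intro j; fin_cases j
    · exact ⟨1, fun i hi => by fin_cases i <;> simp_all [blk]⟩
    · exact ⟨0, fun i hi => by fin_cases i <;> simp_all [blk]⟩
    · exact ⟨2, fun i hi => by fin_cases i <;> simp_all [blk]⟩)
  obtain ⟨d, hd⟩ : ∃ d, d = c₀ * σ c₀ := ⟨_, rfl⟩
  have memS : ∀ {g : GL (Fin 3) F}, g ∈ M → ∀ a c l, a * σ a + c * σ c = 1 → l * σ l = 1 →
      (g : Matrix (Fin 3) (Fin 3) F) = blk σ a c l → c * σ c ∈ S := fun {g} hg a c l h hl he =>
    Finset.mem_filter.mpr ⟨Finset.mem_univ _, g, hg, a, c, l, h, hl, he, rfl⟩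
  have hdS : d ∈ S := hd ▸ memS hx _ _ _ hn₀ hl₀ he₀
  have hd0 : d ≠ 0 := hd ▸ mul_ne_zero hc₀ fun e => hc₀ ((map_eq_zero σ).mp e)
  have hd1 : d ≠ 1 := fun e => by
    rw [← hd, e] at hn₀
    exact mul_ne_zero ha₀ (fun e => ha₀ ((map_eq_zero σ).mp e)) (by linear_combination hn₀)
  have h0S : (0 : F) ∈ S := by
    simpa using memS (one_mem M) 1 0 1 (by simp) (by simp) (by ext i j; fin_cases i <;> fin_cases j <;> simp [blk])
  have h1S : (1 : F) ∈ S := by
    obtain ⟨g, hg, hge⟩ := exists_blk hσ (a := 0) (c := 1) (l := 1) (by simp) (by simp)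
    have hgM : g ∈ M := D.mon g hg (by
      rw [hge]; intro j; fin_cases j
      · exact ⟨1, fun i hi => by fin_cases i <;> simp_all [blk]⟩
      · exact ⟨0, fun i hi => by fin_cases i <;> simp_all [blk]⟩
      · exact ⟨2, fun i hi => by fin_cases i <;> simp_all [blk]⟩)
    simpa using memS hgM 0 1 1 (by simp) (by simp) hge
  -- two interior values
  have htwo : 4 ≤ S.card ∨ q ≤ 4 := by
    by_contra hcon
    push Not at hcon
    have hsub : ∀ s ∈ S, s = 0 ∨ s = 1 ∨ s = d := fun s hs => by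
      by_contra h; push Not at h
      have : ({0, 1, d, s} : Finset F).card ≤ S.card := Finset.card_le_card (fun y hy => by
        simp only [Finset.mem_insert, Finset.mem_singleton] at hy
        rcases hy with rfl | rfl | rfl | rfl <;> assumption)
      rw [Finset.card_insert_of_notMem (by simp [h.1.symm, hd0.symm]), Finset.card_insert_of_notMem (by simp [h.2.1.symm, hd1.symm]),
        Finset.card_pair (Ne.symm h.2.2)] at this
      omega
    obtain ⟨k, hk⟩ : ∃ k, k = a₀ * σ a₀ * (c₀ * σ c₀) := ⟨_, rfl⟩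
    have hk0 : k ≠ 0 := hk ▸ mul_ne_zero (mul_ne_zero ha₀ fun e => ha₀ ((map_eq_zero σ).mp e)) (hd ▸ hd0)
    let Z : Finset F := Finset.univ.filter fun z => z * σ z = 1 ∧ z ≠ -1
    have hval : ∀ z ∈ Z, z + σ z = 1 / k - 2 ∨ z + σ z = d / k - 2 := fun z hz => by
      simp [Z] at hz
      have hla : σ (l₀ * σ a₀ / a₀) * (l₀ * σ a₀ / a₀) = 1 := by
        rw [map_div₀, map_mul, hσ.involutive, div_mul_div_comm,
          div_eq_one_iff_eq (mul_ne_zero (fun e => ha₀ ((map_eq_zero σ).mp e)) ha₀)]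
        linear_combination a₀ * σ a₀ * hl₀
      obtain ⟨y, hy⟩ : ∃ y, y = σ (l₀ * σ a₀ / a₀) * z := ⟨_, rfl⟩
      have hyn : y * σ y = 1 := by
        rw [hy, map_mul, hσ.involutive]
        linear_combination hla * (z * σ z) + hz.1
      obtain ⟨t, ht, hte⟩ := exists_blk hσ (a := 1) (c := 0) (l := y) (by simp) hyn
      have htM : t ∈ M := D.mon t ht (by
        rw [hte]; intro j; exact ⟨j, fun i hi => by fin_cases i <;> fin_cases j <;> simp_all [blk]⟩)
      have hp := mul_mem (mul_mem hx htM) hx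
      have hp0 : ((x * t * x : GL (Fin 3) F) : Matrix (Fin 3) (Fin 3) F) 0 2 = 0 := by
        rw [Units.val_mul, Units.val_mul, he₀, hte]; simp [blk, Matrix.mul_apply, Fin.sum_univ_three]
      have hp1 : ((x * t * x : GL (Fin 3) F) : Matrix (Fin 3) (Fin 3) F) 1 2 = 0 := by
        rw [Units.val_mul, Units.val_mul, he₀, hte]; simp [blk, Matrix.mul_apply, Fin.sum_univ_three]
      obtain ⟨a, c, l, hn, hl, he⟩ := coords hσ (D.le hp) hp0 hp1
      have hc := congrFun (congrFun he 1) 0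
      rw [Units.val_mul, Units.val_mul, he₀, hte] at hc
      simp [blk, Matrix.mul_apply, Fin.sum_univ_three] at hc
      have hyz : l₀ * σ a₀ * y = z * a₀ := by
        have : a₀ * (σ (l₀ * σ a₀ / a₀) * (l₀ * σ a₀ / a₀)) = a₀ := by rw [hla, mul_one]
        rw [hy]
        have e : a₀ * (l₀ * σ a₀ / a₀) = l₀ * σ a₀ := mul_div_cancel₀ _ ha₀
        linear_combination z * this - σ (l₀ * σ a₀ / a₀) * z * e
      have hc' : c = a₀ * c₀ * (1 + z) := by rw [← hc]; linear_combination c₀ * hyz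
      have hcn : c * σ c = k * (2 + (z + σ z)) := by
        rw [hc', hk]; simp only [map_mul, map_add, map_one]
        linear_combination a₀ * σ a₀ * (c₀ * σ c₀) * hz.1
      rcases hsub _ (memS hp a c l hn hl he) with h | h | h <;> rw [hcn] at h
      · exfalso
        have h' := (mul_eq_zero.mp h).resolve_left hk0
        refine hz.2 ?_
        have : (1 + z) * (1 + z) = 0 := by linear_combination z * h' - hz.1
        linear_combination (mul_self_eq_zero.mp this)
      · left; field_simp; linear_combination h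
      · right; field_simp; linear_combination h
    have hpair : ∀ v : F, ((Finset.univ.filter fun z : F => z * σ z = 1 ∧ z + σ z = v)).card ≤ 2 := fun v => by
      rcases (Finset.univ.filter fun z : F => z * σ z = 1 ∧ z + σ z = v).eq_empty_or_nonempty with h | ⟨w, hw⟩
      · simp [h]
      simp at hw
      refine (Finset.card_le_card (t := {w, σ w}) fun z hz => ?_).trans Finset.card_le_two
      simp at hz
      have : (z - w) * (z - σ w) = 0 := by linear_combination z * hz.2 - hz.1 - z * hw.2 + hw.1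
      simpa [sub_eq_zero] using this
    have hZ : Z.card + 1 = q + 1 := by
      have hc := UCount.card_norm_fibre hσ (t := (1 : F)) one_ne_zero (map_one σ)
      rw [Nat.card_eq_fintype_card, Fintype.card_subtype] at hc
      rw [← hc, ← Finset.card_erase_add_one (a := (-1 : F)) (s := Finset.univ.filter fun z : F => z * σ z = 1) (by simp)]
      congr 2
      ext z; simp [Z, and_comm]
    have : Z.card ≤ 4 := by
      refine (Finset.card_le_card (t := (Finset.univ.filter fun z : F => z * σ z = 1 ∧ z + σ z = 1 / k - 2) ∪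
        (Finset.univ.filter fun z : F => z * σ z = 1 ∧ z + σ z = d / k - 2)) fun z hz => ?_).trans
        ((Finset.card_union_le _ _).trans (Nat.add_le_add (hpair _) (hpair _)))
      have h := hval z hz
      simp [Z] at hz
      rcases h with h | h <;> simp [hz.1, h]
    omega
  -- counting
  let W : Finset F := Finset.univ.filter fun d => σ d = d
  let G3 : Subgroup (GL (Fin 3) F) := subspaceStabilizer (axis F) ⊓ suGL 3 F q
  have hmem : ∀ g : GL (Fin 3) F, g ∈ G3 ↔ g ∈ suGL 3 F q ∧ (g : Matrix (Fin 3) (Fin 3) F) 0 2 = 0 ∧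
      (g : Matrix (Fin 3) (Fin 3) F) 1 2 = 0 := fun g => by
    constructor
    · rintro ⟨h, hs⟩
      have := mem_subspaceStabilizer_iff.mp h _ (Submodule.mem_span_singleton_self _)
      rw [axis, Submodule.mem_span_singleton] at this
      obtain ⟨r, hr⟩ := this
      rw [Matrix.mulVec_single_one] at hr
      exact ⟨hs, by simpa using (congrFun hr 0).symm, by simpa using (congrFun hr 1).symm⟩
    · rintro ⟨hs, e0, e1⟩
      refine ⟨mem_subspaceStabilizer_iff.mpr fun w hw => ?_, hs⟩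
      rw [axis, Submodule.mem_span_singleton] at hw ⊢
      obtain ⟨r, rfl⟩ := hw
      refine ⟨r * (g : Matrix (Fin 3) (Fin 3) F) 2 2, ?_⟩
      rw [Matrix.mulVec_smul, Matrix.mulVec_single_one]
      ext i; fin_cases i <;> simp [e0, e1]
  have hblk : ∀ a c l : F, ∀ g : GL (Fin 3) F, (g : Matrix (Fin 3) (Fin 3) F) = blk σ a c l →
      (g : Matrix (Fin 3) (Fin 3) F) 0 2 = 0 ∧ (g : Matrix (Fin 3) (Fin 3) F) 1 2 = 0 := fun a c l g h => by
    rw [h]; simp [blk]
  have hinj : ∀ {a c l a' c' l' : F}, blk σ a c l = blk σ a' c' l' → (a, c, l) = (a', c', l') := by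
    intro a c l a' c' l' h
    have e1 := congrFun (congrFun h 0) 0
    have e2 := congrFun (congrFun h 1) 0
    have e3 := congrFun (congrFun h 2) 2
    simp [blk] at e1 e2 e3
    simp [e1, e2, e3]
  have count : ∀ (T : Finset F) (K : Subgroup (GL (Fin 3) F)), K ≤ G3 →
      (∀ a c l, a * σ a + c * σ c = 1 → l * σ l = 1 →
        ((∃ g ∈ K, (g : Matrix (Fin 3) (Fin 3) F) = blk σ a c l) ↔ c * σ c ∈ T)) →
      Nat.card K = Nat.card (Par σ T) := fun T K hK h => by
    choose a c l hn hl he using fun g : K => coords hσ (hK g.2).2 ((hmem _).mp (hK g.2)).2.1 ((hmem _).mp (hK g.2)).2.2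
    refine Nat.card_congr (Equiv.ofBijective (fun g : K => (⟨(a g, c g, l g), hn g, hl g,
      (h _ _ _ (hn g) (hl g)).mp ⟨g, g.2, he g⟩⟩ : Par σ T)) ⟨fun g g' e => ?_, fun t => ?_⟩)
    · have e' := congrArg Subtype.val e
      simp at e'
      exact Subtype.ext (Units.ext (by rw [he g, he g', e'.1, e'.2.1, e'.2.2]))
    · obtain ⟨g, hg, hge⟩ := (h _ _ _ t.2.1 t.2.2.1).mpr t.2.2.2
      exact ⟨⟨g, hg⟩, Subtype.ext (hinj ((he ⟨g, hg⟩).symm.trans hge))⟩
  have hG := count W G3 le_rfl fun a c l hn hl => by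
    refine ⟨fun _ => by simp [W, map_mul, hσ.involutive, mul_comm], fun _ => ?_⟩
    obtain ⟨g, hg, hge⟩ := exists_blk hσ hn hl
    exact ⟨g, (hmem g).mpr ⟨hg, hblk _ _ _ g hge⟩, hge⟩
  have hM := count S (M ⊓ G3) inf_le_right fun a c l hn hl => by
    constructor
    · rintro ⟨g, hg, hge⟩
      exact memS hg.1 a c l hn hl hge
    · intro hs
      simp [S] at hs
      obtain ⟨g, hg, a', c', hn', l', hl', hge, hcc⟩ := hs
      obtain ⟨g', hg', hge'⟩ := block_move D hl' hl (a' := a) (c' := c) (by linear_combination hn - hn' + hcc) hcc.symm hg hge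
      exact ⟨g', ⟨hg', (hmem g').mpr ⟨D.le hg', hblk _ _ _ g' hge'⟩⟩, hge'⟩
  obtain ⟨i, hi⟩ := Subgroup.card_dvd_of_le (inf_le_right : M ⊓ G3 ≤ G3)
  rw [hG, hM] at hi
  have hW := card_par hσ W (fun d hd => (Finset.mem_filter.mp hd).2) (by simp [W]) (by simp [W])
  have hS' := card_par hσ S hS h0S h1S
  rw [fixed_card hσ] at hW
  have hsW : S ⊆ W := fun s hs => Finset.mem_filter.mpr ⟨Finset.mem_univ _, hS s hs⟩
  have hsle : S.card ≤ q := fixed_card hσ ▸ Finset.card_le_card hsW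
  have hS3 : 3 ≤ S.card := by
    have : ({0, 1, d} : Finset F).card ≤ S.card := Finset.card_le_card (fun y hy => by
      simp only [Finset.mem_insert, Finset.mem_singleton] at hy
      rcases hy with rfl | rfl | rfl <;> assumption)
    rwa [Finset.card_insert_of_notMem (by simp [hd0.symm]), Finset.card_pair hd1.symm] at this
  have hall : S = W := by
    refine Finset.eq_of_subset_of_card_le hsW ?_
    rw [fixed_card hσ]
    obtain ⟨m, hm⟩ : ∃ m, S.card = m + 2 := ⟨S.card - 2, by omega⟩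
    obtain ⟨n, hn⟩ : ∃ n, q = n + 2 := ⟨q - 2, by omega⟩
    obtain ⟨P, hP⟩ : ∃ P, P = Nat.card (Par σ S) := ⟨_, rfl⟩
    rw [← hP] at hS' hi
    rw [hi, hn] at hW
    rw [hm] at hS' hS3 hsle htwo
    rw [hn] at hS' hsle htwo
    -- cancel the common factor
    have eP : P = (n + 3) * (n + 3) * (2 + m * (n + 3)) := by
      have : P + 2 * (n + 2 + 1) * ((n + 2 + 1) * (n + 2 + 1)) =
          (n + 3) * (n + 3) * (2 + m * (n + 3)) + 2 * (n + 2 + 1) * ((n + 2 + 1) * (n + 2 + 1)) := by rw [hS']; ring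
      omega
    rw [eP] at hW
    have key : i * (2 + m * (n + 3)) = 2 + n * (n + 3) :=
      Nat.eq_of_mul_eq_mul_left (show 0 < (n + 3) * (n + 3) by positivity) (by linarith)
    rw [hm, hn]
    rcases Nat.lt_or_ge i 2 with hi2 | hi2
    · interval_cases i
      · omega
      · nlinarith
    · exfalso
      obtain ⟨j, rfl⟩ : ∃ j, i = j + 2 := ⟨i - 2, by omega⟩
      have e2 : (j + 2) * m ≤ n := by nlinarith
      obtain ⟨r, hr⟩ : ∃ r, n = (j + 2) * m + r := ⟨n - (j + 2) * m, by omega⟩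
      have e3 : 2 * (j + 1) = r * (n + 3) := by nlinarith
      have hr1 : 1 ≤ r := by by_contra h; interval_cases r; omega
      have : n + 3 ≤ 2 * (j + 1) := by rw [e3]; exact Nat.le_mul_of_pos_left _ hr1
      have hm1 : (j + 2) * 1 ≤ (j + 2) * m := Nat.mul_le_mul_left _ (by omega)
      rcases htwo with h | h
      · have : (j + 2) * 2 ≤ (j + 2) * m := Nat.mul_le_mul_left _ (by omega)
        omega
      · omega
  intro g hg e0 e1
  obtain ⟨a, c, l, hn, hl, he⟩ := coords hσ hg e0 e1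
  have hcS : c * σ c ∈ S := hall ▸ Finset.mem_filter.mpr ⟨Finset.mem_univ _, by rw [map_mul, hσ.involutive, mul_comm]⟩
  simp [S] at hcS
  obtain ⟨x', hx', a', c', hn', l', hl', hxe, hcc⟩ := hcS
  obtain ⟨g', hg', hge'⟩ := block_move D hl' hl (a' := a) (c' := c) (by linear_combination hn - hn' + hcc) hcc.symm hx' hxe
  rw [show g = g' from Units.ext (he.trans hge'.symm)]
  exact hg'

end Cfsg.Agent.Classical.UThree
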