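/-
Stabilisers of isotropic points in the unitary space of dimension three.
-/
import Cfsg.Agent.Lib.Classical.UThree.Basic
import Cfsg.Agent.Lib.Classical.LinBasic
import Mathlib.GroupTheory.PGroup

set_option autoImplicit false
set_option linter.unusedSectionVars false
set_option linter.style.haveILetI false
set_option maxHeartbeats 400000

namespace Cfsg.Agent.Classical.UThree

open Matrix Cfsg.Geo
open Cfsg.Agent.Classical
open Cfsg.Agent.Classical.UOver (Tv tv_unique tv_conj tv_smul tv_mem)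

variable {F : Type*} [Field F] [Fintype F] {q : ℕ} {σ : F ≃+* F}

/-- The shape of an element fixing the line of `u`. -/
structure Par3 (u e v : Fin 3 → F) (g : GL (Fin 3) F) (a b c r s t : F) : Prop where
  gu : (g : Matrix (Fin 3) (Fin 3) F) *ᵥ u = a • u
  ge : (g : Matrix (Fin 3) (Fin 3) F) *ᵥ e = b • e + r • u
  gv : (g : Matrix (Fin 3) (Fin 3) F) *ᵥ v = c • v + s • e + t • u

variable (hσ : IsUSigma q σ)

include hσ

theorem herm_zero_left (x : Fin 3 → F) : hermForm 3 F q 0 x = 0 := by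
  rw [← zero_smul F x, (sf hσ).smul_left, zero_mul]

theorem herm_zero_right (x : Fin 3 → F) : hermForm 3 F q x 0 = 0 := orth_swp hσ (herm_zero_left hσ x)

theorem ne_zero_of_herm {x y : Fin 3 → F} (h : hermForm 3 F q x y ≠ 0) : x ≠ 0 ∧ y ≠ 0 :=
  ⟨fun e => h (e ▸ herm_zero_left hσ y), fun e => h (e ▸ herm_zero_right hσ x)⟩

section

variable {e u v : Fin 3 → F} (P : Pair q e u v) (hee : hermForm 3 F q e e ≠ 0)

include P hee

/-- Coordinates. -/
theorem pair_dec (x : Fin 3 → F) :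
    x = hermForm 3 F q x v • u + (hermForm 3 F q x e / hermForm 3 F q e e) • e + hermForm 3 F q x u • v := by
  have hs := sf hσ
  have h0 := P.span _ (decomp hσ hee x)
  simp only [hs.add_left, hs.smul_left, orth_swp hσ P.ue, orth_swp hσ P.ve, mul_zero, add_zero] at h0
  linear_combination (norm := module) h0

theorem pair_eq_zero {x : Fin 3 → F} (h1 : hermForm 3 F q x v = 0) (h2 : hermForm 3 F q x e = 0)
    (h3 : hermForm 3 F q x u = 0) : x = 0 := by
  rw [pair_dec hσ P hee x, h1, h2, h3, zero_div, zero_smul, zero_smul, zero_smul, add_zero, add_zero]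

theorem pair_ext {g h : GL (Fin 3) F}
    (a : (g : Matrix (Fin 3) (Fin 3) F) *ᵥ u = (h : Matrix (Fin 3) (Fin 3) F) *ᵥ u)
    (b : (g : Matrix (Fin 3) (Fin 3) F) *ᵥ e = (h : Matrix (Fin 3) (Fin 3) F) *ᵥ e)
    (c : (g : Matrix (Fin 3) (Fin 3) F) *ᵥ v = (h : Matrix (Fin 3) (Fin 3) F) *ᵥ v) : g = h :=
  gl_ext_mulVec fun z => by
    rw [pair_dec hσ P hee z]; simp only [Matrix.mulVec_add, Matrix.mulVec_smul, a, b, c]

theorem det_tri {m : Matrix (Fin 3) (Fin 3) F} {a b c r s t : F} (hu : m *ᵥ u = a • u)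
    (he : m *ᵥ e = b • e + r • u) (hv : m *ᵥ v = c • v + s • e + t • u) : m.det = a * b * c := by
  have hs := sf hσ
  let B : Matrix (Fin 3) (Fin 3) F := Matrix.of fun i j => ![u, e, v] j i
  have key : ∀ w : Fin 3 → F, B *ᵥ w = w 0 • u + w 1 • e + w 2 • v := fun w => by
    funext i; simp [B, Matrix.mulVec, dotProduct, Fin.sum_univ_three]; ring
  have hBcol : ∀ j, B *ᵥ Pi.single j 1 = ![u, e, v] j := fun j => by
    rw [Matrix.mulVec_single_one]; rfl
  have hmB : m * B = B * !![a, r, t; 0, b, s; 0, 0, c] := Matrix.ext_of_mulVec_single fun j => by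
    rw [← Matrix.mulVec_mulVec, ← Matrix.mulVec_mulVec, hBcol, key, Matrix.mulVec_single_one]
    fin_cases j <;> simp [hu, he, hv] <;> module
  have hBdet : B.det ≠ 0 := by
    intro h0
    obtain ⟨w, hw, hw0⟩ := Matrix.exists_mulVec_eq_zero_iff.mpr h0
    rw [key] at hw0
    have a1 := congrArg (fun z => hermForm 3 F q z v) hw0
    have a2 := congrArg (fun z => hermForm 3 F q z e) hw0
    have a3 := congrArg (fun z => hermForm 3 F q z u) hw0
    simp only [hs.add_left, hs.smul_left, P.uu, P.vv, P.uv, P.vu, P.ue, P.ve, orth_swp hσ P.ue,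
      orth_swp hσ P.ve, herm_zero_left hσ, mul_zero, mul_one, add_zero, zero_add] at a1 a2 a3
    refine hw (funext fun i => ?_)
    fin_cases i
    · exact a1
    · exact (mul_eq_zero.mp a2).resolve_right hee
    · exact a3
  have := congrArg Matrix.det hmB
  rw [Matrix.det_mul, Matrix.det_mul, det_fin_three !![a, r, t; 0, b, s; 0, 0, c]] at this
  simp at this
  exact mul_right_cancel₀ hBdet (by linear_combination this)

/-- An element fixing the line of `u`. -/
theorem exists_par {g : GL (Fin 3) F} (hg : g ∈ suGL 3 F q) {l : F}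
    (hgu : (g : Matrix (Fin 3) (Fin 3) F) *ᵥ u = l • u) :
    l ≠ 0 ∧ ∃ r s t, Par3 u e v g l (σ l / l) (σ l)⁻¹ r s t ∧
      σ r / σ l + s * (l / σ l) * hermForm 3 F q e e = 0 ∧
      t / l + σ t / σ l + s * σ s * hermForm 3 F q e e = 0 := by
  have hs := sf hσ
  have hgU := mem_GU_iff.mp hg.1
  have hl : l ≠ 0 := fun h => (ne_zero_of_herm hσ (x := u) (y := v) (by rw [P.uv]; exact one_ne_zero)).1
    (gl_mulVec_injective g (by
      show (g : Matrix (Fin 3) (Fin 3) F) *ᵥ u = (g : Matrix (Fin 3) (Fin 3) F) *ᵥ 0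
      rw [hgu, h, zero_smul, Matrix.mulVec_zero]))
  have hσl : σ l ≠ 0 := fun h => hl ((map_eq_zero σ).mp h)
  have h1 : hermForm 3 F q ((g : Matrix (Fin 3) (Fin 3) F) *ᵥ e) u = 0 := by
    have h := hgU e u
    rw [hgu, hs.smul_right, orth_swp hσ P.ue] at h
    exact (mul_eq_zero.mp h).resolve_left hσl
  have h2 : hermForm 3 F q ((g : Matrix (Fin 3) (Fin 3) F) *ᵥ v) u = (σ l)⁻¹ := by
    have h := hgU v u
    rw [hgu, hs.smul_right, P.vu] at h
    exact eq_inv_of_mul_eq_one_right h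
  obtain ⟨r, hr⟩ : ∃ r, r = hermForm 3 F q ((g : Matrix (Fin 3) (Fin 3) F) *ᵥ e) v := ⟨_, rfl⟩
  obtain ⟨s, hs'⟩ : ∃ s, s = hermForm 3 F q ((g : Matrix (Fin 3) (Fin 3) F) *ᵥ v) e / hermForm 3 F q e e := ⟨_, rfl⟩
  obtain ⟨t, ht⟩ : ∃ t, t = hermForm 3 F q ((g : Matrix (Fin 3) (Fin 3) F) *ᵥ v) v := ⟨_, rfl⟩
  obtain ⟨b, hb⟩ : ∃ b, b = hermForm 3 F q ((g : Matrix (Fin 3) (Fin 3) F) *ᵥ e) e / hermForm 3 F q e e := ⟨_, rfl⟩
  have he' : (g : Matrix (Fin 3) (Fin 3) F) *ᵥ e = b • e + r • u := by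
    have h := pair_dec hσ P hee ((g : Matrix (Fin 3) (Fin 3) F) *ᵥ e)
    rw [h1, ← hr, ← hb, zero_smul, add_zero, add_comm] at h
    exact h
  have hv' : (g : Matrix (Fin 3) (Fin 3) F) *ᵥ v = (σ l)⁻¹ • v + s • e + t • u := by
    conv_lhs => rw [pair_dec hσ P hee ((g : Matrix (Fin 3) (Fin 3) F) *ᵥ v), h2, ← hs', ← ht]
    abel
  have hbd : b = σ l / l := by
    have h := det_tri hσ P hee hgu he' hv'
    rw [mem_specialLinear_iff.mp hg.2] at h
    field_simp at h ⊢
    linear_combination -h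
  refine ⟨hl, r, s, t, ⟨hgu, hbd ▸ he', hv'⟩, ?_, ?_⟩
  · have h := hgU v e
    rw [hv', he'] at h
    simp only [hs.add_left, hs.add_right, hs.smul_left, hs.smul_right, P.uu, P.vu, P.ue, P.ve, orth_swp hσ P.ue,
      mul_zero, mul_one, add_zero, zero_add] at h
    rw [hbd, map_div₀, hσ.involutive] at h
    linear_combination h
  · have h := hgU v v
    rw [hv'] at h
    simp only [hs.add_left, hs.add_right, hs.smul_left, hs.smul_right, P.uu, P.vv, P.uv, P.vu, P.ue, P.ve,
      orth_swp hσ P.ue, orth_swp hσ P.ve, mul_zero, mul_one, add_zero, zero_add] at h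
    rw [map_inv₀, hσ.involutive] at h
    linear_combination h

/-- Elements with prescribed parameters. -/
theorem exists_of_par {l r s t : F} (hl : l ≠ 0)
    (h1 : σ r / σ l + s * (l / σ l) * hermForm 3 F q e e = 0)
    (h2 : t / l + σ t / σ l + s * σ s * hermForm 3 F q e e = 0) :
    ∃ g ∈ suGL 3 F q, Par3 u e v g l (σ l / l) (σ l)⁻¹ r s t := by
  have hs := sf hσ
  have hσl : σ l ≠ 0 := fun h => hl ((map_eq_zero σ).mp h)
  obtain ⟨ν, hν⟩ : ∃ ν, ν = hermForm 3 F q e e := ⟨_, rfl⟩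
  have hνσ : σ ν = ν := by rw [hν, ← swp hσ]
  rw [← hν] at h1 h2
  have hν0 : ν ≠ 0 := hν ▸ hee
  let L : (Fin 3 → F) →ₗ[F] (Fin 3 → F) :=
    { toFun := fun z => hermForm 3 F q z v • (l • u) + (hermForm 3 F q z e / ν) • ((σ l / l) • e + r • u) +
        hermForm 3 F q z u • ((σ l)⁻¹ • v + s • e + t • u)
      map_add' := fun x y => by simp only [hs.add_left, add_div]; module
      map_smul' := fun c x => by simp only [hs.smul_left, RingHom.id_apply, mul_div_assoc]; module }
  obtain ⟨m, hm⟩ : ∃ m, m = LinearMap.toMatrix' L := ⟨_, rfl⟩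
  have hmx : ∀ z, m *ᵥ z = hermForm 3 F q z v • (l • u) + (hermForm 3 F q z e / ν) • ((σ l / l) • e + r • u) +
      hermForm 3 F q z u • ((σ l)⁻¹ • v + s • e + t • u) := fun z => hm ▸ LinearMap.toMatrix'_mulVec L z
  have mu : m *ᵥ u = l • u := by rw [hmx, P.uv, P.ue, P.uu]; simp
  have me : m *ᵥ e = (σ l / l) • e + r • u := by
    rw [hmx, orth_swp hσ P.ve, orth_swp hσ P.ue, ← hν, div_self hν0]; simp
  have mv : m *ᵥ v = (σ l)⁻¹ • v + s • e + t • u := by rw [hmx, P.vv, P.ve, P.vu]; simp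
  have hdet : m.det = 1 := by rw [det_tri hσ P hee mu me mv]; field_simp
  refine ⟨GeneralLinearGroup.mkOfDetNeZero m (by rw [hdet]; exact one_ne_zero),
    ⟨mem_GU_iff.mpr fun x y => ?_, mem_specialLinear_iff.mpr hdet⟩, mu, me, mv⟩
  show hermForm 3 F q (m *ᵥ x) (m *ᵥ y) = _
  have k1 : σ r / σ l = -(s * (l / σ l) * ν) := eq_neg_of_add_eq_zero_left h1
  have k1' : r / l = -(σ s * (σ l / l) * ν) := by
    have := congrArg σ k1
    simpa [map_div₀, hσ.involutive, hνσ, map_neg, map_mul] using this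
  conv_rhs => rw [pair_dec hσ P hee x, pair_dec hσ P hee y, ← hν]
  rw [hmx, hmx]
  simp only [hs.add_left, hs.add_right, hs.smul_left, hs.smul_right, P.uu, P.vv, P.uv, P.vu, P.ue, P.ve,
    orth_swp hσ P.ue, orth_swp hσ P.ve, ← hν, map_add, map_mul, map_div₀, map_inv₀, hσ.involutive, hνσ, mul_zero,
    mul_one, add_zero, zero_add]
  linear_combination (norm := (field_simp; ring1))
    (hermForm 3 F q x e / ν * σ (hermForm 3 F q y u)) * k1' +
      (hermForm 3 F q x u * σ (hermForm 3 F q y e) / ν) * k1 +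
      (hermForm 3 F q x u * σ (hermForm 3 F q y u)) * h2

/-- Two isotropic orthogonal vectors are proportional. -/
theorem prop_of_orth {w : Fin 3 → F} (hww : hermForm 3 F q w w = 0) (hwu : hermForm 3 F q w u = 0) :
    w = hermForm 3 F q w v • u := by
  have hs := sf hσ
  have hd := pair_dec hσ P hee w
  rw [hwu, zero_smul, add_zero] at hd
  have hb : hermForm 3 F q w e = 0 := by
    have h := hww
    rw [hd] at h
    simp only [hs.add_left, hs.add_right, hs.smul_left, hs.smul_right, P.uu, P.ue, orth_swp hσ P.ue, mul_zero,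
      zero_add, add_zero] at h
    rw [map_div₀, ← swp hσ e e] at h
    field_simp at h
    rw [mul_zero] at h
    exact (mul_eq_zero.mp h).elim id fun h => (map_eq_zero σ).mp h
  rwa [hb, zero_div, zero_smul, add_zero] at hd

/-- A nontrivial unipotent element fixes one isotropic point only. -/
theorem fix_unique {g : GL (Fin 3) F} (hg : g ∈ suGL 3 F q) (hg1 : g ≠ 1)
    (hgu : (g : Matrix (Fin 3) (Fin 3) F) *ᵥ u = u) {w : Fin 3 → F} {μ : F} (hww : hermForm 3 F q w w = 0)
    (hgw : (g : Matrix (Fin 3) (Fin 3) F) *ᵥ w = μ • w) : hermForm 3 F q w u = 0 := by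
  by_contra hne
  have hs := sf hσ
  obtain ⟨-, r, s, t, ⟨-, he, hv⟩, h1, -⟩ := exists_par hσ P hee hg (l := 1) (by rw [one_smul]; exact hgu)
  simp only [map_one, div_one, inv_one, one_smul, mul_one] at he hv h1
  have hμ : μ = 1 := by
    have h := mem_GU_iff.mp hg.1 w u
    rw [hgw, hgu, hs.smul_left] at h
    exact mul_right_cancel₀ hne (h.trans (one_mul _).symm)
  rw [hμ, one_smul] at hgw
  have hd := pair_dec hσ P hee w
  rw [hd] at hgw
  simp only [Matrix.mulVec_add, Matrix.mulVec_smul, hgu, he, hv] at hgw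
  have a1 := congrArg (fun z => hermForm 3 F q z e) hgw
  have a2 := congrArg (fun z => hermForm 3 F q z v) hgw
  simp only [hs.add_left, hs.smul_left, P.ue, P.ve, P.uv, P.vv, orth_swp hσ P.ve, mul_zero, mul_one, add_zero,
    zero_add] at a1 a2
  have hs0 : s = 0 := by
    have : hermForm 3 F q w u * (s * hermForm 3 F q e e) = 0 := by linear_combination a1
    exact (mul_eq_zero.mp ((mul_eq_zero.mp this).resolve_left hne)).resolve_right hee
  have hr0 : r = 0 := by
    rw [hs0, zero_mul, add_zero] at h1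
    exact (map_eq_zero σ).mp h1
  have ht0 : t = 0 := by
    rw [hr0] at a2
    have : hermForm 3 F q w u * t = 0 := by linear_combination a2
    exact (mul_eq_zero.mp this).resolve_left hne
  refine hg1 (pair_ext hσ P hee ?_ ?_ ?_) <;> rw [Units.val_one, Matrix.one_mulVec]
  · exact hgu
  · rw [he, hr0, zero_smul, add_zero]
  · rw [hv, hs0, ht0, zero_smul, zero_smul, add_zero, add_zero]

/-- The fixer of `u` is a `p`-group. -/
theorem fixer_pow {p : ℕ} [CharP F p] (hp : p.Prime) {g : GL (Fin 3) F} (hg : g ∈ suGL 3 F q)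
    (hgu : (g : Matrix (Fin 3) (Fin 3) F) *ᵥ u = u) : g ^ (p ^ 2) = 1 := by
  haveI := Fact.mk hp
  obtain ⟨-, r, s, t, ⟨-, he, hv⟩, -, -⟩ := exists_par hσ P hee hg (l := 1) (by rw [one_smul]; exact hgu)
  simp only [map_one, div_one, inv_one, one_smul] at he hv
  obtain ⟨N, hN⟩ : ∃ N, N = (g : Matrix (Fin 3) (Fin 3) F) - 1 := ⟨_, rfl⟩
  have hN3 : N * N * N = 0 := Matrix.ext_of_mulVec_single fun j => by
    generalize Pi.single (M := fun _ => F) j 1 = z
    rw [pair_dec hσ P hee z, Matrix.zero_mulVec]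
    have nu : N *ᵥ u = 0 := by rw [hN, Matrix.sub_mulVec, hgu, Matrix.one_mulVec, sub_self]
    have ne : N *ᵥ e = r • u := by rw [hN, Matrix.sub_mulVec, he, Matrix.one_mulVec, add_sub_cancel_left]
    have nv : N *ᵥ v = s • e + t • u := by
      rw [hN, Matrix.sub_mulVec, hv, Matrix.one_mulVec]; abel
    simp only [← Matrix.mulVec_mulVec, Matrix.mulVec_add, Matrix.mulVec_smul, nu, ne, nv, smul_zero, add_zero,
      zero_add, Matrix.mulVec_zero]
  have h3 : 3 ≤ p ^ 2 := le_trans (by norm_num) (Nat.pow_le_pow_left hp.two_le 2)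
  haveI : CharP (Matrix (Fin 3) (Fin 3) F) p :=
    charP_of_injective_algebraMap (FaithfulSMul.algebraMap_injective F _) p
  have h1 : N ^ (p ^ 2) = (g : Matrix (Fin 3) (Fin 3) F) ^ (p ^ 2) - 1 := by
    rw [hN, sub_pow_char_pow_of_commute (R := Matrix (Fin 3) (Fin 3) F) (p := p) 2 (Commute.one_right _), one_pow]
  have h0 : N ^ (p ^ 2) = 0 := by
    rw [← Nat.sub_add_cancel h3, pow_add, show N ^ 3 = N * N * N by rw [pow_succ, pow_two], hN3, mul_zero]
  refine Units.ext ?_
  rw [Units.val_pow_eq_pow_val, Units.val_one]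
  exact sub_eq_zero.mp (h1.symm.trans h0)

/-- Two full root groups on a chord and an element moving its pole generate everything. -/
theorem full_of_two_roots (h3 : 3 ≤ q) {K : Subgroup (GL (Fin 3) F)} (hKS : K ≤ suGL 3 F q)
    (hu : ∀ c, c + σ c = 0 → ∀ g, Tv q g u c → g ∈ K) (hv : ∀ c, c + σ c = 0 → ∀ g, Tv q g v c → g ∈ K)
    {g₁ : GL (Fin 3) F} (hg₁ : g₁ ∈ K) (hmove : ∀ a : F, (g₁ : Matrix (Fin 3) (Fin 3) F) *ᵥ e ≠ a • e) :
    suGL 3 F q ≤ K := by
  have hs := sf hσ
  refine full_of_chord hσ h3 hKS hee (fun z c' hzz hze hc' g hg => ?_) hg₁ hmove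
  obtain ⟨x, y, hxy⟩ : ∃ x y, z = x • u + y • v := ⟨_, _, P.span z hze⟩
  by_cases hx : x = 0
  · have hg' : Tv q g (y • v) c' := by rwa [hxy, hx, zero_smul, zero_add] at hg
    refine hv _ ?_ g (tv_smul hσ y hg')
    rw [map_mul, map_mul, hσ.involutive]; linear_combination y * σ y * hc'
  obtain ⟨s', hs''⟩ : ∃ s', s' = y / x := ⟨_, rfl⟩
  have hxy' : z = x • (u + s' • v) := by rw [hxy, hs'', smul_add, smul_smul, mul_div_cancel₀ _ hx]
  have hss' : s' + σ s' = 0 := by
    rw [hxy'] at hzz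
    simp only [hs.smul_left, hs.smul_right, hs.add_left, hs.add_right, P.uu, P.vv, P.uv, P.vu, mul_one, mul_zero,
      zero_add, add_zero] at hzz
    have : x * σ x * (s' + σ s') = 0 := by linear_combination hzz
    exact (mul_eq_zero.mp this).resolve_left (mul_ne_zero hx fun e0 => hx ((map_eq_zero σ).mp e0))
  obtain ⟨k, -, hk⟩ := hσ.exists_transvection P.vv hss'
  have hku : (k : Matrix (Fin 3) (Fin 3) F) *ᵥ u = u + s' • v := by rw [hk, P.uv, mul_one]
  have hkK := hv s' hss' k hk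
  have hgu : Tv q g (u + s' • v) (c' * x * σ x) := tv_smul hσ x (hxy' ▸ hg)
  have hcx : c' * x * σ x + σ (c' * x * σ x) = 0 := by
    rw [map_mul, map_mul, hσ.involutive]; linear_combination x * σ x * hc'
  obtain ⟨g₀, -, hg₀⟩ := hσ.exists_transvection P.uu hcx
  have := tv_conj (hKS hkK).1 (show Tv q g₀ u (c' * x * σ x) from hg₀)
  rw [hku] at this
  rw [tv_unique hgu this]
  exact mul_mem (mul_mem hkK (hu _ hcx g₀ hg₀)) (inv_mem hkK)

end

/-- A `p`-subgroup fixes an isotropic vector. -/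
theorem pgroup_fix_iso {p : ℕ} [CharP F p] (hp : p.Prime) {S : Subgroup (GL (Fin 3) F)} (hS : S ≤ suGL 3 F q)
    (hSp : IsPGroup p S) :
    ∃ w : Fin 3 → F, w ≠ 0 ∧ hermForm 3 F q w w = 0 ∧ ∀ g ∈ S, (g : Matrix (Fin 3) (Fin 3) F) *ᵥ w = w := by
  classical
  haveI := Fact.mk hp
  have hs := sf hσ
  letI : MulAction S (Fin 3 → F) :=
    { smul := fun g x => ((g : GL (Fin 3) F) : Matrix (Fin 3) (Fin 3) F) *ᵥ x
      one_smul := fun x => by
        show ((1 : S) : GL (Fin 3) F).1 *ᵥ x = x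
        rw [Subgroup.coe_one, Units.val_one, Matrix.one_mulVec]
      mul_smul := fun g h x => gl_mul_mulVec (g : GL (Fin 3) F) h x }
  let W : Submodule F (Fin 3 → F) :=
    { carrier := {x | ∀ g ∈ S, (g : Matrix (Fin 3) (Fin 3) F) *ᵥ x = x}
      add_mem' := fun {a b} ha hb g hg => by rw [Matrix.mulVec_add, ha g hg, hb g hg]
      zero_mem' := fun g hg => Matrix.mulVec_zero _
      smul_mem' := fun c a ha g hg => by rw [Matrix.mulVec_smul, ha g hg] }
  -- a stable subspace has a nonzero fixed vector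
  have hfix : ∀ U : Submodule F (Fin 3 → F), U ≠ ⊥ → (∀ g ∈ S, ∀ x ∈ U, (g : Matrix (Fin 3) (Fin 3) F) *ᵥ x ∈ U) →
      ∃ x ∈ U, x ≠ 0 ∧ x ∈ W := by
    intro U hU hst
    letI : MulAction S U :=
      { smul := fun g x => ⟨((g : GL (Fin 3) F) : Matrix (Fin 3) (Fin 3) F) *ᵥ x, hst g g.2 x x.2⟩
        one_smul := fun x => Subtype.ext (one_smul S (x : Fin 3 → F))
        mul_smul := fun g h x => Subtype.ext (mul_smul g h (x : Fin 3 → F)) }
    haveI : Finite U := Finite.of_injective _ Subtype.val_injective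
    have hdvd : p ∣ Nat.card U := by
      rw [Module.natCard_eq_pow_finrank (K := F)]
      obtain ⟨n, -, hn⟩ := FiniteField.card F p
      rw [Nat.card_eq_fintype_card, hn]
      exact dvd_pow (dvd_pow_self p n.ne_zero) fun h => hU (Submodule.finrank_eq_zero.mp h)
    have h0 : (0 : U) ∈ MulAction.fixedPoints S U := fun g => Subtype.ext (by
      show ((g : GL (Fin 3) F) : Matrix (Fin 3) (Fin 3) F) *ᵥ (0 : Fin 3 → F) = 0
      exact Matrix.mulVec_zero _)
    obtain ⟨b, hb, hne⟩ := hSp.exists_fixed_point_of_prime_dvd_card_of_fixed_point U hdvd h0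
    exact ⟨b, b.2, fun e => hne (Subtype.ext e.symm), fun g hg => congrArg Subtype.val (hb ⟨g, hg⟩)⟩
  obtain ⟨x₀, -, hx₀, hx₀W⟩ := hfix ⊤ (fun h => (bot_ne_top (α := Submodule F (Fin 3 → F))) h.symm)
    fun g _ x _ => Submodule.mem_top
  by_contra hcon
  push Not at hcon
  let U : Submodule F (Fin 3 → F) :=
    { carrier := {x | ∀ y ∈ W, hermForm 3 F q x y = 0}
      add_mem' := fun {a b} ha hb y hy => by rw [hs.add_left, ha y hy, hb y hy, add_zero]
      zero_mem' := fun y hy => herm_zero_left hσ y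
      smul_mem' := fun c a ha y hy => by rw [hs.smul_left, ha y hy, mul_zero] }
  by_cases hU : U = ⊥
  · have hx := (hσ.isUnitaryForm.nondegenerate x₀ hx₀)
    -- then the fixed space is everything
    have hWtop : W = ⊤ := by
      by_contra hne
      have hlt : Module.finrank F W < 3 := by
        have := Submodule.finrank_lt hne
        rwa [Module.finrank_fintype_fun_eq_card, Fintype.card_fin] at this
      let b := Module.finBasis F W
      let φ : (Fin 3 → F) →ₗ[F] (Fin (Module.finrank F W) → F) :=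
        LinearMap.pi fun i =>
          { toFun := fun x => hermForm 3 F q x (b i), map_add' := fun x y => hs.add_left x y _,
            map_smul' := fun c x => hs.smul_left c x _ }
      have hk : LinearMap.ker φ ≠ ⊥ := LinearMap.ker_ne_bot_of_finrank_lt (by
        rw [Module.finrank_fin_fun, Module.finrank_fintype_fun_eq_card, Fintype.card_fin]; exact hlt)
      obtain ⟨x, hx, hx0⟩ := (Submodule.ne_bot_iff _).mp hk
      refine hx0 ((Submodule.mem_bot F).mp (hU ▸ (fun y hy => ?_ : x ∈ U)))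
      rw [LinearMap.mem_ker] at hx
      let A : (Fin 3 → F) →+ F :=
        { toFun := fun z => hermForm 3 F q x z, map_zero' := herm_zero_right hσ x,
          map_add' := fun z z' => hs.add_right x z z' }
      have hy' : y = ∑ i, b.repr ⟨y, hy⟩ i • ((b i : W) : Fin 3 → F) := by
        have := congrArg (fun z : W => (z : Fin 3 → F)) (b.sum_repr ⟨y, hy⟩)
        simp only [Submodule.coe_sum, Submodule.coe_smul] at this
        exact this.symm
      show A y = 0
      rw [hy', map_sum]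
      refine Finset.sum_eq_zero fun i _ => ?_
      show hermForm 3 F q x _ = 0
      rw [hs.smul_right, show hermForm 3 F q x ((b i : W) : Fin 3 → F) = 0 from congrFun hx i, mul_zero]
    obtain ⟨a, -, -, ha', -, -, -, hiso, -, -⟩ := hσ.three_values
    refine (hcon (Pi.single 0 1 + Pi.single 1 a) (fun h => one_ne_zero (α := F) (by
      simpa [Pi.single_apply] using congrFun h 0))
      (hσ.isotropic_pair (show (0 : Fin 3) ≠ 1 by decide) hiso)).elim fun g hg => hg.2 ?_
    exact (SetLike.ext_iff.mp hWtop (Pi.single 0 1 + Pi.single 1 a)).mpr trivial g hg.1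
  · obtain ⟨x, hxU, hx0, hxW⟩ := hfix U hU fun g hg x hx y hy => by
      rw [← hy g hg, mem_GU_iff.mp (hS hg).1]
      exact hx y hy
    obtain ⟨g, hg, hgx⟩ := hcon x hx0 (hxU x hxW)
    exact hgx (hxW g hg)

end Cfsg.Agent.Classical.UThree
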