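/-
Isotropic points of the unitary space of dimension three and orbits of subgroups on lines.
-/
import Cfsg.Agent.Lib.Classical.UThree.Geom

set_option autoImplicit false
set_option linter.unusedSectionVars false
set_option linter.style.haveILetI false

namespace Cfsg.Agent.Classical.UThree

open Matrix Cfsg.Geo
open Cfsg.Agent.Classical

variable {F : Type*} [Field F]

/-- The action on subspaces. -/
noncomputable def lineHom (F : Type*) [Field F] : GL (Fin 3) F →* Equiv.Perm (Submodule F (Fin 3 → F)) where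
  toFun g :=
    { toFun := fun L => L.map (Matrix.mulVecLin (g : Matrix (Fin 3) (Fin 3) F))
      invFun := fun L => L.map (Matrix.mulVecLin ((g⁻¹ : GL (Fin 3) F) : Matrix (Fin 3) (Fin 3) F))
      left_inv := fun L => by
        simp only
        rw [← Submodule.map_comp, ← Matrix.mulVecLin_mul, ← Units.val_mul, inv_mul_cancel, Units.val_one,
          Matrix.mulVecLin_one, Submodule.map_id]
      right_inv := fun L => by
        simp only
        rw [← Submodule.map_comp, ← Matrix.mulVecLin_mul, ← Units.val_mul, mul_inv_cancel, Units.val_one,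
          Matrix.mulVecLin_one, Submodule.map_id] }
  map_one' := Equiv.ext fun L => by simp
  map_mul' g h := Equiv.ext fun L => by
    show L.map _ = (L.map _).map _
    rw [← Submodule.map_comp, ← Matrix.mulVecLin_mul, Units.val_mul]

/-- The stabiliser of a line. -/
def Stab (K : Subgroup (GL (Fin 3) F)) (u : Fin 3 → F) : Subgroup (GL (Fin 3) F) :=
  K ⊓ subspaceStabilizer (Submodule.span F {u})

/-- The orbit of a line. -/
def orb (K : Subgroup (GL (Fin 3) F)) (u : Fin 3 → F) : Set (Submodule F (Fin 3 → F)) :=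
  {L | ∃ g ∈ K, L = Submodule.span F {(g : Matrix (Fin 3) (Fin 3) F) *ᵥ u}}

/-- The isotropic points. -/
def IsoPts (F : Type*) [Field F] (q : ℕ) : Set (Submodule F (Fin 3 → F)) :=
  {L | ∃ w : Fin 3 → F, w ≠ 0 ∧ hermForm 3 F q w w = 0 ∧ L = Submodule.span F {w}}

theorem lineHom_span (g : GL (Fin 3) F) (w : Fin 3 → F) :
    lineHom F g (Submodule.span F {w}) = Submodule.span F {(g : Matrix (Fin 3) (Fin 3) F) *ᵥ w} := by
  show (Submodule.span F {w}).map _ = _
  rw [Submodule.map_span, Set.image_singleton, Matrix.mulVecLin_apply]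

theorem span_eq_span {w w' : Fin 3 → F} {a : F} (ha : a ≠ 0) (h : w = a • w') :
    Submodule.span F {w} = Submodule.span F {w'} := by
  rw [h]
  exact Submodule.span_singleton_smul_eq (IsUnit.mk0 a ha) _

theorem exists_smul_of_span {w w' : Fin 3 → F} (hw : w ≠ 0)
    (h : Submodule.span F {w} = Submodule.span F {w'}) : ∃ a : F, a ≠ 0 ∧ w = a • w' := by
  have := Submodule.mem_span_singleton_self (R := F) w
  rw [h, Submodule.mem_span_singleton] at this
  obtain ⟨a, ha⟩ := this
  exact ⟨a, fun e => hw (by rw [← ha, e, zero_smul]), ha.symm⟩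

theorem mem_Stab {K : Subgroup (GL (Fin 3) F)} {u : Fin 3 → F} {g : GL (Fin 3) F} :
    g ∈ Stab K u ↔ g ∈ K ∧ ∃ a : F, (g : Matrix (Fin 3) (Fin 3) F) *ᵥ u = a • u := by
  refine and_congr_right fun _ => ⟨fun h => ?_, fun ⟨a, ha⟩ => ?_⟩
  · obtain ⟨a, ha⟩ := Submodule.mem_span_singleton.mp
      (mem_subspaceStabilizer_iff.mp h u (Submodule.mem_span_singleton_self u))
    exact ⟨a, ha.symm⟩
  · refine mem_subspaceStabilizer_iff.mpr fun w hw => ?_
    obtain ⟨c, rfl⟩ := Submodule.mem_span_singleton.mp hw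
    rw [Matrix.mulVec_smul, ha, smul_smul]
    exact Submodule.mem_span_singleton.mpr ⟨_, rfl⟩

variable [Fintype F]

theorem card_orb_mul {K : Subgroup (GL (Fin 3) F)} {u : Fin 3 → F} (hu : u ≠ 0) :
    Nat.card (orb K u) * Nat.card (Stab K u) = Nat.card K := by
  classical
  letI : MulAction K (Submodule F (Fin 3 → F)) := MulAction.compHom _ ((lineHom F).comp K.subtype)
  have hsmul : ∀ (g : K) (L : Submodule F (Fin 3 → F)), g • L = lineHom F (g : GL (Fin 3) F) L := fun g L => rfl
  have h1 : MulAction.orbit K (Submodule.span F {u}) = orb K u := Set.ext fun L => by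
    constructor
    · rintro ⟨g, rfl⟩
      exact ⟨g, g.2, by show g • Submodule.span F {u} = _; rw [hsmul, lineHom_span]⟩
    · rintro ⟨g, hg, rfl⟩
      exact ⟨⟨g, hg⟩, by show (⟨g, hg⟩ : K) • Submodule.span F {u} = _; rw [hsmul, lineHom_span]⟩
  have h2 : MulAction.stabilizer K (Submodule.span F {u}) = (Stab K u).subgroupOf K := by
    ext g
    rw [MulAction.mem_stabilizer_iff, Subgroup.mem_subgroupOf, mem_Stab, hsmul, lineHom_span]
    constructor
    · intro h
      by_cases h0 : ((g : GL (Fin 3) F) : Matrix (Fin 3) (Fin 3) F) *ᵥ u = 0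
      · exact ⟨g.2, 0, by rw [h0, zero_smul]⟩
      · obtain ⟨a, -, ha⟩ := exists_smul_of_span h0 h
        exact ⟨g.2, a, ha⟩
    · rintro ⟨-, a, ha⟩
      refine span_eq_span (fun e => hu (gl_mulVec_injective (g : GL (Fin 3) F) ?_)) ha
      show ((g : GL (Fin 3) F) : Matrix (Fin 3) (Fin 3) F) *ᵥ u = ((g : GL (Fin 3) F) : Matrix (Fin 3) (Fin 3) F) *ᵥ 0
      rw [ha, e, zero_smul, Matrix.mulVec_zero]
  have h := Nat.card_congr (MulAction.orbitProdStabilizerEquivGroup K (Submodule.span F {u}))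
  rw [Nat.card_prod, h1, h2, Nat.card_congr (Subgroup.subgroupOfEquivOfLe (show Stab K u ≤ K from inf_le_left)).toEquiv] at h
  exact h

variable {q : ℕ} {σ : F ≃+* F} (hσ : IsUSigma q σ)

include hσ

theorem orb_subset {K : Subgroup (GL (Fin 3) F)} (hK : K ≤ suGL 3 F q) {u : Fin 3 → F} (hu : u ≠ 0)
    (huu : hermForm 3 F q u u = 0) : orb K u ⊆ IsoPts F q := by
  rintro L ⟨g, hg, rfl⟩
  exact ⟨_, fun h => hu (gl_mulVec_injective g (h.trans (Matrix.mulVec_zero _).symm)),
    (mem_GU_iff.mp (hK hg).1 u u).trans huu, rfl⟩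

/-- An isotropic point other than `u` is not orthogonal to `u`. -/
theorem iso_not_orth {e u v w : Fin 3 → F} (P : Pair q e u v) (hee : hermForm 3 F q e e ≠ 0) (hw : w ≠ 0)
    (hww : hermForm 3 F q w w = 0) (hne : Submodule.span F {w} ≠ Submodule.span F {u}) :
    hermForm 3 F q w u ≠ 0 := fun h => by
  have hp := prop_of_orth hσ P hee hww h
  exact hne (span_eq_span (fun e0 => hw (by rw [hp, e0, zero_smul])) hp)

/-- There are `q ^ 3 + 1` isotropic points. -/
theorem card_isoPts : Nat.card (IsoPts F q) = q ^ 3 + 1 := by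
  classical
  have hs := sf hσ
  obtain ⟨a₀, -, -, -, -, -, -, -, -, -⟩ := hσ.three_values
  obtain ⟨e, hee⟩ : ∃ e : Fin 3 → F, hermForm 3 F q e e ≠ 0 :=
    ⟨Pi.single 0 1, by simp [hermForm, Fin.sum_univ_three, ← hσ.apply_eq]⟩
  obtain ⟨u, v, P⟩ := exists_pair hσ hee
  obtain ⟨ν, hν⟩ : ∃ ν, ν = hermForm 3 F q e e := ⟨_, rfl⟩
  have hνσ : σ ν = ν := by rw [hν, ← swp hσ]
  obtain ⟨d, hd0, hd⟩ := hσ.exists_skew
  have htr : ∀ β : F, ∃ s, s + σ s = -(β * σ β * ν) := fun β => by
    obtain ⟨s, -, hs'⟩ := UMaxSL.exists_trace (hσ.isUnitaryForm (n := 3)) (b := β * σ β * ν)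
      (by rw [map_mul, map_mul, hσ.involutive, hνσ]; ring)
    exact ⟨s, by linear_combination hs'⟩
  choose s hs' using htr
  let z : F × fixedField σ → Fin 3 → F := fun p => (s p.1 + d * (p.2 : F)) • u + p.1 • e + v
  have hzv : ∀ p, hermForm 3 F q (z p) u = 1 ∧ hermForm 3 F q (z p) e = p.1 * ν ∧
      hermForm 3 F q (z p) v = s p.1 + d * (p.2 : F) := fun p => by
    refine ⟨?_, ?_, ?_⟩ <;>
      simp [z, hs.add_left, hs.smul_left, P.uu, P.vv, P.uv, P.vu, P.ue, P.ve, orth_swp hσ P.ue, orth_swp hσ P.ve, ← hν]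
  have hziso : ∀ p, hermForm 3 F q (z p) (z p) = 0 := fun p => by
    simp only [z, hs.add_left, hs.add_right, hs.smul_left, hs.smul_right, P.uu, P.vv, P.uv, P.vu, P.ue, P.ve,
      orth_swp hσ P.ue, orth_swp hσ P.ve, ← hν, map_add, map_mul, mem_fixedField.mp p.2.2]
    linear_combination hs' p.1 + (p.2 : F) * hd
  have hz0 : ∀ p, z p ≠ 0 := fun p => (ne_zero_of_herm hσ (by rw [(hzv p).1]; exact one_ne_zero)).1
  have hu0 : u ≠ 0 := (ne_zero_of_herm hσ (by rw [P.uv]; exact one_ne_zero)).1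
  let f : Option (F × fixedField σ) → IsoPts F q := fun o => match o with
    | none => ⟨_, u, hu0, P.uu, rfl⟩
    | some p => ⟨_, z p, hz0 p, hziso p, rfl⟩
  have hne : ∀ p, Submodule.span F {u} ≠ Submodule.span F {z p} := fun p h => by
    obtain ⟨a, -, ha⟩ := exists_smul_of_span (hz0 p) h.symm
    have := (hzv p).1
    rw [ha, hs.smul_left, P.uu, mul_zero] at this
    exact zero_ne_one this
  have hf : Function.Bijective f := by
    refine ⟨fun o o' h => ?_, fun ⟨L, w, hw0, hww, hL⟩ => ?_⟩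
    · have h' := congrArg Subtype.val h
      rcases o with _ | p <;> rcases o' with _ | p'
      · rfl
      · exact absurd h' (hne p')
      · exact absurd h'.symm (hne p)
      · obtain ⟨a, -, ha⟩ := exists_smul_of_span (hz0 p) h'
        have e1 := (hzv p).1
        rw [ha, hs.smul_left, (hzv p').1, mul_one] at e1
        rw [e1, one_smul] at ha
        have e2 : p.1 = p'.1 := mul_right_cancel₀ (hν ▸ hee : ν ≠ 0) (by rw [← (hzv p).2.1, ha, (hzv p').2.1])
        have e3 : s p.1 + d * (p.2 : F) = s p'.1 + d * (p'.2 : F) := by rw [← (hzv p).2.2, ha, (hzv p').2.2]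
        rw [e2] at e3
        have e4 : (p.2 : F) = p'.2 := mul_left_cancel₀ hd0 (add_left_cancel e3)
        exact congrArg some (Prod.ext e2 (Subtype.ext e4))
    · by_cases hwu : Submodule.span F {w} = Submodule.span F {u}
      · exact ⟨none, Subtype.ext (hL.trans hwu).symm⟩
      have hα := iso_not_orth hσ P hee hw0 hww hwu
      obtain ⟨α, hαd⟩ : ∃ α, α = hermForm 3 F q w u := ⟨_, rfl⟩
      rw [← hαd] at hα
      obtain ⟨w', hw'⟩ : ∃ w', w' = α⁻¹ • w := ⟨_, rfl⟩
      have h1 : hermForm 3 F q w' u = 1 := by rw [hw', hs.smul_left, ← hαd, inv_mul_cancel₀ hα]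
      have h2 : hermForm 3 F q w' w' = 0 := by rw [hw', hs.smul_left, hs.smul_right, hww, mul_zero, mul_zero]
      have hdec := pair_dec hσ P hee w'
      rw [h1, one_smul, ← hν] at hdec
      obtain ⟨γ, hγ⟩ : ∃ γ, γ = hermForm 3 F q w' v := ⟨_, rfl⟩
      obtain ⟨β, hβ⟩ : ∃ β, β = hermForm 3 F q w' e / ν := ⟨_, rfl⟩
      rw [← hγ, ← hβ] at hdec
      have hiso : γ + σ γ + β * σ β * ν = 0 := by
        rw [hdec] at h2
        simp only [hs.add_left, hs.add_right, hs.smul_left, hs.smul_right, P.uu, P.vv, P.uv, P.vu, P.ue, P.ve,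
          orth_swp hσ P.ue, orth_swp hσ P.ve, ← hν] at h2
        linear_combination h2
      have hx : (γ - s β) / d ∈ fixedField σ := mem_fixedField.mpr (by
        rw [map_div₀, map_sub, eq_neg_of_add_eq_zero_right hd, div_eq_div_iff (neg_ne_zero.mpr hd0) hd0]
        linear_combination d * (hiso - hs' β))
      refine ⟨some (β, ⟨_, hx⟩), Subtype.ext ?_⟩
      show Submodule.span F {z (β, ⟨_, hx⟩)} = L
      rw [hL, show z (β, ⟨_, hx⟩) = w' by
        rw [hdec]; simp only [z]; rw [mul_div_cancel₀ _ hd0, add_sub_cancel]]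
      exact span_eq_span (inv_ne_zero hα) hw'
  rw [← Nat.card_congr (Equiv.ofBijective f hf), Finite.card_option, Nat.card_prod, hσ.card_fixed,
    Nat.card_eq_fintype_card, hσ.card]
  ring

end Cfsg.Agent.Classical.UThree
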