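/-
Groups acting on the lines of a nondegenerate plane of the unitary space of dimension three.
-/
import Cfsg.Agent.Lib.Classical.UThree.Pts
import Mathlib.GroupTheory.GroupAction.CardCommute

set_option autoImplicit false
set_option linter.unusedSectionVars false
set_option linter.style.haveILetI false
set_option maxHeartbeats 400000

namespace Cfsg.Agent.Classical.UThree

open Matrix Cfsg.Geo
open Cfsg.Agent.Classical

/-- Every nontrivial element fixing two points: the orbit lengths. -/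
theorem two_fix {G : Type*} [Group G] [Finite G] {Ω : Type*} [Finite Ω] [MulAction G Ω]
    (hfix : ∀ g : G, g ≠ 1 → Nat.card (MulAction.fixedBy Ω g) = 2) (x : Ω)
    (hx : 2 ≤ Nat.card (MulAction.stabilizer G x)) :
    Nat.card (MulAction.orbit G x) ≤ 2 ∨ ∃ o₂ o₃ : ℕ, o₂ ∣ Nat.card G ∧ o₃ ∣ Nat.card G ∧ 2 * o₂ ≤ Nat.card G ∧
      2 * o₃ ≤ Nat.card G ∧ Nat.card (MulAction.orbit G x) + o₂ + o₃ = Nat.card G + 2 := by
  classical
  haveI := Fintype.ofFinite G
  haveI := Fintype.ofFinite Ω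
  obtain ⟨n, hn⟩ : ∃ n, n = Nat.card G := ⟨_, rfl⟩
  let Q := MulAction.orbitRel.Quotient G Ω
  haveI : Fintype Q := Fintype.ofFinite Q
  let o : Q → ℕ := fun ω => Nat.card (MulAction.orbitRel.Quotient.orbit ω)
  have ho : ∀ y : Ω, o (Quotient.mk'' y) * Nat.card (MulAction.stabilizer G y) = n := fun y => by
    have := Nat.card_congr (MulAction.orbitProdStabilizerEquivGroup G y)
    rw [Nat.card_prod, ← hn] at this
    simp only [o, MulAction.orbitRel.Quotient.orbit_mk]
    exact this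
  have hdvd : ∀ ω : Q, o ω ∣ n ∧ 0 < o ω := fun ω => by
    refine Quotient.inductionOn' ω fun y => ?_
    refine ⟨Dvd.intro _ (ho y), Nat.pos_of_ne_zero fun h => ?_⟩
    have := ho y
    rw [h, zero_mul] at this
    exact (Nat.card_pos (α := G)).ne (this.trans hn)
  have hsum : ∑ g : G, Fintype.card (MulAction.fixedBy Ω g) = Fintype.card Q * n := by
    rw [hn, Nat.card_eq_fintype_card]
    exact MulAction.sum_card_fixedBy_eq_card_orbits_mul_card_group G Ω
  have h1 : Fintype.card (MulAction.fixedBy Ω (1 : G)) = ∑ ω : Q, o ω := by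
    rw [← Nat.card_eq_fintype_card, show Nat.card (MulAction.fixedBy Ω (1 : G)) = Nat.card Ω from
      Nat.card_congr (Equiv.subtypeUnivEquiv fun y => by simp [MulAction.mem_fixedBy]),
      Nat.card_congr (MulAction.selfEquivSigmaOrbits' G Ω), Nat.card_sigma]
  rw [← Finset.add_sum_erase _ _ (Finset.mem_univ (1 : G)), h1,
    Finset.sum_congr rfl (fun g hg => show Fintype.card (MulAction.fixedBy Ω g) = 2 by
      rw [← Nat.card_eq_fintype_card]; exact hfix g (Finset.mem_erase.mp hg).1),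
    Finset.sum_const, Finset.card_erase_of_mem (Finset.mem_univ _), Finset.card_univ, smul_eq_mul,
    ← Nat.card_eq_fintype_card, ← hn] at hsum
  have hn1 : 1 ≤ n := hn ▸ Nat.card_pos
  -- the short orbits
  let S : Finset Q := Finset.univ.filter fun ω => o ω < n
  have hS : ∀ ω ∈ S, 2 * o ω ≤ n := fun ω hω => by
    obtain ⟨⟨k, hk⟩, hpos⟩ := hdvd ω
    have hlt : o ω < n := (Finset.mem_filter.mp hω).2
    have : 2 ≤ k := by
      by_contra h
      interval_cases k <;> omega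
    calc 2 * o ω ≤ k * o ω := Nat.mul_le_mul_right _ this
      _ = n := by rw [hk, mul_comm]
  have heq : ∑ ω ∈ S, o ω + 2 * (n - 1) = S.card * n := by
    have e1 : ∑ ω ∈ Finset.univ.filter (fun ω => ¬ o ω < n), o ω =
        (Finset.univ.filter fun ω : Q => ¬ o ω < n).card * n := by
      rw [Finset.sum_congr rfl (fun ω hω => show o ω = n from
        le_antisymm (Nat.le_of_dvd hn1 (hdvd ω).1) (not_lt.mp (Finset.mem_filter.mp hω).2)), Finset.sum_const,
        smul_eq_mul]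
    have e2 := Finset.sum_filter_add_sum_filter_not (Finset.univ : Finset Q) (fun ω => o ω < n) o
    have e3 := Finset.card_filter_add_card_filter_not (s := (Finset.univ : Finset Q)) (fun ω => o ω < n)
    rw [Finset.card_univ] at e3
    rw [← e2, ← e3, e1, add_mul] at hsum
    show ∑ ω ∈ S, o ω + 2 * (n - 1) = S.card * n
    simp only [S] at *
    omega
  have hle : 2 * ∑ ω ∈ S, o ω ≤ S.card * n := by
    rw [Finset.mul_sum]
    exact (Finset.sum_le_sum hS).trans_eq (by rw [Finset.sum_const, smul_eq_mul])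
  have hcard : S.card ≤ 3 := by
    by_contra h
    have : 4 * n ≤ S.card * n := Nat.mul_le_mul_right _ (by omega)
    omega
  obtain ⟨x', hx'⟩ : ∃ x' : Q, x' = Quotient.mk'' x := ⟨_, rfl⟩
  have hox : o x' = Nat.card (MulAction.orbit G x) := by
    rw [hx']; simp only [o, MulAction.orbitRel.Quotient.orbit_mk]
  have hmem : x' ∈ S := Finset.mem_filter.mpr ⟨Finset.mem_univ _, by
    have := ho x
    rw [← hx'] at this
    have := (hdvd x').2
    nlinarith⟩
  rw [← hox, ← hn]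
  rw [← Finset.add_sum_erase _ _ hmem] at heq
  have hc := Finset.card_erase_of_mem hmem
  have hSpos : 1 ≤ S.card := Finset.card_pos.mpr ⟨_, hmem⟩
  interval_cases hk : S.card
  · rw [Finset.card_eq_zero.mp hc, Finset.sum_empty] at heq
    left; omega
  · obtain ⟨a, ha⟩ := Finset.card_eq_one.mp hc
    rw [ha, Finset.sum_singleton] at heq
    have := (hdvd a).2
    left; omega
  · obtain ⟨a, b, hab, he⟩ := Finset.card_eq_two.mp hc
    rw [he, Finset.sum_pair hab] at heq
    have ha : a ∈ S := Finset.mem_of_mem_erase (s := S) (a := x') (by rw [he]; exact Finset.mem_insert_self _ _)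
    have hb : b ∈ S := Finset.mem_of_mem_erase (s := S) (a := x') (by
      rw [he]; exact Finset.mem_insert_of_mem (Finset.mem_singleton_self _))
    exact Or.inr ⟨o a, o b, (hdvd a).1, (hdvd b).1, hS a ha, hS b hb, by omega⟩

/-- The orbit lengths bound the stabiliser. -/
theorem two_fix_arith {o m o₂ o₃ : ℕ} (ho : 3 ≤ o) (h2 : o₂ ∣ o * m) (h3 : o₃ ∣ o * m) (l2 : 2 * o₂ ≤ o * m)
    (l3 : 2 * o₃ ≤ o * m) (h : o + o₂ + o₃ = o * m + 2) : m ≤ 5 := by
  wlog hw : o₂ ≤ o₃ generalizing o₂ o₃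
  · exact this h3 h2 l3 l2 (by omega) (by omega)
  obtain ⟨n, hn⟩ : ∃ n, n = o * m := ⟨_, rfl⟩
  rw [← hn] at h2 h3 l2 l3 h
  have key : ∀ x, x ∣ n → 2 * x ≤ n → 3 * x ≤ n ∨ 2 * x = n := fun x ⟨k, hk⟩ hx => by
    rcases Nat.lt_or_ge k 3 with hk3 | hk3
    · interval_cases k <;> omega
    · left; rw [hk, mul_comm 3 x]; exact Nat.mul_le_mul_left x hk3
  by_contra hm
  have h6 : o * 6 ≤ n := hn ▸ Nat.mul_le_mul_left o (by omega)
  rcases key o₃ h3 l3 with a | a <;> rcases key o₂ h2 l2 with b | b <;> omega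

variable {F : Type*} [Field F] [Fintype F] {q : ℕ} {σ : F ≃+* F} (hσ : IsUSigma q σ)

include hσ

/-- The eigenlines of a semisimple unitary element on a plane. -/
theorem plane_fix {p : ℕ} [CharP F p] (h2 : (2 : F) ≠ 0) {e u v : Fin 3 → F} (P : Pair q e u v) {g : GL (Fin 3) F}
    (hg : g ∈ GU 3 F q) (hge : ∃ a : F, (g : Matrix (Fin 3) (Fin 3) F) *ᵥ e = a • e) (hp : ¬ p ∣ orderOf g)
    (hee : hermForm 3 F q e e ≠ 0) :
    (∃ a : F, (g : Matrix (Fin 3) (Fin 3) F) *ᵥ u = a • u ∧ (g : Matrix (Fin 3) (Fin 3) F) *ᵥ v = a • v) ∨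
      ∃ w₁ w₂ : Fin 3 → F, w₁ ≠ 0 ∧ w₂ ≠ 0 ∧ hermForm 3 F q w₁ e = 0 ∧ hermForm 3 F q w₂ e = 0 ∧
        Submodule.span F {w₁} ≠ Submodule.span F {w₂} ∧
        (∃ a : F, (g : Matrix (Fin 3) (Fin 3) F) *ᵥ w₁ = a • w₁) ∧
        (∃ a : F, (g : Matrix (Fin 3) (Fin 3) F) *ᵥ w₂ = a • w₂) ∧
        ∀ w : Fin 3 → F, w ≠ 0 → hermForm 3 F q w e = 0 → (∃ a : F, (g : Matrix (Fin 3) (Fin 3) F) *ᵥ w = a • w) →
          Submodule.span F {w} = Submodule.span F {w₁} ∨ Submodule.span F {w} = Submodule.span F {w₂} := by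
  classical
  have hs := sf hσ
  have hgU := mem_GU_iff.mp hg
  obtain ⟨l, hl⟩ := hge
  have hl0 : l ≠ 0 := fun h => hee (by
    rw [← hgU e e, hl, h, zero_smul, herm_zero_left hσ])
  have hperp : ∀ x, hermForm 3 F q x e = 0 → hermForm 3 F q ((g : Matrix (Fin 3) (Fin 3) F) *ᵥ x) e = 0 := fun x hx => by
    have h := hgU x e
    rw [hl, hs.smul_right, hx] at h
    exact (mul_eq_zero.mp h).resolve_left fun h0 => hl0 ((map_eq_zero σ).mp h0)
  obtain ⟨a, c, hgu⟩ : ∃ a c, (g : Matrix (Fin 3) (Fin 3) F) *ᵥ u = a • u + c • v := ⟨_, _, P.span _ (hperp u P.ue)⟩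
  obtain ⟨b, d, hgv⟩ : ∃ b d, (g : Matrix (Fin 3) (Fin 3) F) *ᵥ v = b • u + d • v := ⟨_, _, P.span _ (hperp v P.ve)⟩
  have r1 := hgU u u
  have r2 := hgU v v
  have r3 := hgU u v
  have r4 := hgU v u
  rw [hgu] at r1 r3 r4
  rw [hgv] at r2 r3 r4
  simp only [hs.add_left, hs.add_right, hs.smul_left, hs.smul_right, P.uu, P.vv, P.uv, P.vu, mul_zero, mul_one,
    add_zero, zero_add] at r1 r2 r3 r4
  obtain ⟨D, hD⟩ : ∃ D, D = a * d - b * c := ⟨_, rfl⟩
  obtain ⟨T, hT⟩ : ∃ T, T = a + d := ⟨_, rfl⟩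
  have eD : D * σ D = 1 := by
    rw [hD, map_sub, map_mul, map_mul]
    linear_combination (d * σ a + b * σ c) * r3 + r4 - (b * σ d + d * σ b) * r1
  have eT : D * σ T = T := by
    rw [hD, hT, map_add]
    linear_combination d * r3 + a * r4 - c * r2 - b * r1
  obtain ⟨Δ, hΔ⟩ : ∃ Δ, Δ = T * T - 4 * D := ⟨_, rfl⟩
  have eΔ : D * D * σ Δ = Δ := by
    rw [hΔ, map_sub, map_mul, map_mul, map_ofNat]
    linear_combination (D * σ T + T) * eT - 4 * D * eD
  have hact : ∀ x y : F, (g : Matrix (Fin 3) (Fin 3) F) *ᵥ (x • u + y • v) =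
      (a * x + b * y) • u + (c * x + d * y) • v := fun x y => by
    rw [Matrix.mulVec_add, Matrix.mulVec_smul, Matrix.mulVec_smul, hgu, hgv]; module
  have hperpxy : ∀ x y : F, hermForm 3 F q (x • u + y • v) e = 0 := fun x y => by
    simp [hs.add_left, hs.smul_left, P.ue, P.ve]
  have hcoord : ∀ x y x' y' : F, x • u + y • v = x' • u + y' • v → x = x' ∧ y = y' := fun x y x' y' h => by
    have e1 := congrArg (fun z => hermForm 3 F q z v) h
    have e2 := congrArg (fun z => hermForm 3 F q z u) h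
    simp only [hs.add_left, hs.smul_left, P.uu, P.vv, P.uv, P.vu, mul_zero, mul_one, add_zero, zero_add] at e1 e2
    exact ⟨e1, e2⟩
  by_cases hΔ0 : Δ = 0
  · left
    obtain ⟨μ, hμ⟩ : ∃ μ, μ = T / 2 := ⟨_, rfl⟩
    have hμ2 : 2 * μ = a + d := by rw [hμ, hT]; field_simp
    have hμD : μ * μ = D := by
      have : (2 : F) * 2 * (μ * μ - D) = 0 := by
        rw [hT] at hΔ
        linear_combination (2 * μ + a + d) * hμ2 + hΔ0 - hΔ
      exact sub_eq_zero.mp ((mul_eq_zero.mp this).resolve_left (mul_ne_zero h2 h2))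
    have hμ0 : μ ≠ 0 := fun h => by
      rw [← hμD, h, mul_zero, zero_mul] at eD
      exact zero_ne_one eD
    have hn : ((orderOf g : ℕ) : F) ≠ 0 := fun h => hp ((CharP.cast_eq_zero_iff F p _).mp h)
    have hnil : ∀ x w : Fin 3 → F, (g : Matrix (Fin 3) (Fin 3) F) *ᵥ x = μ • x + w →
        (g : Matrix (Fin 3) (Fin 3) F) *ᵥ w = μ • w → w = 0 := by
      intro x w hx hw
      have hpow : ∀ k : ℕ, μ • (((g ^ k : GL (Fin 3) F) : Matrix (Fin 3) (Fin 3) F) *ᵥ x) =
          (μ ^ (k + 1)) • x + ((k : F) * μ ^ k) • w := by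
        intro k
        induction k with
        | zero => simp
        | succ k ih =>
          rw [pow_succ', gl_mul_mulVec, ← Matrix.mulVec_smul, ih, Matrix.mulVec_add, Matrix.mulVec_smul,
            Matrix.mulVec_smul, hx, hw, Nat.cast_succ]
          module
      have hpw : ∀ k : ℕ, ((g ^ k : GL (Fin 3) F) : Matrix (Fin 3) (Fin 3) F) *ᵥ w = μ ^ k • w := by
        intro k
        induction k with
        | zero => simp
        | succ k ih => rw [pow_succ', gl_mul_mulVec, ih, Matrix.mulVec_smul, hw, smul_smul, pow_succ]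
      by_contra hw0
      have e1 := hpow (orderOf g)
      have e2 := hpw (orderOf g)
      rw [pow_orderOf_eq_one, Units.val_one, Matrix.one_mulVec] at e1 e2
      have hμn : μ ^ orderOf g = 1 := by
        by_contra hne
        exact hw0 ((smul_eq_zero.mp (by rw [sub_smul, one_smul, ← e2, sub_self] :
          (μ ^ orderOf g - 1) • w = 0)).resolve_left (sub_ne_zero.mpr hne))
      rw [pow_succ', hμn, mul_one, mul_one, left_eq_add, smul_eq_zero] at e1
      exact e1.elim hn hw0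
    have hu' := hnil u ((a - μ) • u + c • v) (by rw [hgu]; module) (by
      rw [hact]
      match_scalars
      · linear_combination hμD + hD + (-a) * hμ2
      · linear_combination (-c) * hμ2)
    have hv' := hnil v (b • u + (d - μ) • v) (by rw [hgv]; module) (by
      rw [hact]
      match_scalars
      · linear_combination (-b) * hμ2
      · linear_combination hμD + hD + (-d) * hμ2)
    obtain ⟨ha, hc⟩ := hcoord _ _ 0 0 (by rw [hu', zero_smul, zero_smul, add_zero])
    obtain ⟨hb, hd⟩ := hcoord _ _ 0 0 (by rw [hv', zero_smul, zero_smul, add_zero])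
    refine ⟨μ, ?_, ?_⟩
    · rw [hgu, sub_eq_zero.mp ha, hc, zero_smul, add_zero]
    · rw [hgv, sub_eq_zero.mp hd, hb, zero_smul, zero_add]
  -- two distinct roots
  obtain ⟨k, hk⟩ : Odd q := (hσ.odd_iff).mpr h2
  have hsq : IsSquare Δ := by
    haveI := ringChar.charP F
    have hchar : ringChar F ≠ 2 := fun h => h2 (by
      rw [show (2 : F) = ((2 : ℕ) : F) by norm_num, ← h]; exact CharP.cast_eq_zero F (ringChar F))
    rw [FiniteField.isSquare_iff hchar hΔ0, hσ.card]
    have e1 : Δ ^ (q - 1) = (D * D)⁻¹ := by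
      have hDD : D * D ≠ 0 := fun h => hΔ0 (by rw [← eΔ, h, zero_mul])
      refine mul_right_cancel₀ hΔ0 ?_
      rw [← pow_succ, Nat.sub_add_cancel (by omega), ← hσ.apply_eq]
      exact (eq_inv_mul_iff_mul_eq₀ hDD).mpr eΔ
    have e2 : q ^ 2 / 2 = (q - 1) * (k + 1) := by
      subst hk
      rw [Nat.add_sub_cancel, show (2 * k + 1) ^ 2 = 1 + 2 * (2 * k * (k + 1)) by ring,
        Nat.add_mul_div_left _ _ two_pos]
      norm_num
    rw [e2, pow_mul, e1, inv_pow, inv_eq_one, ← pow_two, ← pow_mul,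
      show 2 * (k + 1) = q + 1 by omega, pow_succ, ← hσ.apply_eq, mul_comm, eD]
  obtain ⟨r, hr⟩ := hsq
  right
  have heig : ∀ μ : F, μ * μ - T * μ + D = 0 → ∃ w : Fin 3 → F, w ≠ 0 ∧ hermForm 3 F q w e = 0 ∧
      (g : Matrix (Fin 3) (Fin 3) F) *ᵥ w = μ • w := by
    intro μ hμ
    rw [hT, hD] at hμ
    by_cases h1 : b = 0 ∧ μ - a = 0
    · by_cases h3 : μ - d = 0 ∧ c = 0
      · refine ⟨u, (ne_zero_of_herm hσ (by rw [P.uv]; exact one_ne_zero)).1, P.ue, ?_⟩
        rw [hgu, h3.2, zero_smul, add_zero, sub_eq_zero.mp h1.2]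
      · refine ⟨(μ - d) • u + c • v, fun h => h3 ?_, hperpxy _ _, ?_⟩
        · obtain ⟨x, y⟩ := hcoord _ _ 0 0 (by rw [h, zero_smul, zero_smul, add_zero]); exact ⟨x, y⟩
        · rw [hact]; match_scalars
          · linear_combination -hμ
          · ring
    · refine ⟨b • u + (μ - a) • v, fun h => h1 ?_, hperpxy _ _, ?_⟩
      · obtain ⟨x, y⟩ := hcoord _ _ 0 0 (by rw [h, zero_smul, zero_smul, add_zero]); exact ⟨x, y⟩
      · rw [hact]; match_scalars
        · ring
        · linear_combination -hμ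
  obtain ⟨μ₁, hμ₁⟩ : ∃ μ, μ = (T + r) / 2 := ⟨_, rfl⟩
  obtain ⟨μ₂, hμ₂⟩ : ∃ μ, μ = (T - r) / 2 := ⟨_, rfl⟩
  obtain ⟨w₁, w10, w1e, w1g⟩ := heig μ₁ (by rw [hμ₁]; field_simp; linear_combination -hr + hΔ)
  obtain ⟨w₂, w20, w2e, w2g⟩ := heig μ₂ (by rw [hμ₂]; field_simp; linear_combination -hr + hΔ)
  have hμne : μ₁ ≠ μ₂ := fun h => hΔ0 (by
    rw [hμ₁, hμ₂] at h
    field_simp at h
    have : (2 : F) * r = 0 := by linear_combination h
    rw [hr, (mul_eq_zero.mp this).resolve_left h2, mul_zero])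
  refine ⟨w₁, w₂, w10, w20, w1e, w2e, fun h => hμne ?_, ⟨_, w1g⟩, ⟨_, w2g⟩, fun w hw hwe ⟨μ, hμ⟩ => ?_⟩
  · obtain ⟨s, -, hs'⟩ := exists_smul_of_span w10 h
    refine smul_left_injective F w10 (show μ₁ • w₁ = μ₂ • w₁ from ?_)
    rw [← w1g, hs', Matrix.mulVec_smul, w2g, smul_comm]
  -- coordinates in the eigenbasis
  have hmem : ∀ z, hermForm 3 F q z e = 0 → z ∈ Submodule.span F {u, v} := fun z hz =>
    Submodule.mem_span_pair.mpr ⟨_, _, (P.span z hz).symm⟩
  have hli : LinearIndependent F ![w₁, w₂] := by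
    rw [LinearIndependent.pair_iff]
    intro s t hst
    have h := congrArg (fun z => (g : Matrix (Fin 3) (Fin 3) F) *ᵥ z - μ₂ • z) hst
    simp only [Matrix.mulVec_add, Matrix.mulVec_smul, w1g, w2g, Matrix.mulVec_zero, smul_zero, sub_zero] at h
    have hs0 : (s * (μ₁ - μ₂)) • w₁ = 0 := by rw [← h]; module
    have hs' : s = 0 := (mul_eq_zero.mp ((smul_eq_zero.mp hs0).resolve_right w10)).resolve_right (sub_ne_zero.mpr hμne)
    rw [hs', zero_smul, zero_add] at hst
    exact ⟨hs', (smul_eq_zero.mp hst).resolve_right w20⟩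
  have hspan : Submodule.span F {w₁, w₂} = Submodule.span F {u, v} := by
    refine Submodule.eq_of_le_of_finrank_le ?_ ?_
    · rw [Submodule.span_le]
      rintro z (rfl | rfl)
      exacts [hmem _ w1e, hmem _ w2e]
    · refine ((finrank_span_le_card ({u, v} : Set (Fin 3 → F))).trans ?_).trans (le_of_eq (show 2 = _ from ?_))
      · rw [Set.toFinset_insert, Set.toFinset_singleton]; exact Finset.card_le_two
      · rw [← Matrix.range_cons_cons_empty w₁ w₂ ![], finrank_span_eq_card hli, Fintype.card_fin]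
  obtain ⟨x, y, hxy⟩ := Submodule.mem_span_pair.mp (hspan.symm ▸ hmem w hwe)
  rw [← hxy, Matrix.mulVec_add, Matrix.mulVec_smul, Matrix.mulVec_smul, w1g, w2g, smul_add, smul_smul, smul_smul,
    smul_smul, smul_smul] at hμ
  have h0 : (x * μ₁ - μ * x) • w₁ + (y * μ₂ - μ * y) • w₂ = 0 := by
    linear_combination (norm := module) hμ
  obtain ⟨hx, hy⟩ := LinearIndependent.pair_iff.mp hli _ _ h0
  by_cases hx0 : x = 0
  · right
    rw [hx0, zero_smul, zero_add] at hxy
    exact span_eq_span (fun h => hw (by rw [← hxy, h, zero_smul])) hxy.symm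
  · left
    have hy0 : y = 0 := by
      by_contra hy0
      refine hμne ?_
      rw [mul_comm μ x, ← mul_sub] at hx
      rw [mul_comm μ y, ← mul_sub] at hy
      rw [sub_eq_zero.mp ((mul_eq_zero.mp hx).resolve_left hx0), sub_eq_zero.mp ((mul_eq_zero.mp hy).resolve_left hy0)]
    rw [hy0, zero_smul, add_zero] at hxy
    exact span_eq_span hx0 hxy.symm

/-- The kernel on the lines of a plane. -/
def chordKer (C : Subgroup (GL (Fin 3) F)) (u v : Fin 3 → F) : Set (GL (Fin 3) F) :=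
  {g | g ∈ C ∧ ∃ a : F, (g : Matrix (Fin 3) (Fin 3) F) *ᵥ u = a • u ∧ (g : Matrix (Fin 3) (Fin 3) F) *ᵥ v = a • v}

/-- The action on a plane. -/
theorem chord_orbits {p : ℕ} [CharP F p] (hp : p.Prime) (h2 : (2 : F) ≠ 0) {C : Subgroup (GL (Fin 3) F)}
    (hC : C ≤ suGL 3 F q) (hpC : ¬ p ∣ Nat.card C) {e u v : Fin 3 → F} (P : Pair q e u v)
    (hee : hermForm 3 F q e e ≠ 0) (hCe : ∀ g ∈ C, ∃ a : F, (g : Matrix (Fin 3) (Fin 3) F) *ᵥ e = a • e) :
    ∃ m : ℕ, m * Nat.card (chordKer C u v) = Nat.card (Stab C u) ∧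
      (m ≤ 1 ∨ Nat.card (orb C u) ≤ 2 ∨ ∃ o₂ o₃ : ℕ, o₂ ∣ Nat.card (orb C u) * m ∧
        o₃ ∣ Nat.card (orb C u) * m ∧ 2 * o₂ ≤ Nat.card (orb C u) * m ∧ 2 * o₃ ≤ Nat.card (orb C u) * m ∧
        Nat.card (orb C u) + o₂ + o₃ = Nat.card (orb C u) * m + 2) := by
  classical
  have hs := sf hσ
  let Ω : Set (Submodule F (Fin 3 → F)) :=
    {L | ∃ w : Fin 3 → F, w ≠ 0 ∧ hermForm 3 F q w e = 0 ∧ L = Submodule.span F {w}}
  haveI : Finite (Submodule F (Fin 3 → F)) :=
    Finite.of_injective (fun L : Submodule F (Fin 3 → F) => (L : Set (Fin 3 → F))) SetLike.coe_injective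
  have hperp : ∀ g ∈ C, ∀ x, hermForm 3 F q x e = 0 →
      hermForm 3 F q ((g : Matrix (Fin 3) (Fin 3) F) *ᵥ x) e = 0 := fun g hg x hx => by
    obtain ⟨a, ha⟩ := hCe g hg
    have h := mem_GU_iff.mp (hC hg).1 x e
    rw [ha, hs.smul_right, hx] at h
    refine (mul_eq_zero.mp h).resolve_left fun h0 => hee ?_
    rw [← mem_GU_iff.mp (hC hg).1 e e, ha, (map_eq_zero σ).mp h0, zero_smul, herm_zero_left hσ]
  have hmove : ∀ (g : GL (Fin 3) F), g ∈ C → ∀ L ∈ Ω, lineHom F g L ∈ Ω := by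
    rintro g hg L ⟨w, hw, hwe, rfl⟩
    exact ⟨_, fun h => hw (gl_mulVec_injective g (h.trans (Matrix.mulVec_zero _).symm)), hperp g hg w hwe,
      lineHom_span g w⟩
  letI act : MulAction C Ω :=
    { smul := fun g L => ⟨lineHom F (g : GL (Fin 3) F) L, hmove g g.2 L L.2⟩
      one_smul := fun L => Subtype.ext (by
        show lineHom F ((1 : C) : GL (Fin 3) F) L = L
        rw [Subgroup.coe_one, map_one, Equiv.Perm.one_apply])
      mul_smul := fun g h L => Subtype.ext (by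
        show lineHom F ((g * h : C) : GL (Fin 3) F) L = lineHom F g (lineHom F h L)
        rw [Subgroup.coe_mul, map_mul, Equiv.Perm.mul_apply]) }
  obtain ⟨ψ, hψ⟩ : ∃ ψ : C →* Equiv.Perm Ω, ψ = MulAction.toPermHom C Ω := ⟨_, rfl⟩
  have hψe : ∀ (g : C) (L : Ω), ψ g L = g • L := fun g L => by rw [hψ]; rfl
  have hu0 : u ≠ 0 := (ne_zero_of_herm hσ (by rw [P.uv]; exact one_ne_zero)).1
  have hv0 : v ≠ 0 := (ne_zero_of_herm hσ (by rw [P.vu]; exact one_ne_zero)).1
  have hker : ∀ g : C, g ∈ ψ.ker ↔ (g : GL (Fin 3) F) ∈ chordKer C u v := by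
    intro g
    rw [MonoidHom.mem_ker]
    constructor
    · intro h
      have hfix : ∀ w, w ≠ 0 → hermForm 3 F q w e = 0 →
          ∃ a : F, ((g : GL (Fin 3) F) : Matrix (Fin 3) (Fin 3) F) *ᵥ w = a • w := fun w hw hwe => by
        have h1 : g • (⟨_, w, hw, hwe, rfl⟩ : Ω) = ⟨_, w, hw, hwe, rfl⟩ := by rw [← hψe, h, Equiv.Perm.one_apply]
        have h2 : lineHom F (g : GL (Fin 3) F) (Submodule.span F {w}) = Submodule.span F {w} := congrArg Subtype.val h1
        rw [lineHom_span] at h2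
        obtain ⟨a, -, ha⟩ := exists_smul_of_span
          (fun h' => hw (gl_mulVec_injective (g : GL (Fin 3) F) (h'.trans (Matrix.mulVec_zero _).symm))) h2
        exact ⟨a, ha⟩
      obtain ⟨a, ha⟩ := hfix u hu0 P.ue
      obtain ⟨b, hb⟩ := hfix v hv0 P.ve
      have huv : u + v ≠ 0 := fun h => by
        have := congrArg (fun z => hermForm 3 F q z v) h
        simp [hs.add_left, P.uv, P.vv, herm_zero_left hσ] at this
      obtain ⟨c, hc⟩ := hfix _ huv (by rw [hs.add_left, P.ue, P.ve, add_zero])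
      rw [Matrix.mulVec_add, ha, hb] at hc
      have e1 := congrArg (fun z => hermForm 3 F q z v) hc
      have e2 := congrArg (fun z => hermForm 3 F q z u) hc
      simp only [hs.add_left, hs.smul_left, P.uu, P.vv, P.uv, P.vu, mul_zero, mul_one, add_zero, zero_add] at e1 e2
      exact ⟨g.2, a, ha, by rw [hb, e1, e2]⟩
    · rintro ⟨-, a, ha, hb⟩
      refine Equiv.ext fun L => Subtype.ext ?_
      obtain ⟨w, hw, hwe, hL⟩ := L.2
      rw [hψe, Equiv.Perm.one_apply]
      show lineHom F (g : GL (Fin 3) F) L = L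
      rw [hL, lineHom_span]
      have hgw : ((g : GL (Fin 3) F) : Matrix (Fin 3) (Fin 3) F) *ᵥ w = a • w := by
        rw [P.span w hwe, Matrix.mulVec_add, Matrix.mulVec_smul, Matrix.mulVec_smul, ha, hb]; module
      refine span_eq_span (fun e0 => hu0 (gl_mulVec_injective (g : GL (Fin 3) F) ?_)) hgw
      show ((g : GL (Fin 3) F) : Matrix (Fin 3) (Fin 3) F) *ᵥ u = ((g : GL (Fin 3) F) : Matrix (Fin 3) (Fin 3) F) *ᵥ 0
      rw [ha, e0, zero_smul, Matrix.mulVec_zero]
  obtain ⟨x, hx⟩ : ∃ x : Ω, (x : Submodule F (Fin 3 → F)) = Submodule.span F {u} := ⟨⟨_, u, hu0, P.ue, rfl⟩, rfl⟩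
  have hsm : ∀ (γ : ψ.range) (L : Ω), γ • L = (γ : Equiv.Perm Ω) L := fun _ _ => rfl
  have horbit : Nat.card (MulAction.orbit ψ.range x) = Nat.card (orb C u) := by
    refine Nat.card_congr (Equiv.ofBijective (fun y => ⟨(y : Ω).1, ?_⟩) ⟨fun a b h => ?_, fun L => ?_⟩)
    · obtain ⟨⟨_, g, rfl⟩, hy⟩ := y.2
      refine ⟨g, g.2, ?_⟩
      rw [← hy]
      show ((ψ g) x : Submodule F (Fin 3 → F)) = _
      rw [hψe]
      show lineHom F (g : GL (Fin 3) F) x = _
      rw [hx, lineHom_span]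
    · exact Subtype.ext (Subtype.ext (congrArg (fun z : orb C u => (z : Submodule F (Fin 3 → F))) h))
    · obtain ⟨g, hg, hL⟩ := L.2
      refine ⟨⟨ψ ⟨g, hg⟩ x, ⟨⟨_, _, rfl⟩, rfl⟩⟩, Subtype.ext ?_⟩
      show ((ψ ⟨g, hg⟩) x : Submodule F (Fin 3 → F)) = _
      rw [hψe]
      show lineHom F g x = _
      rw [hx, lineHom_span, hL]
  obtain ⟨m, hm⟩ : ∃ m, m = Nat.card (MulAction.stabilizer ψ.range x) := ⟨_, rfl⟩
  have hG := Nat.card_congr (MulAction.orbitProdStabilizerEquivGroup ψ.range x)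
  rw [Nat.card_prod, horbit, ← hm] at hG
  refine ⟨m, ?_, ?_⟩
  · have h1 : Nat.card (chordKer C u v) = Nat.card ψ.ker :=
      Nat.card_congr
        { toFun := fun g => ⟨⟨g.1, g.2.1⟩, (hker _).mpr g.2⟩
          invFun := fun g => ⟨(g : C), (hker _).mp g.2⟩
          left_inv := fun g => rfl
          right_inv := fun g => rfl }
    have h2' := Subgroup.card_eq_card_quotient_mul_card_subgroup ψ.ker
    rw [Nat.card_congr (QuotientGroup.quotientKerEquivRange ψ).toEquiv, ← hG, ← card_orb_mul (K := C) hu0, ← h1,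
      mul_assoc] at h2'
    refine (Nat.eq_of_mul_eq_mul_left ?_ h2').symm
    exact Nat.pos_of_ne_zero fun h0 => (Nat.card_pos (α := ψ.range)).ne' (by rw [← hG, h0, zero_mul])
  · by_cases hm1 : m ≤ 1
    · exact Or.inl hm1
    right
    rw [hG, ← horbit]
    refine two_fix (fun γ hγ => ?_) x (by omega)
    obtain ⟨g, hg⟩ := γ.2
    have hgp : ¬ p ∣ orderOf (g : GL (Fin 3) F) := fun h => hpC
      (h.trans (by rw [Subgroup.orderOf_coe]; exact orderOf_dvd_natCard g))
    rcases plane_fix hσ h2 P (hC g.2).1 (hCe g g.2) hgp hee with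
      hsc | ⟨w₁, w₂, a0, b0, ae, be, hne, ⟨s₁, hs₁⟩, ⟨s₂, hs₂⟩, hall⟩
    · exact absurd (Subtype.ext (hg.symm.trans (MonoidHom.mem_ker.mp ((hker g).mpr ⟨g.2, hsc⟩)))) hγ
    · have hfix : ∀ L : Ω, L ∈ MulAction.fixedBy Ω γ ↔
          lineHom F (g : GL (Fin 3) F) (L : Submodule F (Fin 3 → F)) = L := fun L => by
        rw [MulAction.mem_fixedBy, hsm, ← hg, hψe]
        exact ⟨fun h => congrArg Subtype.val h, fun h => Subtype.ext h⟩
      have hset : MulAction.fixedBy Ω γ = {(⟨_, w₁, a0, ae, rfl⟩ : Ω), ⟨_, w₂, b0, be, rfl⟩} := by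
        ext L
        rw [hfix, Set.mem_insert_iff, Set.mem_singleton_iff]
        obtain ⟨w, hw, hwe, hL⟩ := L.2
        constructor
        · intro h
          rw [hL, lineHom_span] at h
          obtain ⟨a, -, ha⟩ := exists_smul_of_span
            (fun h' => hw (gl_mulVec_injective (g : GL (Fin 3) F) (h'.trans (Matrix.mulVec_zero _).symm))) h
          exact (hall w hw hwe ⟨a, ha⟩).imp (fun h => Subtype.ext (hL.trans h)) fun h => Subtype.ext (hL.trans h)
        · have hev : ∀ (z : Fin 3 → F) (s : F), z ≠ 0 → ((g : GL (Fin 3) F) : Matrix (Fin 3) (Fin 3) F) *ᵥ z = s • z →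
              lineHom F (g : GL (Fin 3) F) (Submodule.span F {z}) = Submodule.span F {z} := fun z s hz hzs => by
            rw [lineHom_span]
            refine span_eq_span (fun e0 => hz (gl_mulVec_injective (g : GL (Fin 3) F) ?_)) hzs
            show ((g : GL (Fin 3) F) : Matrix (Fin 3) (Fin 3) F) *ᵥ z =
              ((g : GL (Fin 3) F) : Matrix (Fin 3) (Fin 3) F) *ᵥ 0
            rw [hzs, e0, zero_smul, Matrix.mulVec_zero]
          rintro (h | h)
          · rw [show (L : Submodule F (Fin 3 → F)) = Submodule.span F {w₁} from congrArg Subtype.val h]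
            exact hev w₁ s₁ a0 hs₁
          · rw [show (L : Submodule F (Fin 3 → F)) = Submodule.span F {w₂} from congrArg Subtype.val h]
            exact hev w₂ s₂ b0 hs₂
      rw [hset]
      exact Set.ncard_pair fun h => hne (congrArg Subtype.val h)

end Cfsg.Agent.Classical.UThree
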