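/-
Orders for the special unitary group of degree three.
-/
import Cfsg.Agent.Lib.Classical.SUThreeSmall.Seven
import Cfsg.Agent.Lib.Classical.UThree.Geom

set_option autoImplicit false
set_option linter.unusedSectionVars false

namespace Cfsg.Agent.Classical.UThree

open Matrix Cfsg.Geo
open Cfsg.Agent.Classical

variable {F : Type*} [Field F] [Fintype F] {q : ℕ} {σ : F ≃+* F} (hσ : IsUSigma q σ)

include hσ

theorem su_card (h2 : 2 ≤ q) : Nat.card (suGL 3 F q) = q ^ 3 * (q ^ 2 - 1) * (q ^ 3 + 1) := by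
  have h := SUThree.card_suGL hσ
  rw [UCount.card_GU hσ] at h
  simp [Finset.prod_range_succ, parity_simps] at h
  refine Nat.eq_of_mul_eq_mul_left (show 0 < q + 1 by omega) ?_
  change (q + 1) * Nat.card { x // x ∈ GU 3 F q ∧ x ∈ specialLinear (Fin 3) F } = _
  rw [h]; ring

theorem card_dvd_su (h2 : 2 ≤ q) {K : Subgroup (GL (Fin 3) F)} (hK : K ≤ suGL 3 F q) :
    Nat.card K ∣ q ^ 3 * (q ^ 2 - 1) * (q ^ 3 + 1) := su_card hσ h2 ▸ Subgroup.card_dvd_of_le hK

/-- Cube roots of one of norm one. -/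
theorem cub_card : Nat.card {w : F // w ^ 3 = 1 ∧ w * σ w = 1} = Nat.gcd 3 (q + 1) := by
  classical
  have e : Nat.card {w : F // w ^ 3 = 1 ∧ w * σ w = 1} = Nat.card (powMonoidHom (Nat.gcd 3 (q + 1)) : Fˣ →* Fˣ).ker := by
    refine (Nat.card_congr (Equiv.ofBijective (fun w : (powMonoidHom (Nat.gcd 3 (q + 1)) : Fˣ →* Fˣ).ker =>
      (⟨((w : Fˣ) : F), ?_⟩ : {w : F // w ^ 3 = 1 ∧ w * σ w = 1})) ⟨?_, ?_⟩)).symm
    · have h := congrArg Units.val (MonoidHom.mem_ker.mp w.2)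
      rw [powMonoidHom_apply, Units.val_pow_eq_pow_val, Units.val_one] at h
      obtain ⟨k, hk⟩ := Nat.gcd_dvd_left 3 (q + 1)
      obtain ⟨l, hl⟩ := Nat.gcd_dvd_right 3 (q + 1)
      refine ⟨(congrArg (fun n : ℕ => ((w : Fˣ) : F) ^ n) hk).trans (by rw [pow_mul, h, one_pow]), ?_⟩
      rw [hσ.apply_eq, ← pow_succ', congrArg (fun n : ℕ => ((w : Fˣ) : F) ^ n) hl, pow_mul, h, one_pow]
    · exact fun a b h => Subtype.ext (Units.ext (congrArg Subtype.val h))
    · rintro ⟨w, h3, hN⟩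
      rw [hσ.apply_eq, ← pow_succ'] at hN
      have hw0 : w ≠ 0 := fun e => by rw [e, zero_pow (by norm_num)] at h3; exact zero_ne_one h3
      refine ⟨⟨Units.mk0 w hw0, MonoidHom.mem_ker.mpr (Units.ext ?_)⟩, rfl⟩
      rw [powMonoidHom_apply, Units.val_pow_eq_pow_val, Units.val_one, Units.val_mk0]
      exact pow_gcd_eq_one.mpr ⟨h3, hN⟩
  rw [e, IsCyclic.card_powMonoidHom_ker, Nat.card_units, Nat.card_eq_fintype_card, hσ.card]
  refine Nat.gcd_eq_right ((Nat.gcd_dvd_right 3 (q + 1)).trans ⟨q - 1, ?_⟩)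
  have := Nat.sq_sub_sq q 1
  simpa using this

end Cfsg.Agent.Classical.UThree
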