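/-
Orthogonal frames give maximal subgroups of the special unitary group of degree three.
-/
import Cfsg.Agent.Lib.Classical.UThree.Block
import Cfsg.Agent.Lib.Classical.UThree.FrobTwo
import Cfsg.Agent.Lib.Classical.UFrameMaximal

set_option autoImplicit false
set_option linter.unusedSectionVars false
set_option maxHeartbeats 400000

namespace Cfsg.Agent.Classical.UThree

open Matrix Cfsg.Geo
open Cfsg.Agent.Classical
open Cfsg.Agent.Classical.LMon (IsMon isMon_mul isMon_inv mon_perm)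
open Cfsg.Agent.Classical.UOver (Tv tv_unique tv_conj tv_smul tv_mem)

variable {F : Type*} [Field F] [Fintype F] {q : ℕ} {σ : F ≃+* F} {M : Subgroup (GL (Fin 3) F)}

/-- The coordinates of the plane orthogonal to `(σ v₁, -σ v₀, 0)`, for its basis `e₂`, `(v₀, v₁, 0)`. -/
def crd (σ : F ≃+* F) (v : Fin 3 → F) (x : Fin 3 → F) : Fin 2 → F :=
  ![x 2, (x 0 * σ (v 0) + x 1 * σ (v 1)) / (v 0 * σ (v 0) + v 1 * σ (v 1))]

/-- The basis. -/
def bas (v : Fin 3 → F) : Fin 2 → Fin 3 → F := ![![0, 0, 1], ![v 0, v 1, 0]]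

/-- The matrix on the plane. -/
def planeMat (σ : F ≃+* F) (v : Fin 3 → F) (g : GL (Fin 3) F) : Matrix (Fin 2) (Fin 2) F :=
  Matrix.of fun i j => crd σ v ((g : Matrix (Fin 3) (Fin 3) F) *ᵥ bas v j) i

variable (D : MData q σ M)

include D

theorem exists_cyc : ∃ g ∈ M, (g : Matrix (Fin 3) (Fin 3) F) = !![0, 0, 1; 1, 0, 0; 0, 1, 0] := by
  have hd : (!![0, 0, 1; 1, 0, 0; 0, 1, 0] : Matrix (Fin 3) (Fin 3) F).det = 1 := by
    rw [det_fin_three]; simp
  refine ⟨GeneralLinearGroup.mkOfDetNeZero _ (fun e => one_ne_zero (hd.symm.trans e)), D.mon _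
    ⟨mem_GU_iff.mpr fun u v => ?_, mem_specialLinear_iff.mpr hd⟩ ?_, rfl⟩
  · show hermForm 3 F q ((!![0, 0, 1; 1, 0, 0; 0, 1, 0] : Matrix (Fin 3) (Fin 3) F) *ᵥ u) _ = _
    rw [herm_three D.sig, herm_three D.sig]
    simp [Matrix.mulVec, dotProduct, Fin.sum_univ_three]
    ring
  · show IsMon (!![0, 0, 1; 1, 0, 0; 0, 1, 0] : Matrix (Fin 3) (Fin 3) F)
    exact fun j => ⟨![1, 2, 0] j, fun i hi => by fin_cases i <;> fin_cases j <;> simp_all⟩

/-- Monomial elements carrying the last axis anywhere. -/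
theorem exists_move_axis (i : Fin 3) : ∃ g ∈ M, IsMon (g : Matrix (Fin 3) (Fin 3) F) ∧
    (g : Matrix (Fin 3) (Fin 3) F) *ᵥ Pi.single 2 1 = Pi.single i 1 := by
  obtain ⟨g, hg, he⟩ := exists_cyc D
  have hm : IsMon (g : Matrix (Fin 3) (Fin 3) F) := by
    rw [he]; exact fun j => ⟨![1, 2, 0] j, fun k hk => by fin_cases k <;> fin_cases j <;> simp_all⟩
  have h1 : (g : Matrix (Fin 3) (Fin 3) F) *ᵥ Pi.single 2 1 = Pi.single 0 1 := by
    rw [he]; ext k; fin_cases k <;> simp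
  have h2 : ((g * g : GL (Fin 3) F) : Matrix (Fin 3) (Fin 3) F) *ᵥ Pi.single 2 1 = Pi.single 1 1 := by
    rw [gl_mul_mulVec, h1, he]; ext k; fin_cases k <;> simp
  fin_cases i
  · exact ⟨g, hg, hm, h1⟩
  · exact ⟨g * g, mul_mem hg hg, by rw [Units.val_mul]; exact isMon_mul hm hm, h2⟩
  · exact ⟨1, one_mem M, by rw [Units.val_one]; exact fun j => ⟨j, fun k hk => Matrix.one_apply_ne hk⟩, by
      ext k; fin_cases k <;> simp⟩

/-- An element mapping one axis to another is monomial, unless everything is in the group. -/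
theorem mon_of_map (hno : ¬ suGL 3 F q ≤ M) {g : GL (Fin 3) F} (hg : g ∈ M) {i j : Fin 3}
    (h : ∀ k, k ≠ i → (g : Matrix (Fin 3) (Fin 3) F) k j = 0) : IsMon (g : Matrix (Fin 3) (Fin 3) F) := by
  have hσ := D.sig
  obtain ⟨a, ha, ham, hae⟩ := exists_move_axis D i
  obtain ⟨b, hb, hbm, hbe⟩ := exists_move_axis D j
  obtain ⟨x, hx⟩ : ∃ x, x = a⁻¹ * g * b := ⟨_, rfl⟩
  have hxM : x ∈ M := hx ▸ mul_mem (mul_mem (inv_mem ha) hg) hb
  have hcol : (x : Matrix (Fin 3) (Fin 3) F) *ᵥ Pi.single 2 1 = (g : Matrix (Fin 3) (Fin 3) F) i j • Pi.single 2 1 := by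
    have e : (g : Matrix (Fin 3) (Fin 3) F) *ᵥ Pi.single j 1 = (g : Matrix (Fin 3) (Fin 3) F) i j • Pi.single i 1 := by
      rw [Matrix.mulVec_single_one]
      ext k
      by_cases hk : k = i
      · subst hk; simp
      · simp [h k hk, hk]
    rw [hx, gl_mul_mulVec, gl_mul_mulVec, hbe, e, Matrix.mulVec_smul, ← hae, gl_inv_mulVec_cancel]
  rw [Matrix.mulVec_single_one] at hcol
  have h0 : (x : Matrix (Fin 3) (Fin 3) F) 0 2 = 0 := by simpa using congrFun hcol 0
  have h1 : (x : Matrix (Fin 3) (Fin 3) F) 1 2 = 0 := by simpa using congrFun hcol 1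
  by_cases hxm : IsMon (x : Matrix (Fin 3) (Fin 3) F)
  · rw [show g = a * x * b⁻¹ by rw [hx]; group, Units.val_mul, Units.val_mul]
    exact isMon_mul (isMon_mul ham hxm) (isMon_inv hbm)
  exfalso
  have hfull := block_full D hxM h0 h1 hxm
  obtain ⟨c, hc, hce⟩ := exists_cyc D
  refine hno (full_of_chord hσ D.three D.le (e := Pi.single 2 1) ?_ (fun z d hz hze hd t ht => ?_) hc fun r e => ?_)
  · rw [hσ.hermForm_single]; simp
  · have hcol : (t : Matrix (Fin 3) (Fin 3) F) *ᵥ Pi.single 2 1 = Pi.single 2 1 := by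
      rw [ht, orth_swp hσ hze, mul_zero, zero_smul, add_zero]
    rw [Matrix.mulVec_single_one] at hcol
    exact hfull t (tv_mem hσ hz hd ht) (by simpa using congrFun hcol 0) (by simpa using congrFun hcol 1)
  · rw [hce] at e
    have := congrFun e 0
    simp at this

/-- A homology with centre an axis. -/
theorem exists_hom (k : Fin 3) {a : F} (ha : a * σ a = 1) : ∃ h ∈ M, (h : Matrix (Fin 3) (Fin 3) F) =
    Matrix.diagonal fun j => if j = k then σ a * σ a else a := by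
  have hp : ∏ j : Fin 3, (if j = k then σ a * σ a else a) = 1 := by
    fin_cases k <;> simp [Fin.prod_univ_three] <;> linear_combination (a * σ a + 1) * ha
  obtain ⟨h, he, hs⟩ := diagGL_exists hp
  refine ⟨h, D.mon h ⟨D.sig.diag_mem_GU he fun j => ?_, hs⟩ (by rw [he]; exact LMon.isMon_diagonal _), he⟩
  split_ifs with hj
  · rw [map_mul, D.sig.involutive]; linear_combination (a * σ a + 1) * ha
  · exact ha

/-- Non-monomial elements have no zero entry. -/
theorem no_zero (hno : ¬ suGL 3 F q ≤ M) {a : F} (ha : a * σ a = 1) (h6 : a ^ 6 ≠ 1) {g : GL (Fin 3) F} (hg : g ∈ M)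
    (hm : ¬ IsMon (g : Matrix (Fin 3) (Fin 3) F)) (k j : Fin 3) : (g : Matrix (Fin 3) (Fin 3) F) k j ≠ 0 := by
  intro h0
  obtain ⟨H, hH, hHe⟩ := exists_hom D k ha
  obtain ⟨x, hx⟩ : ∃ x, x = g⁻¹ * H * g := ⟨_, rfl⟩
  have hxM : x ∈ M := hx ▸ mul_mem (mul_mem (inv_mem hg) hH) hg
  have hgj : (g : Matrix (Fin 3) (Fin 3) F) *ᵥ Pi.single j 1 = fun p => (g : Matrix (Fin 3) (Fin 3) F) p j := by
    rw [Matrix.mulVec_single_one]; rfl
  have hfix : (x : Matrix (Fin 3) (Fin 3) F) *ᵥ Pi.single j 1 = a • Pi.single j 1 := by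
    refine gl_mulVec_injective g ?_
    dsimp only
    rw [hx, gl_mul_mulVec, gl_mul_mulVec, gl_mulVec_inv_cancel, Matrix.mulVec_smul, hgj, hHe]
    ext p
    rw [Matrix.mulVec_diagonal]
    by_cases hp : p = k
    · subst hp; simp [h0]
    · simp [hp]
  rw [Matrix.mulVec_single_one] at hfix
  have hxm : IsMon (x : Matrix (Fin 3) (Fin 3) F) := mon_of_map D hno hxM (i := j) (j := j) fun p hp => by
    simpa [hp] using congrFun hfix p
  obtain ⟨π, hπ⟩ := mon_perm hxm
  -- the square is diagonal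
  have hπj : π j = j := by
    by_contra hne
    have := congrFun hfix (π j)
    simp [hne] at this
    exact (hπ j).1 this
  have hπ2 : ∀ l, π (π l) = l := by
    intro l
    rcases eq_or_ne (π l) l with e | e
    · rw [e, e]
    · have h1 : π (π l) ≠ π l := fun e' => e (π.injective e')
      have h2 : π l ≠ j := fun e' => e (by rw [e']; exact (π.injective (e'.trans hπj.symm)).symm)
      have h3 : l ≠ j := fun e' => e (by rw [e', hπj])
      have h4 : π (π l) ≠ j := fun e' => h2 (π.injective (e'.trans hπj.symm))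
      exact (show ∀ l m n j : Fin 3, m ≠ l → n ≠ m → m ≠ j → l ≠ j → n ≠ j → n = l by decide) l (π l) (π (π l)) j e h1 h2 h3 h4
  have hd : ∀ p l, p ≠ l → ((x * x : GL (Fin 3) F) : Matrix (Fin 3) (Fin 3) F) p l = 0 := fun p l hpl => by
    rw [Units.val_mul, Matrix.mul_apply]
    refine Finset.sum_eq_zero fun m _ => ?_
    by_cases hm' : m = π l
    · subst hm'
      rw [((hπ (π l)).2 p (by rw [hπ2]; exact hpl)).1, zero_mul]
    · rw [((hπ l).2 m hm').1, mul_zero]
  obtain ⟨b, hb⟩ : ∃ b, b = a * a := ⟨_, rfl⟩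
  obtain ⟨δ, hδ⟩ : ∃ δ, δ = σ a * σ a * (σ a * σ a) - b := ⟨_, rfl⟩
  have hδ0 : δ ≠ 0 := fun e => h6 (by
    rw [hδ, hb] at e
    linear_combination -(a ^ 4) * e + (a * σ a * (a * σ a) + 1) * (a * σ a + 1) * ha)
  obtain ⟨u, hu⟩ : ∃ u, u = ((g⁻¹ : GL (Fin 3) F) : Matrix (Fin 3) (Fin 3) F) *ᵥ Pi.single k 1 := ⟨_, rfl⟩
  have hsq : ∀ w, ((x * x : GL (Fin 3) F) : Matrix (Fin 3) (Fin 3) F) *ᵥ w = b • w +
      (δ * ((g : Matrix (Fin 3) (Fin 3) F) *ᵥ w) k) • u := fun w => by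
    refine gl_mulVec_injective g ?_
    dsimp only
    rw [show x * x = g⁻¹ * (H * H) * g by rw [hx]; group, gl_mul_mulVec, gl_mul_mulVec, gl_mulVec_inv_cancel,
      Matrix.mulVec_add, Matrix.mulVec_smul, Matrix.mulVec_smul, hu, gl_mulVec_inv_cancel, gl_mul_mulVec, hHe]
    ext p
    rw [Matrix.mulVec_diagonal, Matrix.mulVec_diagonal]
    by_cases hp : p = k
    · subst hp; simp [hδ]; ring
    · simp [hp, hb]; ring
  obtain ⟨l, hl⟩ : ∃ l, (g : Matrix (Fin 3) (Fin 3) F) k l ≠ 0 := by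
    by_contra hcon
    push Not at hcon
    have := congrFun (gl_mulVec_inv_cancel g (Pi.single k (1 : F))) k
    simp [Matrix.mulVec, dotProduct, hcon] at this
  refine hm (mon_of_map D hno hg (i := k) (j := l) fun p hp => ?_)
  have hu0 : ∀ m, m ≠ l → u m = 0 := fun m hml => by
    have := congrFun (hsq (Pi.single l 1)) m
    rw [Matrix.mulVec_single_one, Matrix.mulVec_single_one, Matrix.col_apply, hd m l hml] at this
    simp [hml, hδ0, hl] at this
    exact this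
  have hue : u = u l • Pi.single l 1 := by
    ext m; by_cases hml : m = l
    · subst hml; simp
    · simp [hu0 m hml, hml]
  have := congrFun (gl_mulVec_inv_cancel g (Pi.single k (1 : F))) p
  rw [← hu, hue, Matrix.mulVec_smul, Matrix.mulVec_single_one] at this
  simp [hp] at this
  refine this.resolve_left fun e => ?_
  have hz := congrFun (gl_mulVec_inv_cancel g (Pi.single k (1 : F))) k
  rw [← hu, hue, e] at hz
  simp at hz

/-- An element with a suitable entry. -/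
theorem exists_entry (hno : ¬ suGL 3 F q ≤ M) {a : F} (ha : a * σ a = 1) (h6 : a ^ 6 ≠ 1) {g : GL (Fin 3) F}
    (hg : g ∈ M) (hm : ¬ IsMon (g : Matrix (Fin 3) (Fin 3) F)) :
    ∃ g' ∈ M, ¬ IsMon (g' : Matrix (Fin 3) (Fin 3) F) ∧
      ∃ j, (g' : Matrix (Fin 3) (Fin 3) F) 2 j * σ ((g' : Matrix (Fin 3) (Fin 3) F) 2 j) ≠ 1 := by
  have hσ := D.sig
  have hnm : ∀ p : GL (Fin 3) F, IsMon (p : Matrix (Fin 3) (Fin 3) F) → ∀ y : GL (Fin 3) F, ¬ IsMon (y : Matrix (Fin 3) (Fin 3) F) →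
      ¬ IsMon ((p * y : GL (Fin 3) F) : Matrix (Fin 3) (Fin 3) F) := fun p hp y hy h => hy (by
    rw [show y = p⁻¹ * (p * y) by group, Units.val_mul]
    exact isMon_mul (isMon_inv hp) h)
  by_contra hcon
  push Not at hcon
  -- all entries of all elements have norm one
  have hone : ∀ y ∈ M, ¬ IsMon (y : Matrix (Fin 3) (Fin 3) F) → ∀ k j,
      (y : Matrix (Fin 3) (Fin 3) F) k j * σ ((y : Matrix (Fin 3) (Fin 3) F) k j) = 1 := fun y hy hym k j => by
    obtain ⟨p, hp, hpm, hpe⟩ := exists_move_axis D k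
    have := hcon (p⁻¹ * y) (mul_mem (inv_mem hp) hy) (hnm _ (isMon_inv hpm) y hym) j
    have e : ((p⁻¹ * y : GL (Fin 3) F) : Matrix (Fin 3) (Fin 3) F) 2 j = (y : Matrix (Fin 3) (Fin 3) F) k j := by
      have hw : ∀ w, (p : Matrix (Fin 3) (Fin 3) F) *ᵥ w = (p : Matrix (Fin 3) (Fin 3) F) *ᵥ w := fun _ => rfl
      obtain ⟨w, hw'⟩ : ∃ w, w = ((p⁻¹ : GL (Fin 3) F) : Matrix (Fin 3) (Fin 3) F) *ᵥ fun i => (y : Matrix (Fin 3) (Fin 3) F) i j := ⟨_, rfl⟩
      have h1 : hermForm 3 F q ((p : Matrix (Fin 3) (Fin 3) F) *ᵥ w) ((p : Matrix (Fin 3) (Fin 3) F) *ᵥ Pi.single 2 1)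
          = hermForm 3 F q w (Pi.single 2 1) := mem_GU_iff.mp (D.le hp).1 _ _
      rw [hpe, hw', gl_mulVec_inv_cancel, swp hσ (Pi.single k 1), swp hσ (Pi.single (2 : Fin 3) 1),
        hσ.hermForm_single, hσ.hermForm_single, one_mul, one_mul, hσ.involutive, hσ.involutive] at h1
      rw [h1, Units.val_mul]
      rfl
    rwa [e] at this
  have hcol : ∀ y ∈ M, ∀ j, ∑ i, (y : Matrix (Fin 3) (Fin 3) F) i j * σ ((y : Matrix (Fin 3) (Fin 3) F) i j) = 1 :=
    fun y hy j => by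
      have := mem_GU_iff.mp (D.le hy).1 (Pi.single j 1) (Pi.single j 1)
      rw [Matrix.mulVec_single_one, hσ.hermForm_eq, hσ.hermForm_single] at this
      simpa using this
  have htwo : (2 : F) = 0 := by
    have := hcol g hg 0
    simp only [hone g hg hm, Fin.sum_univ_three] at this
    linear_combination this
  obtain ⟨t, ht, hte⟩ : ∃ t ∈ M, (t : Matrix (Fin 3) (Fin 3) F) = Matrix.diagonal ![a, σ a, 1] := by
    obtain ⟨t, ht, hts⟩ := diagGL_exists (d := ![a, σ a, 1]) (by simp [Fin.prod_univ_three, ha])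
    refine ⟨t, D.mon t ⟨hσ.diag_mem_GU ht fun i => ?_, hts⟩ (by rw [ht]; exact LMon.isMon_diagonal _), ht⟩
    fin_cases i
    · simpa using ha
    · simp [hσ.involutive]; linear_combination ha
    · simp
  obtain ⟨y, hy⟩ : ∃ y, y = g * t * g⁻¹ := ⟨_, rfl⟩
  have hyM : y ∈ M := hy ▸ mul_mem (mul_mem hg ht) (inv_mem hg)
  have hrow : ∀ i, ((g⁻¹ : GL (Fin 3) F) : Matrix (Fin 3) (Fin 3) F) i 0 = σ ((g : Matrix (Fin 3) (Fin 3) F) 0 i) := fun i => by
    have h1 := mem_GU_iff.mp (D.le hg).1 (Pi.single i 1) (((g⁻¹ : GL (Fin 3) F) : Matrix (Fin 3) (Fin 3) F) *ᵥ Pi.single 0 1)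
    rw [gl_mulVec_inv_cancel, swp hσ (Pi.single 0 1), hσ.hermForm_single, hσ.hermForm_single, one_mul, one_mul,
      hσ.involutive, Matrix.mulVec_single_one, Matrix.mulVec_single_one, Matrix.col_apply, Matrix.col_apply] at h1
    rw [h1, hσ.involutive]
  have hy00 : (y : Matrix (Fin 3) (Fin 3) F) 0 0 = a + σ a + 1 := by
    rw [hy, Units.val_mul, Units.val_mul, hte]
    simp [Matrix.mul_apply, Matrix.diagonal, Fin.sum_univ_three, hrow, -Matrix.coe_units_inv]
    linear_combination a * hone g hg hm 0 0 + σ a * hone g hg hm 0 1 + hone g hg hm 0 2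
  obtain ⟨Z, hZ⟩ : ∃ Z, Z = a + σ a + 1 := ⟨_, rfl⟩
  have hZn : Z * σ Z = 1 := by
    rw [hZ, ← hy00]
    by_cases hym : IsMon (y : Matrix (Fin 3) (Fin 3) F)
    · obtain ⟨p, hp⟩ := hym 0
      by_cases hp0 : p = 0
      · have := hcol y hyM 0
        subst hp0
        simpa [Fin.sum_univ_three, hp 1 (by decide), hp 2 (by decide)] using this
      · exfalso
        have h0 : (y : Matrix (Fin 3) (Fin 3) F) 0 0 = 0 := hp 0 (Ne.symm hp0)
        rw [hy00] at h0
        refine h6 ?_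
        linear_combination (a ^ 5 - a ^ 4 + a ^ 2 - a) * h0 + (-(a ^ 4) + a ^ 3 - a + 1) * ha
    · exact hone y hyM hym 0 0
  have hZσ : σ Z = Z := by rw [hZ]; simp [hσ.involutive]; ring
  rw [hZσ] at hZn
  have hZ1 : Z = 1 := by
    have : (Z - 1) * (Z - 1) = 0 := by linear_combination hZn + (1 - Z) * htwo
    exact sub_eq_zero.mp (mul_self_eq_zero.mp this)
  refine h6 ?_
  have e2 : a ^ 2 = 1 := by
    linear_combination a * hZ1 - a * hZ - ha - htwo
  linear_combination (a ^ 4 + a ^ 2 + 1) * e2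

/-- A subgroup containing the monomial elements and one more is everything. -/
theorem frame_full (h5 : q ≠ 5) {g : GL (Fin 3) F} (hg : g ∈ M) (hm : ¬ IsMon (g : Matrix (Fin 3) (Fin 3) F)) :
    suGL 3 F q ≤ M := by
  classical
  by_contra hno
  have hσ := D.sig
  have h3 := D.three
  have hs := sf hσ
  obtain ⟨a, ha, -, -, hord⟩ := hσ.exists_norm_one
  have h6 : a ^ 6 ≠ 1 := fun e => by
    have h := hord 6 e
    have := Nat.le_of_dvd (by norm_num) h
    have : q ≤ 5 := by omega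
    interval_cases q <;> omega
  have h9 : (2 : F) ≠ 0 → a ^ 9 ≠ 1 := fun h2 e => by
    have h := hord 9 e
    have := Nat.le_of_dvd (by norm_num) h
    have : q ≤ 8 := by omega
    interval_cases q <;> first
      | omega
      | (refine h2 (pow_eq_zero_iff (n := 6) (by norm_num) |>.mp ?_)
         have hc := FiniteField.cast_card_eq_zero F
         rw [hσ.card] at hc
         norm_num at hc ⊢
         exact hc)
  obtain ⟨g, hg, hm, j, hj⟩ := exists_entry D hno ha h6 hg hm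
  have hnz := fun k => no_zero D hno ha h6 hg hm k j
  obtain ⟨v, hv⟩ : ∃ v, v = (g : Matrix (Fin 3) (Fin 3) F) *ᵥ Pi.single j 1 := ⟨_, rfl⟩
  have hvi : ∀ k, v k = (g : Matrix (Fin 3) (Fin 3) F) k j := fun k => by rw [hv, Matrix.mulVec_single_one]; rfl
  have hv1 : v 0 * σ (v 0) + v 1 * σ (v 1) + v 2 * σ (v 2) = 1 := by
    have := mem_GU_iff.mp (D.le hg).1 (Pi.single j 1) (Pi.single j 1)
    rw [← hv, herm_three hσ, hσ.hermForm_single] at this
    simpa using this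
  obtain ⟨N, hN⟩ : ∃ N, N = v 0 * σ (v 0) + v 1 * σ (v 1) := ⟨_, rfl⟩
  have hN0 : N ≠ 0 := fun e => by
    rw [← hN, e, zero_add, hvi] at hv1
    exact hj hv1
  have hv00 : v 0 ≠ 0 := hvi 0 ▸ hnz 0
  have hv10 : v 1 ≠ 0 := hvi 1 ▸ hnz 1
  have hv20 : v 2 ≠ 0 := hvi 2 ▸ hnz 2
  have hσv2 : σ (v 2) ≠ 0 := fun e => hv20 ((map_eq_zero σ).mp e)
  obtain ⟨w, hw⟩ : ∃ w : Fin 3 → F, w = ![σ (v 1), -σ (v 0), 0] := ⟨_, rfl⟩
  have hperp : ∀ x, hermForm 3 F q x w = x 0 * v 1 - x 1 * v 0 := fun x => by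
    rw [herm_three hσ, hw]; simp [hσ.involutive]; ring
  have hbw : ∀ i, hermForm 3 F q (bas v i) w = 0 := fun i => by
    rw [hperp]; fin_cases i <;> simp [bas]; ring
  have hdec : ∀ x, hermForm 3 F q x w = 0 → x = crd σ v x 0 • bas v 0 + crd σ v x 1 • bas v 1 := fun x hx => by
    rw [hperp] at hx
    ext p
    fin_cases p <;> simp [crd, bas, ← hN]
    · field_simp; rw [hN]; linear_combination σ (v 1) * hx
    · field_simp; rw [hN]; linear_combination -σ (v 0) * hx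
  let G0 : Subgroup (GL (Fin 3) F) := M ⊓ subspaceStabilizer (Submodule.span F {w})
  have hpres : ∀ x : G0, ∀ i, hermForm 3 F q (((x : GL (Fin 3) F) : Matrix (Fin 3) (Fin 3) F) *ᵥ bas v i) w = 0 := fun x i => by
    have := mem_subspaceStabilizer_iff.mp x.2.2 w (Submodule.mem_span_singleton_self w)
    rw [Submodule.mem_span_singleton] at this
    obtain ⟨r, hr⟩ := this
    have hr0 : r ≠ 0 := fun e => by
      rw [e, zero_smul, eq_comm] at hr
      have := gl_mulVec_injective (x : GL (Fin 3) F) (hr.trans (Matrix.mulVec_zero _).symm)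
      have h0 := congrFun this 0
      rw [hw] at h0
      simp [hv10] at h0
    have h := mem_GU_iff.mp (D.le x.2.1).1 (bas v i) w
    rw [← hr, hs.smul_right, hbw, mul_eq_zero] at h
    exact h.resolve_left fun e => hr0 ((map_eq_zero σ).mp e)
  have hmul : ∀ x y : G0, planeMat σ v ((x * y : G0) : GL (Fin 3) F) = planeMat σ v (x : GL (Fin 3) F) * planeMat σ v (y : GL (Fin 3) F) := fun x y => by
    ext i j
    rw [Matrix.mul_apply, Fin.sum_univ_two]
    simp only [planeMat, Matrix.of_apply, Subgroup.coe_mul]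
    rw [gl_mul_mulVec]
    conv_lhs => rw [hdec _ (hpres y j), Matrix.mulVec_add, Matrix.mulVec_smul, Matrix.mulVec_smul]
    fin_cases i <;> simp [crd] <;> ring
  have hone : planeMat σ v ((1 : G0) : GL (Fin 3) F) = 1 := by
    ext i j
    fin_cases i <;> fin_cases j <;> simp [planeMat, crd, bas, Matrix.mulVec, dotProduct, Fin.sum_univ_three, ← hN, hN0]
  let f : G0 →* Matrix (Fin 2) (Fin 2) F :=
    { toFun := fun x => planeMat σ v (x : GL (Fin 3) F), map_one' := hone, map_mul' := hmul }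
  let ρ : G0 →* GL (Fin 2) F := f.toHomUnits
  have hρ : ∀ (x : G0) i j, (ρ x : Matrix (Fin 2) (Fin 2) F) i j =
      crd σ v (((x : GL (Fin 3) F) : Matrix (Fin 3) (Fin 3) F) *ᵥ bas v j) i := fun x i j => rfl
  have hb0 : bas v 0 = Pi.single (2 : Fin 3) (1 : F) := by ext p; fin_cases p <;> simp [bas]
  have horth : ∀ x : G0, hermForm 3 F q (((x : GL (Fin 3) F) : Matrix (Fin 3) (Fin 3) F) *ᵥ bas v 0)
      (((x : GL (Fin 3) F) : Matrix (Fin 3) (Fin 3) F) *ᵥ bas v 1) = 0 := fun x => by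
    rw [mem_GU_iff.mp (D.le x.2.1).1, herm_three hσ]; simp [bas]
  have hform : ∀ x y, hermForm 3 F q x w = 0 → hermForm 3 F q y w = 0 → hermForm 3 F q x y =
      crd σ v x 0 * σ (crd σ v y 0) + crd σ v x 1 * σ (crd σ v y 1) * N := fun x y hx hy => by
    conv_lhs => rw [hdec x hx, hdec y hy]
    rw [herm_three hσ]; simp [bas, hN]; ring
  have hnn : ∀ x : G0, ∀ i, hermForm 3 F q (((x : GL (Fin 3) F) : Matrix (Fin 3) (Fin 3) F) *ᵥ bas v i)
      (((x : GL (Fin 3) F) : Matrix (Fin 3) (Fin 3) F) *ᵥ bas v i) ≠ 0 := fun x i => by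
    rw [mem_GU_iff.mp (D.le x.2.1).1, herm_three hσ]; fin_cases i <;> simp [bas, ← hN, hN0]
  obtain ⟨H, hH, hHe⟩ := exists_hom D 2 ha
  have hHw : H ∈ subspaceStabilizer (Submodule.span F {w}) := mem_subspaceStabilizer_iff.mpr fun x hx => by
    rw [Submodule.mem_span_singleton] at hx ⊢
    obtain ⟨r, rfl⟩ := hx
    refine ⟨r * a, ?_⟩
    rw [hHe, hw]; ext p; fin_cases p <;> simp [Matrix.mulVec_diagonal] <;> ring
  obtain ⟨J, hJ, hJe⟩ := exists_hom D j ha
  obtain ⟨x, hx⟩ : ∃ x, x = g * J * g⁻¹ := ⟨_, rfl⟩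
  have hxx : ∀ y, (x : Matrix (Fin 3) (Fin 3) F) *ᵥ y = a • y + ((σ a * σ a - a) * hermForm 3 F q y v) • v := fun y => by
    obtain ⟨z, rfl⟩ : ∃ z, y = (g : Matrix (Fin 3) (Fin 3) F) *ᵥ z :=
      ⟨((g⁻¹ : GL (Fin 3) F) : Matrix (Fin 3) (Fin 3) F) *ᵥ y, (gl_mulVec_inv_cancel g y).symm⟩
    rw [hx, gl_mul_mulVec, gl_mul_mulVec, gl_inv_mulVec_cancel, hv, mem_GU_iff.mp (D.le hg).1,
      ← Matrix.mulVec_smul, ← Matrix.mulVec_smul, ← Matrix.mulVec_add, hJe]
    congr 1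
    ext p
    rw [Matrix.mulVec_diagonal, swp hσ (Pi.single j 1), hσ.hermForm_single, one_mul, hσ.involutive]
    by_cases hp : p = j
    · subst hp; simp; ring
    · simp [hp]
  have hwv : hermForm 3 F q w v = 0 := orth_swp hσ (by rw [hperp]; ring)
  have hxw : x ∈ subspaceStabilizer (Submodule.span F {w}) := mem_subspaceStabilizer_iff.mpr fun y hy => by
    rw [Submodule.mem_span_singleton] at hy ⊢
    obtain ⟨r, rfl⟩ := hy
    exact ⟨r * a, by rw [Matrix.mulVec_smul, hxx, hwv, mul_zero, zero_smul, add_zero, smul_smul]⟩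
  refine no_frobenius_two ρ (fun y h => ?_) (fun y h => ?_) (fun y h => ?_)
    (h := ⟨H, hH, hHw⟩) (g₁ := ⟨x, Subgroup.mem_inf.mpr ⟨hx ▸ mul_mem (mul_mem hg hJ) (inv_mem hg), hxw⟩⟩) ?_ ?_ ?_ ?_
  · have := hform _ _ (hpres y 0) (hpres y 1)
    rw [horth y, ← hρ y 1 0, h, zero_mul, zero_mul, add_zero, eq_comm, mul_eq_zero] at this
    rcases this with e | e
    · exfalso
      apply hnn y 0
      rw [hform _ _ (hpres y 0) (hpres y 0), e, ← hρ y 1 0, h]; simp
    · rw [hρ]; exact (map_eq_zero σ).mp e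
  · have := hform _ _ (hpres y 0) (hpres y 1)
    rw [horth y, ← hρ y 0 1, h, map_zero, mul_zero, zero_add, eq_comm, mul_eq_zero, or_iff_left hN0, mul_eq_zero] at this
    rcases this with e | e
    · rw [hρ]; exact e
    · exfalso
      apply hnn y 1
      rw [hform _ _ (hpres y 1) (hpres y 1), ← hρ y 0 1, h, e]; simp
  · have h02 : ((y : GL (Fin 3) F) : Matrix (Fin 3) (Fin 3) F) 2 2 = 0 := by
      rw [hρ, hb0, Matrix.mulVec_single_one] at h; simpa [crd] using h
    have hym : IsMon ((y : GL (Fin 3) F) : Matrix (Fin 3) (Fin 3) F) := by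
      by_contra hym; exact no_zero D hno ha h6 y.2.1 hym 2 2 h02
    have hc := hpres y 0
    rw [hb0, hperp, Matrix.mulVec_single_one] at hc
    simp at hc
    obtain ⟨p, hp⟩ := hym 2
    have hdet : ∀ i, ((y : GL (Fin 3) F) : Matrix (Fin 3) (Fin 3) F) i 2 = 0 := by
      have h0 : ((y : GL (Fin 3) F) : Matrix (Fin 3) (Fin 3) F) 0 2 = 0 ∧ ((y : GL (Fin 3) F) : Matrix (Fin 3) (Fin 3) F) 1 2 = 0 := by
        by_cases hp0 : p = 0
        · subst hp0
          rw [hp 1 (by decide), zero_mul, sub_zero] at hc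
          exact ⟨(mul_eq_zero.mp hc).resolve_right hv10, hp 1 (by decide)⟩
        · rw [hp 0 (Ne.symm hp0), zero_mul, zero_sub, neg_eq_zero] at hc
          exact ⟨hp 0 (Ne.symm hp0), (mul_eq_zero.mp hc).resolve_right hv00⟩
      intro i; fin_cases i
      · exact h0.1
      · exact h0.2
      · exact h02
    apply hnn y 0
    rw [hb0, Matrix.mulVec_single_one, herm_three hσ]
    simp [hdet]
  · rw [hρ, hb0]
    simp only [crd]
    simp [hxx, hσ.hermForm_single, ← hN]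
    refine ⟨?_, hN0⟩
    intro e
    apply h6
    have hδ : (σ a * σ a - a) * σ (v 2) * N = 0 := by rw [hN]; linear_combination e
    have : σ a * σ a - a = 0 := by
      simpa [hσv2, hN0] using hδ
    linear_combination (-(a ^ 2) * (a ^ 3 + 1)) * this + (a * σ a + 1) * (a ^ 3 + 1) * ha
  · rw [hρ, hb0]
    simp [crd, hHe]
  · simp only [hρ, hb0]
    simp [crd, bas, hHe, Matrix.mulVec_diagonal, ← hN]
    intro e
    apply h6
    have e' : (σ a * σ a) ^ 2 = ((a * v 0 * σ (v 0) + a * v 1 * σ (v 1)) / N) ^ 2 := e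
    rw [show a * v 0 * σ (v 0) + a * v 1 * σ (v 1) = a * N by rw [hN]; ring, mul_div_cancel_right₀ _ hN0] at e'
    linear_combination -(a ^ 4) * e' + (a * σ a * (a * σ a) + 1) * (a * σ a + 1) * ha
  · intro h2
    simp only [hρ, hb0]
    simp [crd, bas, hHe, Matrix.mulVec_diagonal, ← hN]
    intro e
    apply h9 h2
    have e' : (σ a * σ a) ^ 3 = ((a * v 0 * σ (v 0) + a * v 1 * σ (v 1)) / N) ^ 3 := e
    rw [show a * v 0 * σ (v 0) + a * v 1 * σ (v 1) = a * N by rw [hN]; ring, mul_div_cancel_right₀ _ hN0] at e'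
    linear_combination -(a ^ 6) * e' + ((a * σ a) ^ 5 + (a * σ a) ^ 4 + (a * σ a) ^ 3 + (a * σ a) ^ 2 + a * σ a + 1) * ha

omit D in
/-- Frames give maximal subgroups. -/
theorem frame_isMaximal (hσ : IsUSigma q σ) (h3 : 3 ≤ q) (h5 : q ≠ 5) {E : Fin 3 → Submodule F (Fin 3 → F)}
    (hE : IsNondegenerateMDecomposition (hermForm 3 F q) 1 E) :
    IsMaximalIn (suGL 3 F q) (decompositionStabilizer E ⊓ suGL 3 F q) := by
  classical
  obtain ⟨B, hBU, hB⟩ := UFrame.exists_frame_coords hσ hE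
  refine ⟨lt_of_le_of_ne inf_le_right fun e => hσ.not_su_le_decomp_small le_rfl (by omega) (by norm_num) hE.decomp
    (inf_eq_right.mp e), fun K hHK hKS => or_iff_not_imp_left.mpr fun hne => le_antisymm hKS ?_⟩
  have hconj : ∀ x : GL (Fin 3) F, B⁻¹ * (B * x * B⁻¹) * B = x := fun x => by group
  have hconj' : ∀ x : GL (Fin 3) F, B * (B⁻¹ * x * B) * B⁻¹ = x := fun x => by group
  have hsl := specialLinear_normal (ι := Fin 3) (F := F)
  have hin : ∀ x : GL (Fin 3) F, x ∈ suGL 3 F q → B * x * B⁻¹ ∈ suGL 3 F q := fun x hx =>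
    ⟨(GU 3 F q).mul_mem ((GU 3 F q).mul_mem hBU hx.1) ((GU 3 F q).inv_mem hBU), hsl.conj_mem _ hx.2 B⟩
  have hout : ∀ x : GL (Fin 3) F, x ∈ suGL 3 F q → B⁻¹ * x * B ∈ suGL 3 F q := fun x hx => by
    refine ⟨(GU 3 F q).mul_mem ((GU 3 F q).mul_mem ((GU 3 F q).inv_mem hBU) hx.1) hBU, ?_⟩
    have := hsl.conj_mem _ hx.2 B⁻¹
    rwa [inv_inv] at this
  obtain ⟨g, hgK, hgH⟩ : ∃ g ∈ K, g ∉ decompositionStabilizer E := by
    by_contra hcon
    push Not at hcon
    exact hne (le_antisymm (le_inf hcon hKS) hHK)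
  let K' := K.comap (MulAut.conj B).toMonoidHom
  have hK' : ∀ x, x ∈ K' ↔ B * x * B⁻¹ ∈ K := fun x => Iff.rfl
  have hDK : MData q σ K' :=
    { sig := hσ
      three := h3
      le := fun x hx => by
        have := hout _ (hKS ((hK' x).mp hx))
        rwa [hconj] at this
      mon := fun x hx hm => (hK' x).mpr (hHK ⟨(hB _).mpr (by rwa [hconj]), hin x hx⟩) }
  have hfull := frame_full hDK h5 (g := B⁻¹ * g * B) ((hK' _).mpr (by rwa [hconj'])) fun hm => hgH ((hB g).mpr hm)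
  intro z hz
  have := (hK' _).mp (hfull (hout z hz))
  rwa [hconj'] at this

end Cfsg.Agent.Classical.UThree
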