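/-
Stabilisers of points in the special unitary group of degree three are maximal.
-/
import Cfsg.Agent.Lib.Classical.UThree.Basic
import Cfsg.Agent.Lib.Classical.RadicalForm

set_option autoImplicit false
set_option linter.unusedSectionVars false

namespace Cfsg.Agent.Classical.UThree

open Matrix Cfsg.Geo
open Cfsg.Agent.Classical
open Cfsg.Agent.Classical.UOver (Tv tv_unique tv_conj tv_smul tv_mem)

variable {F : Type*} [Field F] [Fintype F] {q : ℕ} {σ : F ≃+* F}
variable (hσ : IsUSigma q σ)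

include hσ

/-- Isotropic points. -/
theorem iso_isMaximal (h3 : 3 ≤ q) {W : Submodule F (Fin 3 → F)} (hW0 : W ≠ ⊥)
    (hW : IsTotallySingularFor (hermForm 3 F q) W) :
    IsMaximalIn (suGL 3 F q) (subspaceStabilizer W ⊓ suGL 3 F q) := by
  obtain ⟨c, hc0, hc⟩ := hσ.exists_skew
  refine Radical.isMaximal_form (G := suGL 3 F q) (σ := σ) (ε := 1)
    (reflexForm_of_unitary hσ.isUnitaryForm) (fun g hg x y => mem_GU_iff.mp hg.1 x y)
    (fun g h1 hg => ⟨mem_GU_iff.mpr hg, h1⟩) (fun v => ?_) ⟨c, hc0, by rwa [one_mul]⟩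
    (fun K hK => suGL_le_three hσ h3 fun v c hv hc g hg => ?_) hW0 hW
  · obtain ⟨s, -, hs⟩ := UMaxSL.exists_trace (hσ.isUnitaryForm (n := 3)) (b := hermForm 3 F q v v) (swp hσ v v).symm
    exact ⟨-s, by rw [one_mul, map_neg]; linear_combination -hs⟩
  · by_cases hv0 : v = 0
    · convert one_mem K
      refine gl_ext_mulVec fun x => ?_
      rw [hg x, hv0, Units.val_one, Matrix.one_mulVec, smul_zero, add_zero]
    · exact hK v c hv hv0 (by rwa [one_mul]) g hg

/-- Nondegenerate points. -/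
theorem point_isMaximal (h3 : 3 ≤ q) {W : Submodule F (Fin 3 → F)} (hW0 : W ≠ ⊥)
    (hW : IsNondegenerateOn (hermForm 3 F q) W) (h1 : 2 * Module.finrank F W < 3) :
    IsMaximalIn (suGL 3 F q) (subspaceStabilizer W ⊓ suGL 3 F q) := by
  have hs := sf hσ
  obtain ⟨e, heW, he0⟩ := (Submodule.ne_bot_iff W).mp hW0
  have hWe : W = Submodule.span F {e} := by
    refine (Submodule.eq_of_le_of_finrank_le ((Submodule.span_singleton_le_iff_mem e W).mpr heW) ?_).symm
    rw [finrank_span_singleton he0]; omega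
  have he : hermForm 3 F q e e ≠ 0 := fun h => by
    obtain ⟨x, hx, hxe⟩ := (hW e heW he0).1
    rw [hWe, Submodule.mem_span_singleton] at hx
    obtain ⟨a, rfl⟩ := hx
    rw [hs.smul_left, h, mul_zero] at hxe
    exact hxe rfl
  refine ⟨lt_of_le_not_ge inf_le_right fun h => hσ.not_su_le_subspace_three le_rfl hW0
    (fun e' => by rw [e', finrank_top, Module.finrank_fintype_fun_eq_card, Fintype.card_fin] at h1; omega)
    (h.trans inf_le_left), fun M hM hMS => or_iff_not_imp_left.mpr fun hne => le_antisymm hMS ?_⟩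
  obtain ⟨g, hg, hgW⟩ : ∃ g ∈ M, g ∉ subspaceStabilizer W := by
    by_contra hcon
    push Not at hcon
    exact hne (le_antisymm (le_inf hcon hMS) hM)
  refine full_of_chord hσ h3 hMS he (fun z c hz hze hc t ht => hM ⟨?_, tv_mem hσ hz hc ht⟩) hg fun a ha => hgW ?_
  · refine mem_subspaceStabilizer_iff.mpr fun w hw => ?_
    rw [hWe, Submodule.mem_span_singleton] at hw
    obtain ⟨a, rfl⟩ := hw
    rw [Matrix.mulVec_smul, ht, orth_swp hσ hze, mul_zero, zero_smul, add_zero]
    exact W.smul_mem _ heW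
  · refine mem_subspaceStabilizer_iff.mpr fun w hw => ?_
    rw [hWe, Submodule.mem_span_singleton] at hw
    obtain ⟨b, rfl⟩ := hw
    rw [Matrix.mulVec_smul, ha]
    exact W.smul_mem _ (W.smul_mem _ heW)

end Cfsg.Agent.Classical.UThree
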