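/-
A rational structure of odd prime index in the unitary space of dimension three.
-/
import Cfsg.Agent.Lib.Classical.UThree.Basic
import Cfsg.Agent.Lib.Classical.UThree.SLTwo
import Cfsg.Agent.Lib.Classical.LinThree.UnitMax
import Cfsg.Agent.Lib.Classical.FormPower
import Cfsg.Agent.Lib.Classical.Subfield

set_option autoImplicit false
set_option linter.unusedSectionVars false
set_option maxHeartbeats 400000

namespace Cfsg.Agent.Classical.UThree

open Matrix Cfsg.Geo
open Cfsg.Agent.Classical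
open Cfsg.Agent.Classical.UOver (Tv tv_unique tv_conj tv_smul tv_mem)

variable {F : Type*} [Field F] [Fintype F]

/-- The rational vectors. -/
def Rv (F₀ : Subfield F) (P : GL (Fin 3) F) (x : Fin 3 → F) : Prop :=
  ∀ i, (((P⁻¹ : GL (Fin 3) F) : Matrix (Fin 3) (Fin 3) F) *ᵥ x) i ∈ F₀

/-- The setting. -/
structure SData (q : ℕ) (σ : F ≃+* F) (F₀ : Subfield F) (r : ℕ) (P : GL (Fin 3) F) (M : Subgroup (GL (Fin 3) F)) :
    Prop where
  sig : IsUSigma q σ
  three : 3 ≤ q
  le : M ≤ suGL 3 F q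
  hr : r.Prime
  hro : Odd r
  card : Fintype.card F = Nat.card F₀ ^ r
  stab : ∀ x ∈ F₀, σ x ∈ F₀
  nt : ∃ θ ∈ F₀, σ θ ≠ θ
  form : ∀ x y, Rv F₀ P x → Rv F₀ P y → hermForm 3 F q x y ∈ F₀
  base : ∀ g ∈ suGL 3 F q, (∀ x, Rv F₀ P x → Rv F₀ P ((g : Matrix (Fin 3) (Fin 3) F) *ᵥ x)) → g ∈ M

/-- A rational frame. -/
structure RFr (q : ℕ) (F₀ : Subfield F) (P : GL (Fin 3) F) (u e v : Fin 3 → F) : Prop where
  ru : Rv F₀ P u
  re : Rv F₀ P e
  rv : Rv F₀ P v
  pair : Pair q e u v
  ee : hermForm 3 F q e e ≠ 0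

/-- The action of a two-by-two matrix on a hyperbolic pair. -/
def actTwo (q : ℕ) (d : F) (u v : Fin 3 → F) (a b c a' : F) (x : Fin 3 → F) : Fin 3 → F :=
  x + ((a - 1) * hermForm 3 F q x v + d * b * hermForm 3 F q x u) • u +
    (c / d * hermForm 3 F q x v + (a' - 1) * hermForm 3 F q x u) • v

variable {q : ℕ} {σ : F ≃+* F} {F₀ : Subfield F} {r : ℕ} {P : GL (Fin 3) F} {M : Subgroup (GL (Fin 3) F)}

theorem Rv.add {x y : Fin 3 → F} (hx : Rv F₀ P x) (hy : Rv F₀ P y) : Rv F₀ P (x + y) := fun i => by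
  rw [Matrix.mulVec_add]; exact add_mem (hx i) (hy i)

theorem Rv.smul {x : Fin 3 → F} {c : F} (hc : c ∈ F₀) (hx : Rv F₀ P x) : Rv F₀ P (c • x) := fun i => by
  rw [Matrix.mulVec_smul]; exact mul_mem hc (hx i)

theorem rv_col (j : Fin 3) : Rv F₀ P ((P : Matrix (Fin 3) (Fin 3) F) *ᵥ Pi.single j 1) := fun i => by
  rw [gl_inv_mulVec_cancel]
  by_cases h : i = j
  · subst h; simp
  · simp [h]

section

variable (D : SData q σ F₀ r P M)

include D

/-- A frame through a rational isotropic vector, and some such vector. -/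
theorem exists_frame :
    (∃ w : Fin 3 → F, w ≠ 0 ∧ Rv F₀ P w ∧ hermForm 3 F q w w = 0) ∧
      ∀ w : Fin 3 → F, w ≠ 0 → Rv F₀ P w → hermForm 3 F q w w = 0 → ∃ e v, RFr q F₀ P w e v := by
  classical
  have hσ := D.sig
  have hs := sf hσ
  haveI : Fintype F₀ := Fintype.ofFinite F₀
  let σ₀ : F₀ ≃+* F₀ :=
    { toFun := fun x => ⟨σ x, D.stab x x.2⟩
      invFun := fun x => ⟨σ x, D.stab x x.2⟩
      left_inv := fun x => Subtype.ext (hσ.involutive x)
      right_inv := fun x => Subtype.ext (hσ.involutive x)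
      map_mul' := fun x y => Subtype.ext (map_mul σ (x : F) y)
      map_add' := fun x y => Subtype.ext (map_add σ (x : F) y) }
  let L : (Fin 3 → F₀) → (Fin 3 → F) := fun u => (P : Matrix (Fin 3) (Fin 3) F) *ᵥ fun i => (u i : F)
  have hL : ∀ u, Rv F₀ P (L u) := fun u i => by simp only [L]; rw [gl_inv_mulVec_cancel]; exact (u i).2
  have hLadd : ∀ u v, L (u + v) = L u + L v := fun u v => by
    simp only [L]; rw [← Matrix.mulVec_add]; rfl
  have hLsmul : ∀ (c : F₀) u, L (c • u) = (c : F) • L u := fun c u => by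
    simp only [L]; rw [← Matrix.mulVec_smul]; rfl
  let B : (Fin 3 → F₀) → (Fin 3 → F₀) → F₀ := fun u v => ⟨hermForm 3 F q (L u) (L v), D.form _ _ (hL u) (hL v)⟩
  have hL0 : ∀ u, L u = 0 → u = 0 := fun u h => by
    funext i
    refine Subtype.ext ?_
    have := congrFun (congrArg (fun z => ((P⁻¹ : GL (Fin 3) F) : Matrix (Fin 3) (Fin 3) F) *ᵥ z) h) i
    simp only [L] at this
    rw [gl_inv_mulVec_cancel, Matrix.mulVec_zero] at this
    exact this
  have hnd : ∀ v, v ≠ 0 → ∃ x, B x v ≠ 0 := fun v hv => by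
    by_contra hcon
    push Not at hcon
    obtain ⟨y, hy⟩ := (hσ.isUnitaryForm.nondegenerate (L v) fun h => hv (hL0 v h)).1
    refine hy ?_
    have key : ∀ j, hermForm 3 F q ((P : Matrix (Fin 3) (Fin 3) F) *ᵥ Pi.single j 1) (L v) = 0 := fun j => by
      have h := congrArg Subtype.val (hcon (Pi.single j 1))
      have e : L (Pi.single j 1) = (P : Matrix (Fin 3) (Fin 3) F) *ᵥ Pi.single j 1 := by
        simp only [L]; congr 1; funext i
        by_cases hi : i = j <;> simp [hi]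
      rw [← e]; exact h
    obtain ⟨z, rfl⟩ : ∃ z, y = (P : Matrix (Fin 3) (Fin 3) F) *ᵥ z :=
      ⟨((P⁻¹ : GL (Fin 3) F) : Matrix (Fin 3) (Fin 3) F) *ᵥ y, (gl_mulVec_inv_cancel P y).symm⟩
    have ez : z = z 0 • Pi.single 0 1 + z 1 • Pi.single 1 1 + z 2 • Pi.single 2 1 := by
      funext i; fin_cases i <;> simp
    rw [ez]
    simp only [Matrix.mulVec_add, Matrix.mulVec_smul, hs.add_left, hs.smul_left, key, mul_zero, add_zero]
  have hB : IsUnitaryForm σ₀ B := by
    refine ⟨fun e => ?_, fun a => Subtype.ext (hσ.involutive a), fun x y v => Subtype.ext ?_,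
      fun c x v => Subtype.ext ?_, fun v w => Subtype.ext (hσ.isUnitaryForm.herm _ _), fun v hv => ?_⟩
    · obtain ⟨θ, hθ, hne⟩ := D.nt
      exact hne (congrArg Subtype.val (RingEquiv.congr_fun e ⟨θ, hθ⟩))
    · simp only [B, Subfield.coe_add, hLadd, hs.add_left]
    · simp only [B, Subfield.coe_mul, hLsmul, hs.smul_left]
    · obtain ⟨x, hx⟩ := hnd v hv
      exact ⟨⟨x, hx⟩, ⟨x, fun e => hx (Subtype.ext (orth_swp hσ (congrArg Subtype.val e)))⟩⟩
  obtain ⟨w₀, hw₀, hw₀'⟩ := LinThree.exists_iso_vec hB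
  refine ⟨⟨L w₀, fun h => hw₀ (hL0 _ h), hL w₀, congrArg Subtype.val hw₀'⟩, fun w hw0 hw hww => ?_⟩
  obtain ⟨w', rfl⟩ : ∃ w', w = L w' := by
    refine ⟨fun i => ⟨_, hw i⟩, ?_⟩
    simp only [L]
    exact (gl_mulVec_inv_cancel P w).symm
  obtain ⟨p, v, R⟩ := LinThree.fr_of_iso hB (e := w') (fun h => hw0 (by
    rw [h]; simp only [L]; rw [show (fun i => (((0 : Fin 3 → F₀) i : F₀) : F)) = 0 from rfl, Matrix.mulVec_zero]))
    (Subtype.ext hww)
  have v1 : hermForm 3 F q (L p) (L p) ≠ 0 := fun h => R.pp (Subtype.ext h)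
  have v2 : hermForm 3 F q (L w') (L v) = 1 := congrArg Subtype.val R.ee'
  have v3 : hermForm 3 F q (L w') (L p) = 0 := congrArg Subtype.val R.ep
  have v4 : hermForm 3 F q (L v) (L v) = 0 := congrArg Subtype.val R.e'e'
  have v5 : hermForm 3 F q (L v) (L p) = 0 := orth_swp hσ (congrArg Subtype.val R.pe')
  have v2' : hermForm 3 F q (L v) (L w') = 1 := by rw [swp hσ (L w') (L v), v2, map_one]
  refine ⟨L p, L v, hL _, hL _, hL _, ⟨hww, v4, v2, v2', v3, v5, fun x hx => ?_⟩, v1⟩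
  obtain ⟨d, hd⟩ : ∃ d, d = x + (-hermForm 3 F q x (L v)) • L w' + (-hermForm 3 F q x (L w')) • L v := ⟨_, rfl⟩
  have d1 : hermForm 3 F q d (L v) = 0 := by
    rw [hd, hs.add_left, hs.add_left, hs.smul_left, hs.smul_left, v2, v4]; ring
  have d2 : hermForm 3 F q d (L w') = 0 := by
    rw [hd, hs.add_left, hs.add_left, hs.smul_left, hs.smul_left, hww, v2']; ring
  have d3 : hermForm 3 F q d (L p) = 0 := by
    rw [hd, hs.add_left, hs.add_left, hs.smul_left, hs.smul_left, v3, v5, hx]; ring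
  obtain ⟨u', w'', P'⟩ := exists_pair hσ v1
  have e1 := P'.span d d3
  have e2 := P'.span (L w') v3
  have e3 := P'.span (L v) v5
  by_contra hne
  have hd0 : d ≠ 0 := fun h0 => hne (by rw [hd] at h0; linear_combination (norm := module) h0)
  obtain ⟨y, hy⟩ := (hσ.isUnitaryForm.nondegenerate d hd0).2
  -- `d` is orthogonal to a spanning set
  have hli : LinearIndependent F ![L p, L w', L v] := by
    rw [Fintype.linearIndependent_iff]
    intro g hg
    simp only [Fin.sum_univ_three, Matrix.cons_val_zero, Matrix.cons_val_one, Matrix.cons_val] at hg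
    have h0 : ∀ z, g 0 * hermForm 3 F q (L p) z + g 1 * hermForm 3 F q (L w') z + g 2 * hermForm 3 F q (L v) z = 0 :=
      fun z => by
        rw [← hs.smul_left, ← hs.smul_left, ← hs.smul_left, ← hs.add_left, ← hs.add_left, hg, ← zero_smul F z,
          hs.smul_left, zero_mul]
    have a0 := h0 (L p)
    rw [v3, v5, mul_zero, mul_zero, add_zero, add_zero, mul_eq_zero, or_iff_left v1] at a0
    have a1 := h0 (L v)
    rw [a0, zero_mul, v2, v4, mul_zero, add_zero, zero_add, mul_one] at a1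
    have a2 := h0 (L w')
    rw [a0, a1, zero_mul, zero_mul, v2', zero_add, zero_add, mul_one] at a2
    intro i; fin_cases i <;> assumption
  refine hy ?_
  have hsp := hli.span_eq_top_of_card_eq_finrank (by simp)
  have hyy : y ∈ Submodule.span F (Set.range ![L p, L w', L v]) := by rw [hsp]; exact Submodule.mem_top
  obtain ⟨g, rfl⟩ := (Submodule.mem_span_range_iff_exists_fun F).mp hyy
  simp only [Fin.sum_univ_three, Matrix.cons_val_zero, Matrix.cons_val_one, Matrix.cons_val, hs.add_right,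
    hs.smul_right, d1, d2, d3, mul_zero, add_zero]

theorem tv_base {z : Fin 3 → F} {c : F} (hz : Rv F₀ P z) (hzz : hermForm 3 F q z z = 0) (hc : c ∈ F₀)
    (hc' : c + σ c = 0) {t : GL (Fin 3) F} (ht : Tv q t z c) : t ∈ M :=
  D.base t (tv_mem D.sig hzz hc' ht) fun x hx => by
    rw [ht]; exact hx.add (hz.smul (mul_mem hc (D.form _ _ hx hz)))

/-- The fixed part of the subfield, inside the fixed field. -/
theorem k0_facts : Nat.card (fixedField σ) =
    Nat.card (F₀.comap (fixedField σ).subtype) ^ r ∧ Nat.card F₀ = Nat.card (F₀.comap (fixedField σ).subtype) ^ 2 := by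
  classical
  have hσ := D.sig
  obtain ⟨θ, hθ, hne⟩ := D.nt
  have hd : θ - σ θ ≠ 0 := sub_ne_zero.mpr (Ne.symm hne)
  let k0 := F₀.comap (fixedField σ).subtype
  have mk : ∀ x : F, x ∈ F₀ → σ x = x → ∃ y : k0, ((y : fixedField σ) : F) = x := fun x h1 h2 =>
    ⟨⟨⟨x, mem_fixedField.mpr h2⟩, h1⟩, rfl⟩
  let f : k0 × k0 → F₀ := fun p => ⟨((p.1 : fixedField σ) : F) + θ * ((p.2 : fixedField σ) : F),
    add_mem p.1.2 (mul_mem hθ p.2.2)⟩
  have hf : Function.Bijective f := by
    refine ⟨fun a b h => ?_, fun x => ?_⟩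
    · have e := congrArg Subtype.val h
      simp only [f] at e
      have e' := congrArg σ e
      rw [map_add, map_add, map_mul, map_mul, mem_fixedField.mp (a.1 : fixedField σ).2, mem_fixedField.mp (a.2 : fixedField σ).2,
        mem_fixedField.mp (b.1 : fixedField σ).2, mem_fixedField.mp (b.2 : fixedField σ).2] at e'
      have h2 : ((a.2 : fixedField σ) : F) = ((b.2 : fixedField σ) : F) :=
        mul_left_cancel₀ hd (by linear_combination e - e')
      have h1 : ((a.1 : fixedField σ) : F) = ((b.1 : fixedField σ) : F) := by linear_combination e - θ * h2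
      exact Prod.ext (Subtype.ext (Subtype.ext h1)) (Subtype.ext (Subtype.ext h2))
    · obtain ⟨b, hb⟩ := mk (((x : F) - σ x) / (θ - σ θ))
        (div_mem (sub_mem x.2 (D.stab _ x.2)) (sub_mem hθ (D.stab _ hθ)))
        (by rw [map_div₀, map_sub, map_sub, hσ.involutive, hσ.involutive, ← neg_sub (x : F), ← neg_sub θ, neg_div_neg_eq])
      have hb' : ((x : F) - σ x) = (θ - σ θ) * ((b : fixedField σ) : F) := by rw [hb, mul_div_cancel₀ _ hd]
      obtain ⟨a, ha⟩ := mk ((x : F) - θ * ((b : fixedField σ) : F))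
        (sub_mem x.2 (mul_mem hθ b.2))
        (by
          have := mem_fixedField.mp (b : fixedField σ).2
          rw [map_sub, map_mul, this]
          linear_combination -hb')
      refine ⟨(a, b), Subtype.ext ?_⟩
      simp only [f, ha]; ring
  have h2 : Nat.card F₀ = Nat.card k0 ^ 2 := by
    rw [← Nat.card_eq_of_bijective _ hf, Nat.card_prod, pow_two]
  refine ⟨?_, h2⟩
  have hc := D.card
  rw [hσ.card, h2, ← pow_mul, mul_comm, pow_mul] at hc
  rw [hσ.card_fixed]
  exact Nat.pow_left_injective two_ne_zero hc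

/-- A chord carrying transvections over the subfield carries all of them or only rational ones. -/
theorem chord_cases {u v : Fin 3 → F} (huu : hermForm 3 F q u u = 0) (hvv : hermForm 3 F q v v = 0)
    (huv : hermForm 3 F q u v = 1) {d : F} (hd : d ∈ F₀) (hd0 : d ≠ 0) (hdd : d + σ d = 0) {ν c : F} (hν : σ ν = ν)
    (hν0 : ν ≠ 0) (hu : ∀ x ∈ F₀, σ x = x → ∀ g, Tv q g u (d * x) → g ∈ M)
    (hv : ∀ x ∈ F₀, σ x = x → ∀ g, Tv q g v (d * x * ν) → g ∈ M)
    (hc : c + σ c = 0) (hcM : ∀ g, Tv q g u c → g ∈ M)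
    (hbig : 3 ≤ Nat.card (F₀.comap (fixedField σ).subtype) ∨ ν ∈ F₀) :
    (c ∈ F₀ ∧ ν ∈ F₀) ∨ ∀ c', c' + σ c' = 0 → ∀ g, Tv q g u c' → g ∈ M := by
  classical
  have hσ := D.sig
  have hs := sf hσ
  have hvu : hermForm 3 F q v u = 1 := by rw [swp hσ u v, huv, map_one]
  have hσd : σ d = -d := eq_neg_of_add_eq_zero_right hdd
  let k := fixedField σ
  let Gm : Submonoid (Matrix.SpecialLinearGroup (Fin 2) k) :=
    { carrier := {y | ∃ g ∈ M, ∀ x, (g : Matrix (Fin 3) (Fin 3) F) *ᵥ x =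
        actTwo q d u v (y.1 0 0 : F) (y.1 0 1 : F) (y.1 1 0 : F) (y.1 1 1 : F) x}
      one_mem' := ⟨1, one_mem M, fun x => by simp [actTwo]⟩
      mul_mem' := fun {y z} ⟨g, hg, hgx⟩ ⟨h, hh, hhx⟩ => ⟨g * h, mul_mem hg hh, fun x => by
        rw [gl_mul_mulVec, hhx, hgx]
        simp only [actTwo, Matrix.SpecialLinearGroup.coe_mul, Matrix.mul_apply, Fin.sum_univ_two, Subfield.coe_add,
          Subfield.coe_mul, hs.add_left, hs.smul_left, huu, hvv, huv, hvu]
        match_scalars <;> field_simp <;> ring⟩ }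
  let G : Subgroup (Matrix.SpecialLinearGroup (Fin 2) k) :=
    { Gm with
      inv_mem' := fun {y} hy => by
        show y⁻¹ ∈ Gm
        rw [inv_eq_of_mul_eq_one_right (show y * y ^ (orderOf y - 1) = 1 by
          rw [← pow_succ', Nat.sub_add_cancel (orderOf_pos y), pow_orderOf_eq_one])]
        exact pow_mem (show y ∈ Gm from hy) _ }
  have hmemU : ∀ (x : k) (g : GL (Fin 3) F), Tv q g u (d * (x : F)) → g ∈ M → Cfsg.Agent.Small.PSL2.uS x ∈ G :=
    fun x g hg hgM => ⟨g, hgM, fun z => by rw [hg]; simp [actTwo, Cfsg.Agent.Small.PSL2.uS, mul_assoc]⟩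
  have hfix : ∀ x : k, σ (x : F) = x := fun x => mem_fixedField.mp x.2
  have hsk : ∀ x : k, d * (x : F) + σ (d * (x : F)) = 0 := fun x => by rw [map_mul, hfix x, hσd]; ring
  obtain ⟨μ, hμ⟩ : ∃ μ : k, (μ : F) = d * d * ν :=
    ⟨⟨d * d * ν, mem_fixedField.mpr (by rw [map_mul, map_mul, hσd, hν]; ring)⟩, rfl⟩
  have hμ0 : μ ≠ 0 := fun e => mul_ne_zero (mul_ne_zero hd0 hd0) hν0 (by rw [← hμ, e]; rfl)
  have hb : (c / d : F) ∈ k := mem_fixedField.mpr (by
    rw [map_div₀, eq_neg_of_add_eq_zero_right hc, hσd, neg_div_neg_eq])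
  have h1 : ∀ x ∈ F₀.comap k.subtype, Cfsg.Agent.Small.PSL2.uS x ∈ G := fun x hx => by
    obtain ⟨g, -, hg⟩ := hσ.exists_transvection huu (hsk x)
    exact hmemU x g hg (hu _ hx (hfix x) g hg)
  have h2 : ∀ x ∈ F₀.comap k.subtype, Cfsg.Agent.Small.PSL2.vS (μ * x) ∈ G := fun x hx => by
    obtain ⟨g, -, hg⟩ := hσ.exists_transvection hvv (c := d * (x : F) * ν) (by
      rw [map_mul, hν, ← add_mul, hsk x, zero_mul])
    refine ⟨g, hv _ hx (hfix x) g hg, fun z => ?_⟩
    rw [hg]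
    simp only [actTwo, Cfsg.Agent.Small.PSL2.vS]
    simp [hμ]
    rw [show d * d * ν * (x : F) / d = d * (x : F) * ν by field_simp]
  have h3 : Cfsg.Agent.Small.PSL2.uS (⟨c / d, hb⟩ : k) ∈ G := by
    obtain ⟨g, -, hg⟩ := hσ.exists_transvection huu hc
    refine hmemU _ g ?_ (hcM g hg)
    intro x
    rw [hg x]; simp [mul_div_cancel₀ _ hd0]
  have hμmem : μ ∈ F₀.comap k.subtype ↔ ν ∈ F₀ := by
    show (μ : F) ∈ F₀ ↔ _
    rw [hμ]
    refine ⟨fun h => ?_, fun h => mul_mem (mul_mem hd hd) h⟩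
    have := mul_mem (inv_mem (mul_mem hd hd)) h
    rwa [inv_mul_cancel_left₀ (mul_ne_zero hd0 hd0)] at this
  rcases rational_or_top (F₀.comap k.subtype) D.hr D.hro
      (by rw [← Nat.card_eq_fintype_card]; exact (k0_facts D).1) hμ0 h1 h2 h3 (hbig.imp_right hμmem.mpr) with
    ⟨hb0, hμ'⟩ | hall
  · left
    refine ⟨?_, hμmem.mp hμ'⟩
    have := mul_mem hd (show (c / d : F) ∈ F₀ from hb0)
    rwa [mul_div_cancel₀ _ hd0] at this
  · right
    intro c' hc' g hg
    obtain ⟨h, hh, hhx⟩ := hall ⟨c' / d, mem_fixedField.mpr (by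
      rw [map_div₀, eq_neg_of_add_eq_zero_right hc', hσd, neg_div_neg_eq])⟩
    have : g = h := gl_ext_mulVec fun x => by
      rw [hg, hhx]; simp [actTwo, Cfsg.Agent.Small.PSL2.uS, mul_div_cancel₀ _ hd0]
    exact this ▸ hh

theorem exists_skew_unit : ∃ d ∈ F₀, d ≠ 0 ∧ d + σ d = 0 := by
  obtain ⟨θ, hθ, hne⟩ := D.nt
  exact ⟨θ - σ θ, sub_mem hθ (D.stab _ hθ), sub_ne_zero.mpr (Ne.symm hne), by
    rw [map_sub, D.sig.involutive]; ring⟩

/-- An irrational transvection with rational centre gives everything. -/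
theorem full_of_irrational {u : Fin 3 → F} (hu0 : u ≠ 0) (hu : Rv F₀ P u) (huu : hermForm 3 F q u u = 0) {c : F}
    (hc : c + σ c = 0) (hcF : c ∉ F₀) (hcM : ∀ g, Tv q g u c → g ∈ M) : suGL 3 F q ≤ M := by
  classical
  have hσ := D.sig
  have hs := sf hσ
  obtain ⟨e, v, R⟩ := (exists_frame D).2 u hu0 hu huu
  obtain ⟨ru, re, rv, Pp, hee⟩ := R
  obtain ⟨d, hd, hd0, hdd⟩ := exists_skew_unit D
  have hsk : ∀ x : F, σ x = x → d * x + σ (d * x) = 0 := fun x hx => by
    rw [map_mul, hx, ← add_mul, hdd, zero_mul]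
  have hbase : ∀ z, Rv F₀ P z → hermForm 3 F q z z = 0 → ∀ x ∈ F₀, σ x = x → ∀ g, Tv q g z (d * x) → g ∈ M :=
    fun z hz hzz x hx hxσ g hg => tv_base D hz hzz (mul_mem hd hx) (hsk x hxσ) hg
  have hall := (chord_cases D huu Pp.vv Pp.uv hd hd0 hdd (ν := 1) (map_one σ) one_ne_zero (hbase u ru huu)
    (fun x hx hxσ g hg => hbase v rv Pp.vv x hx hxσ g (by rwa [mul_one] at hg)) hc hcM (Or.inr (one_mem F₀))).resolve_left
    fun h => hcF h.1
  -- the swap
  obtain ⟨S, hS, hSx⟩ : ∃ S ∈ M, (S : Matrix (Fin 3) (Fin 3) F) *ᵥ u = v := by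
    obtain ⟨ν, hν⟩ : ∃ ν, ν = hermForm 3 F q e e := ⟨_, rfl⟩
    rw [← hν] at hee
    have hνσ : σ ν = ν := by rw [hν, ← swp hσ]
    have dec : ∀ x, x = hermForm 3 F q x v • u + (hermForm 3 F q x e / ν) • e + hermForm 3 F q x u • v := fun x => by
      have h0 := Pp.span (x + (-(hermForm 3 F q x e / ν)) • e) (by rw [hν]; exact decomp hσ (hν ▸ hee) x)
      simp only [hs.add_left, hs.smul_left, orth_swp hσ Pp.ue, orth_swp hσ Pp.ve, mul_zero, add_zero] at h0
      linear_combination (norm := module) h0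
    let T : (Fin 3 → F) → (Fin 3 → F) := fun x =>
      hermForm 3 F q x v • v + (-(hermForm 3 F q x e / ν)) • e + hermForm 3 F q x u • u
    let Tl : (Fin 3 → F) →ₗ[F] (Fin 3 → F) :=
      { toFun := T
        map_add' := fun x y => by simp only [T, hs.add_left, add_div]; module
        map_smul' := fun c x => by simp only [T, hs.smul_left, RingHom.id_apply, mul_div_assoc]; module }
    have hTT : ∀ x, T (T x) = x := fun x => by
      conv_rhs => rw [dec x]
      simp only [T, hs.add_left, hs.smul_left, Pp.uu, Pp.vv, Pp.uv, Pp.vu, Pp.ue, Pp.ve, orth_swp hσ Pp.ue,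
        orth_swp hσ Pp.ve, ← hν, mul_zero, mul_one, zero_add, add_zero, neg_mul, div_mul_cancel₀ _ hee, neg_div, neg_neg]
      module
    have hform : ∀ x y, hermForm 3 F q (T x) (T y) = hermForm 3 F q x y := fun x y => by
      conv_rhs => rw [dec x, dec y]
      simp only [T, hs.add_left, hs.add_right, hs.smul_left, hs.smul_right, Pp.uu, Pp.vv, Pp.uv, Pp.vu, Pp.ue, Pp.ve,
        orth_swp hσ Pp.ue, orth_swp hσ Pp.ve, ← hν, map_neg]
      ring
    let m := LinearMap.toMatrix' Tl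
    have hm : ∀ x, m *ᵥ x = T x := fun x => LinearMap.toMatrix'_mulVec Tl x
    have hmm : m * m = 1 := Matrix.ext_of_mulVec_single fun j => by
      rw [← Matrix.mulVec_mulVec, hm, hm, hTT, Matrix.one_mulVec]
    let B : Matrix (Fin 3) (Fin 3) F := Matrix.of fun i j => ![u, e, v] j i
    have hBcol : ∀ j, B *ᵥ Pi.single j 1 = ![u, e, v] j := fun j => by
      rw [Matrix.mulVec_single_one]; rfl
    have key : ∀ w : Fin 3 → F, B *ᵥ w = w 0 • u + w 1 • e + w 2 • v := fun w => by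
      funext i; simp [B, Matrix.mulVec, dotProduct, Fin.sum_univ_three]; ring
    have hmB : m * B = B * !![0, 0, 1; 0, -1, 0; 1, 0, 0] := Matrix.ext_of_mulVec_single fun j => by
      rw [← Matrix.mulVec_mulVec, ← Matrix.mulVec_mulVec, hBcol, hm, key, Matrix.mulVec_single_one]
      fin_cases j <;>
        simp [T, Pp.uu, Pp.vv, Pp.uv, Pp.vu, Pp.ue, Pp.ve, orth_swp hσ Pp.ue, orth_swp hσ Pp.ve, ← hν, hee]
    have hBdet : B.det ≠ 0 := by
      intro h0
      obtain ⟨w, hw, hw0⟩ := Matrix.exists_mulVec_eq_zero_iff.mpr h0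
      have ew : w 0 • u + w 1 • e + w 2 • v = 0 := by
        rw [← hw0]; funext i; simp [B, Matrix.mulVec, dotProduct, Fin.sum_univ_three]; ring
      have z0 : ∀ z, hermForm 3 F q 0 z = 0 := fun z => by
        rw [← zero_smul F (0 : Fin 3 → F), hs.smul_left, zero_mul]
      have a := congrArg (fun z => hermForm 3 F q z v) ew
      have b := congrArg (fun z => hermForm 3 F q z e) ew
      have c := congrArg (fun z => hermForm 3 F q z u) ew
      simp only [hs.add_left, hs.smul_left, Pp.uu, Pp.vv, Pp.uv, Pp.vu, Pp.ue, Pp.ve, orth_swp hσ Pp.ue,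
        orth_swp hσ Pp.ve, ← hν, z0, mul_zero, mul_one, add_zero, zero_add] at a b c
      refine hw (funext fun i => ?_)
      fin_cases i
      · exact a
      · exact (mul_eq_zero.mp b).resolve_right hee
      · exact c
    have hdet : m.det = 1 := by
      have := congrArg Matrix.det hmB
      rw [Matrix.det_mul, Matrix.det_mul, det_fin_three !![(0 : F), 0, 1; 0, -1, 0; 1, 0, 0]] at this
      simp at this
      exact mul_right_cancel₀ hBdet (by linear_combination this)
    refine ⟨GeneralLinearGroup.mkOfDetNeZero m (by rw [hdet]; exact one_ne_zero), D.base _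
      ⟨mem_GU_iff.mpr fun x y => ?_, mem_specialLinear_iff.mpr hdet⟩ fun x hx => ?_, ?_⟩
    · show hermForm 3 F q (m *ᵥ x) (m *ᵥ y) = _
      rw [hm, hm, hform]
    · show Rv F₀ P (m *ᵥ x)
      rw [hm]
      exact ((rv.smul (D.form _ _ hx rv)).add (re.smul (neg_mem (div_mem (D.form _ _ hx re) (hν ▸ D.form _ _ re re))))).add
        (ru.smul (D.form _ _ hx ru))
    · show m *ᵥ u = v
      rw [hm]; simp [T, Pp.uu, Pp.uv, Pp.ue]
  have hallv : ∀ c', c' + σ c' = 0 → ∀ g, Tv q g v c' → g ∈ M := fun c' hc' g hg => by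
    obtain ⟨g₀, -, hg₀⟩ := hσ.exists_transvection huu hc'
    have := tv_conj (D.le hS).1 (show Tv q g₀ u c' from hg₀)
    rw [hSx] at this
    rw [tv_unique hg this]
    exact mul_mem (mul_mem hS (hall c' hc' g₀ hg₀)) (inv_mem hS)
  -- a rational mover
  obtain ⟨s, hsF, hss⟩ : ∃ s ∈ F₀, s + σ s = -hermForm 3 F q e e := by
    obtain ⟨θ, hθ, hne⟩ := D.nt
    by_cases h2 : θ + σ θ = 0
    · have hne2 : (2 : F) ≠ 0 := fun h2' => hne (by linear_combination h2 - θ * h2')
      refine ⟨-hermForm 3 F q e e / 2, div_mem (neg_mem (D.form _ _ re re))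
        (by exact_mod_cast natCast_mem F₀ 2), ?_⟩
      rw [map_div₀, map_neg, ← swp hσ e e, map_ofNat, ← add_div]
      field_simp; ring
    · refine ⟨-hermForm 3 F q e e * θ / (θ + σ θ), div_mem (mul_mem (neg_mem (D.form _ _ re re)) hθ)
        (add_mem hθ (D.stab _ hθ)), ?_⟩
      rw [map_div₀, map_mul, map_neg, ← swp hσ e e, map_add, hσ.involutive, add_comm (σ θ) θ, ← add_div]
      field_simp
      ring
  obtain ⟨w, hw⟩ : ∃ w, w = s • u + e + v := ⟨_, rfl⟩
  have hwr : Rv F₀ P w := hw ▸ ((ru.smul hsF).add re).add rv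
  have hww : hermForm 3 F q w w = 0 := by
    simp only [hw, hs.add_left, hs.add_right, hs.smul_left, hs.smul_right, Pp.uu, Pp.vv, Pp.uv, Pp.vu, Pp.ue, Pp.ve,
      orth_swp hσ Pp.ue, orth_swp hσ Pp.ve]
    linear_combination hss
  have hew : hermForm 3 F q e w = hermForm 3 F q e e := by
    simp only [hw, hs.add_right, hs.smul_right, orth_swp hσ Pp.ue, orth_swp hσ Pp.ve]; ring
  obtain ⟨t, -, ht⟩ := hσ.exists_transvection hww hdd
  refine full_of_chord hσ D.three D.le hee (fun z c' hzz hze hc' g hg => ?_)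
    (tv_base D hwr hww hd hdd ht) fun a ha => ?_
  · obtain ⟨x, y, hxy⟩ : ∃ x y, z = x • u + y • v := ⟨_, _, Pp.span z hze⟩
    by_cases hx : x = 0
    · have hg' : Tv q g (y • v) c' := by rwa [hxy, hx, zero_smul, zero_add] at hg
      refine hallv _ ?_ g (tv_smul hσ y hg')
      rw [map_mul, map_mul, hσ.involutive]; linear_combination y * σ y * hc'
    · have hxy' : z = x • (u + (y / x) • v) := by
        rw [hxy, smul_add, smul_smul, mul_div_cancel₀ _ hx]
      obtain ⟨s', hs'⟩ : ∃ s', s' = y / x := ⟨_, rfl⟩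
      rw [← hs'] at hxy'
      have hss' : s' + σ s' = 0 := by
        rw [hxy'] at hzz
        simp only [hs.smul_left, hs.smul_right, hs.add_left, hs.add_right, Pp.uu, Pp.vv, Pp.uv, Pp.vu, mul_one, mul_zero,
          zero_add, add_zero] at hzz
        have : x * σ x * (s' + σ s') = 0 := by linear_combination hzz
        exact (mul_eq_zero.mp this).resolve_left (mul_ne_zero hx fun e => hx ((map_eq_zero σ).mp e))
      obtain ⟨k, -, hk⟩ := hσ.exists_transvection Pp.vv hss'
      have hku : (k : Matrix (Fin 3) (Fin 3) F) *ᵥ u = u + s' • v := by rw [hk, Pp.uv, mul_one]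
      have hkM := hallv s' hss' k hk
      have hgu : Tv q g (u + s' • v) (c' * x * σ x) := tv_smul hσ x (hxy' ▸ hg)
      have hcx : c' * x * σ x + σ (c' * x * σ x) = 0 := by
        rw [map_mul, map_mul, hσ.involutive]; linear_combination x * σ x * hc'
      obtain ⟨g₀, -, hg₀⟩ := hσ.exists_transvection huu hcx
      have := tv_conj (D.le hkM).1 (show Tv q g₀ u (c' * x * σ x) from hg₀)
      rw [hku] at this
      rw [tv_unique hgu this]
      exact mul_mem (mul_mem hkM (hall _ hcx g₀ hg₀)) (inv_mem hkM)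
  · rw [ht, hew] at ha
    have h := congrArg (fun x => hermForm 3 F q x u) ha
    simp only [hs.add_left, hs.smul_left, hw, Pp.uu, orth_swp hσ Pp.ue, Pp.vu] at h
    ring_nf at h
    exact mul_ne_zero hd0 hee (by linear_combination h)

end

end Cfsg.Agent.Classical.UThree
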