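/-
Real structures in the unitary space of dimension three: frames and point stabilisers.
-/
import Cfsg.Agent.Lib.Classical.UThree.SubSetup
import Cfsg.Agent.Lib.Classical.UThree.Pts

set_option autoImplicit false
set_option linter.unusedSectionVars false
set_option linter.style.haveILetI false
set_option maxHeartbeats 400000

namespace Cfsg.Agent.Classical.UThree

open Matrix Cfsg.Geo
open Cfsg.Agent.Classical
open Cfsg.Agent.Classical.UOver (Tv tv_unique tv_conj tv_smul tv_mem)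

variable {F : Type*} [Field F] [Fintype F]

/-- An overgroup of the scalars times the real elements. -/
structure OData (q : ℕ) (σ : F ≃+* F) (P : GL (Fin 3) F) (K : Subgroup (GL (Fin 3) F)) : Prop where
  sig : IsUSigma q σ
  seven : 7 ≤ q
  h2 : (2 : F) ≠ 0
  le : K ≤ suGL 3 F q
  form : ∀ x y, Rv (fixedField σ) P x → Rv (fixedField σ) P y → hermForm 3 F q x y ∈ fixedField σ
  base : ∀ g ∈ suGL 3 F q, (∃ l : F, l ≠ 0 ∧ ∀ x, Rv (fixedField σ) P x →
    Rv (fixedField σ) P (l • ((g : Matrix (Fin 3) (Fin 3) F) *ᵥ x))) → g ∈ K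

/-- The shape of a real element fixing the line of `u`. -/
def RShape (ν : F) (u e v : Fin 3 → F) (g : GL (Fin 3) F) (a x : F) : Prop :=
  Par3 u e v g a 1 a⁻¹ (-(a * ν * x)) x (-(a * ν * (x * x)) / 2)

variable {q : ℕ} {σ : F ≃+* F} {P : GL (Fin 3) F} {K : Subgroup (GL (Fin 3) F)}

variable (D : OData q σ P K)

include D

theorem real_fix {x y : Fin 3 → F} (hx : Rv (fixedField σ) P x) (hy : Rv (fixedField σ) P y) :
    σ (hermForm 3 F q x y) = hermForm 3 F q x y := mem_fixedField.mp (D.form x y hx hy)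

theorem real_swp {x y : Fin 3 → F} (hx : Rv (fixedField σ) P x) (hy : Rv (fixedField σ) P y) :
    hermForm 3 F q y x = hermForm 3 F q x y := by rw [swp D.sig x y, real_fix D hx hy]

theorem two_mem : (2 : F) ∈ fixedField σ := by exact_mod_cast natCast_mem (fixedField σ) 2

/-- The rational coordinate vectors span. -/
theorem real_span {y : Fin 3 → F}
    (h : ∀ j : Fin 3, hermForm 3 F q ((P : Matrix (Fin 3) (Fin 3) F) *ᵥ Pi.single j 1) y = 0) : y = 0 := by
  by_contra hy
  have hs := sf D.sig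
  obtain ⟨z, hz⟩ := (D.sig.isUnitaryForm.nondegenerate y hy).1
  refine hz ?_
  obtain ⟨w, rfl⟩ : ∃ w, z = (P : Matrix (Fin 3) (Fin 3) F) *ᵥ w :=
    ⟨_, (gl_mulVec_inv_cancel P z).symm⟩
  have ew : w = w 0 • (Pi.single 0 1 : Fin 3 → F) + w 1 • Pi.single 1 1 + w 2 • Pi.single 2 1 := by
    funext i; fin_cases i <;> simp
  rw [ew]
  simp only [Matrix.mulVec_add, Matrix.mulVec_smul, hs.add_left, hs.smul_left, h, mul_zero, add_zero]

theorem rv_sub {x y : Fin 3 → F} {c : F} (hx : Rv (fixedField σ) P x) (hy : Rv (fixedField σ) P y)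
    (hc : c ∈ fixedField σ) : Rv (fixedField σ) P (x + (-c) • y) := hx.add (hy.smul (neg_mem hc))

/-- A real vector off one that is perpendicular to a given one. -/
theorem exists_perp_vec {a : Fin 3 → F} (ha : Rv (fixedField σ) P a) (haa : hermForm 3 F q a a ≠ 0)
    {b : Fin 3 → F} (hb : Rv (fixedField σ) P b) :
    ∃ c, Rv (fixedField σ) P c ∧ hermForm 3 F q c a = 0 ∧ c = b + (-(hermForm 3 F q b a / hermForm 3 F q a a)) • a :=
  ⟨_, rv_sub D hb ha (div_mem (D.form _ _ hb ha) (D.form _ _ ha ha)), decomp D.sig haa b, rfl⟩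

theorem exists_real_aniso {S : (Fin 3 → F) → Prop} (hadd : ∀ x y, S x → S y → S (x + y))
    {x y : Fin 3 → F} (hxR : Rv (fixedField σ) P x) (hyR : Rv (fixedField σ) P y) (hx : S x) (hy : S y)
    (hxy : hermForm 3 F q x y ≠ 0) :
    ∃ z, Rv (fixedField σ) P z ∧ S z ∧ hermForm 3 F q z z ≠ 0 := by
  have hs := sf D.sig
  by_cases h1 : hermForm 3 F q x x = 0
  swap
  · exact ⟨x, hxR, hx, h1⟩
  by_cases h2 : hermForm 3 F q y y = 0
  swap
  · exact ⟨y, hyR, hy, h2⟩
  refine ⟨x + y, hxR.add hyR, hadd x y hx hy, ?_⟩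
  rw [hs.add_left, hs.add_right, hs.add_right, h1, h2, real_swp D hxR hyR, zero_add, add_zero, ← two_mul]
  exact mul_ne_zero D.h2 hxy

/-- An isotropic real vector. -/
theorem exists_real_iso : ∃ w : Fin 3 → F, w ≠ 0 ∧ Rv (fixedField σ) P w ∧ hermForm 3 F q w w = 0 := by
  classical
  have hs := sf D.sig
  let col : Fin 3 → (Fin 3 → F) := fun j => (P : Matrix (Fin 3) (Fin 3) F) *ᵥ Pi.single j 1
  have hcol : ∀ j, Rv (fixedField σ) P (col j) := fun j => rv_col j
  obtain ⟨j, hj⟩ : ∃ j, hermForm 3 F q (col j) (col 0) ≠ 0 := by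
    by_contra hcon
    push Not at hcon
    have h := real_span D hcon
    have := congrArg (fun z => ((P⁻¹ : GL (Fin 3) F) : Matrix (Fin 3) (Fin 3) F) *ᵥ z) h
    simp only [col, gl_inv_mulVec_cancel, Matrix.mulVec_zero] at this
    exact one_ne_zero (α := F) (by simpa using congrFun this 0)
  obtain ⟨a, haR, -, haa⟩ := exists_real_aniso D (S := fun _ => True) (fun _ _ _ _ => trivial) (hcol j) (hcol 0)
    trivial trivial hj
  choose c hcR hca hcd using fun j => exists_perp_vec D haR haa (hcol j)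
  obtain ⟨i, k, hik⟩ : ∃ i k, hermForm 3 F q (c i) (c k) ≠ 0 := by
    by_contra hcon
    push Not at hcon
    have hc0 : ∀ k, c k = 0 := fun k => real_span D fun i => by
      have : col i = c i + (hermForm 3 F q (col i) a / hermForm 3 F q a a) • a := by rw [hcd i]; module
      rw [show ((P : Matrix (Fin 3) (Fin 3) F) *ᵥ Pi.single i 1) = col i from rfl, this, hs.add_left, hs.smul_left,
        hcon, orth_swp D.sig (hca k), mul_zero, add_zero]
    obtain ⟨w, hw0, hwa, -⟩ := exists_kernel D.sig a a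
    refine hw0 (real_span D fun i => ?_)
    have : col i = (hermForm 3 F q (col i) a / hermForm 3 F q a a) • a := by
      have := hcd i
      rw [hc0 i] at this
      linear_combination (norm := module) -this
    rw [show ((P : Matrix (Fin 3) (Fin 3) F) *ᵥ Pi.single i 1) = col i from rfl, this, hs.smul_left,
      orth_swp D.sig hwa, mul_zero]
  obtain ⟨b, hbR, hba, hbb⟩ := exists_real_aniso D (S := fun x => hermForm 3 F q x a = 0)
    (fun x y hx hy => by show hermForm 3 F q (x + y) a = 0; rw [hs.add_left, hx, hy, add_zero]) (hcR i) (hcR k) (hca i) (hca k) hik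
  choose e heR heb hed using fun j => exists_perp_vec D hbR hbb (hcR j)
  have hea : ∀ j, hermForm 3 F q (e j) a = 0 := fun j => by
    rw [hed j, hs.add_left, hs.smul_left, hca, hba, mul_zero, add_zero]
  obtain ⟨l, hl⟩ : ∃ l, e l ≠ 0 := by
    by_contra hcon
    push Not at hcon
    obtain ⟨w, hw0, hwa, hwb⟩ := exists_kernel D.sig a b
    refine hw0 (real_span D fun i => ?_)
    have h1 : c i = (hermForm 3 F q (c i) b / hermForm 3 F q b b) • b := by
      have := hed i
      rw [hcon i] at this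
      linear_combination (norm := module) -this
    have h2 : col i = c i + (hermForm 3 F q (col i) a / hermForm 3 F q a a) • a := by rw [hcd i]; module
    rw [show ((P : Matrix (Fin 3) (Fin 3) F) *ᵥ Pi.single i 1) = col i from rfl, h2, hs.add_left, hs.smul_left, h1,
      hs.smul_left, orth_swp D.sig hwa, orth_swp D.sig hwb, mul_zero, mul_zero, add_zero]
  by_cases hll : hermForm 3 F q (e l) (e l) = 0
  · exact ⟨e l, hl, heR l, hll⟩
  obtain ⟨A, hA⟩ : ∃ A : fixedField σ, (A : F) = hermForm 3 F q a a := ⟨⟨_, D.form _ _ haR haR⟩, rfl⟩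
  obtain ⟨B, hB⟩ : ∃ B : fixedField σ, (B : F) = hermForm 3 F q b b := ⟨⟨_, D.form _ _ hbR hbR⟩, rfl⟩
  obtain ⟨C, hC⟩ : ∃ C : fixedField σ, (C : F) = hermForm 3 F q (e l) (e l) := ⟨⟨_, D.form _ _ (heR l) (heR l)⟩, rfl⟩
  haveI : Fintype (fixedField σ) := Fintype.ofFinite _
  obtain ⟨s, t, hst⟩ := FiniteField.exists_root_sum_quadratic
    (f := Polynomial.C A * Polynomial.X ^ 2) (g := Polynomial.C B * Polynomial.X ^ 2 + Polynomial.C C)
    (Polynomial.degree_C_mul_X_pow 2 fun h => haa (by rw [← hA, h]; rfl))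
    (by
      rw [Polynomial.degree_add_eq_left_of_degree_lt, Polynomial.degree_C_mul_X_pow 2 fun h => hbb (by rw [← hB, h]; rfl)]
      · rfl
      · rw [Polynomial.degree_C_mul_X_pow 2 fun h => hbb (by rw [← hB, h]; rfl)]
        exact lt_of_le_of_lt Polynomial.degree_C_le (by norm_num))
    (by
      rw [← Nat.card_eq_fintype_card, D.sig.card_fixed]
      exact Nat.odd_iff.mp ((D.sig.odd_iff).mpr D.h2))
  have hst' := congrArg (fun z : fixedField σ => (z : F)) hst
  simp only [Polynomial.eval_add, Polynomial.eval_mul, Polynomial.eval_pow, Polynomial.eval_C, Polynomial.eval_X,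
    Subfield.coe_add, Subfield.coe_mul, SubmonoidClass.coe_pow, ZeroMemClass.coe_zero, hA, hB, hC] at hst'
  refine ⟨(s : F) • a + (t : F) • b + e l, fun h => hll ?_, ((haR.smul s.2).add (hbR.smul t.2)).add (heR l), ?_⟩
  · have := congrArg (fun z => hermForm 3 F q z (e l)) h
    simpa [hs.add_left, hs.smul_left, orth_swp D.sig (hea l), orth_swp D.sig (heb l), herm_zero_left D.sig] using this
  · simp only [hs.add_left, hs.add_right, hs.smul_left, hs.smul_right, hba, hea l, heb l, orth_swp D.sig hba,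
      orth_swp D.sig (hea l), orth_swp D.sig (heb l), mem_fixedField.mp s.2, mem_fixedField.mp t.2]
    linear_combination hst'

/-- A frame through an isotropic real vector. -/
theorem exists_rframe {u : Fin 3 → F} (hu0 : u ≠ 0) (hu : Rv (fixedField σ) P u) (huu : hermForm 3 F q u u = 0) :
    ∃ e v, RFr q (fixedField σ) P u e v := by
  classical
  have hσ := D.sig
  have hs := sf hσ
  let col : Fin 3 → (Fin 3 → F) := fun j => (P : Matrix (Fin 3) (Fin 3) F) *ᵥ Pi.single j 1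
  have hcol : ∀ j, Rv (fixedField σ) P (col j) := fun j => rv_col j
  obtain ⟨j, hj⟩ : ∃ j, hermForm 3 F q (col j) u ≠ 0 := by
    by_contra hcon
    push Not at hcon
    exact hu0 (real_span D hcon)
  obtain ⟨y, hy⟩ : ∃ y, y = (hermForm 3 F q (col j) u)⁻¹ • col j := ⟨_, rfl⟩
  have hyR : Rv (fixedField σ) P y := hy ▸ (hcol j).smul (inv_mem (D.form _ _ (hcol j) hu))
  have hyu : hermForm 3 F q y u = 1 := by rw [hy, hs.smul_left, inv_mul_cancel₀ hj]
  obtain ⟨s, hs'⟩ : ∃ s, s = -hermForm 3 F q y y / 2 := ⟨_, rfl⟩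
  have hsF : s ∈ fixedField σ := hs' ▸ div_mem (neg_mem (D.form _ _ hyR hyR)) (two_mem D)
  obtain ⟨v, hv⟩ : ∃ v, v = y + s • u := ⟨_, rfl⟩
  have hvR : Rv (fixedField σ) P v := hv ▸ hyR.add (hu.smul hsF)
  have hvu : hermForm 3 F q v u = 1 := by rw [hv, hs.add_left, hs.smul_left, hyu, huu, mul_zero, add_zero]
  have huv : hermForm 3 F q u v = 1 := by rw [swp hσ v u, hvu, map_one]
  have hvv : hermForm 3 F q v v = 0 := by
    rw [hv, hs.add_left, hs.add_right, hs.add_right, hs.smul_left, hs.smul_left, hs.smul_right, hs.smul_right, huu,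
      hyu, swp hσ y u, hyu, map_one, mem_fixedField.mp hsF, hs']
    have := D.h2
    field_simp; ring
  let e : Fin 3 → (Fin 3 → F) := fun i =>
    col i + (-hermForm 3 F q (col i) v) • u + (-hermForm 3 F q (col i) u) • v
  have heu : ∀ i, hermForm 3 F q (e i) u = 0 := fun i => by
    simp only [e, hs.add_left, hs.smul_left, huu, hvu]; ring
  have hev : ∀ i, hermForm 3 F q (e i) v = 0 := fun i => by
    simp only [e, hs.add_left, hs.smul_left, huv, hvv]; ring
  obtain ⟨w, hw0, hwu, hwv⟩ := exists_kernel hσ u v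
  obtain ⟨i, hi⟩ : ∃ i, hermForm 3 F q (e i) w ≠ 0 := by
    by_contra hcon
    push Not at hcon
    refine hw0 (real_span D fun i => ?_)
    have : col i = e i + hermForm 3 F q (col i) v • u + hermForm 3 F q (col i) u • v := by simp only [e]; module
    rw [show ((P : Matrix (Fin 3) (Fin 3) F) *ᵥ Pi.single i 1) = col i from rfl, this, hs.add_left, hs.add_left,
      hs.smul_left, hs.smul_left, hcon, orth_swp hσ hwu, orth_swp hσ hwv, mul_zero, mul_zero, add_zero, add_zero]
  have hzero : ∀ d, hermForm 3 F q d u = 0 → hermForm 3 F q d v = 0 → hermForm 3 F q d (e i) = 0 → d = 0 := by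
    intro d d1 d2 d3
    by_contra hd0
    have hli : LinearIndependent F ![u, v, e i] := by
      rw [Fintype.linearIndependent_iff]
      intro a ha
      simp only [Fin.sum_univ_three, Matrix.cons_val_zero, Matrix.cons_val_one, Matrix.cons_val] at ha
      have a1 := congrArg (fun z => hermForm 3 F q z v) ha
      have a2 := congrArg (fun z => hermForm 3 F q z u) ha
      simp only [hs.add_left, hs.smul_left, huv, hvu, hvv, huu, heu, hev, herm_zero_left hσ, mul_zero, mul_one,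
        add_zero, zero_add] at a1 a2
      rw [a1, a2, zero_smul, zero_smul, zero_add, zero_add] at ha
      intro k; fin_cases k
      exacts [a1, a2, (smul_eq_zero.mp ha).resolve_right (ne_zero_of_herm hσ hi).1]
    obtain ⟨z, hz⟩ := (hσ.isUnitaryForm.nondegenerate d hd0).2
    obtain ⟨a, rfl⟩ := (Submodule.mem_span_range_iff_exists_fun F).mp
      (show z ∈ Submodule.span F (Set.range ![u, v, e i]) by
        rw [hli.span_eq_top_of_card_eq_finrank (by simp)]; trivial)
    simp only [Fin.sum_univ_three, Matrix.cons_val_zero, Matrix.cons_val_one, Matrix.cons_val, hs.add_right,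
      hs.smul_right, d1, d2, d3, mul_zero, add_zero] at hz
    exact hz rfl
  have hee : hermForm 3 F q (e i) (e i) ≠ 0 := fun h =>
    (ne_zero_of_herm hσ hi).1 (hzero _ (heu i) (hev i) h)
  refine ⟨e i, v, hu, ?_, hvR, ⟨huu, hvv, huv, hvu, orth_swp hσ (heu i), orth_swp hσ (hev i), fun z hz => ?_⟩, hee⟩
  · exact ((hcol i).add (hu.smul (neg_mem (D.form _ _ (hcol i) hvR)))).add (hvR.smul (neg_mem (D.form _ _ (hcol i) hu)))
  · refine sub_eq_zero.mp (hzero _ ?_ ?_ ?_) <;>
      simp [sub_eq_add_neg, ← neg_smul, hs.add_left, hs.smul_left, huu, hvv, huv, hvu, hz, orth_swp hσ (heu i),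
        orth_swp hσ (hev i)]

/-- A scalar. -/
theorem scal_mem {ω : F} (h3 : ω ^ 3 = 1) (hN : ω * σ ω = 1) :
    ∃ g ∈ K, (g : Matrix (Fin 3) (Fin 3) F) = ω • 1 := by
  have hω : ω ≠ 0 := left_ne_zero_of_mul_eq_one hN
  have hd : (ω • (1 : Matrix (Fin 3) (Fin 3) F)).det = 1 := by
    rw [Matrix.det_smul, Matrix.det_one, mul_one, Fintype.card_fin, h3]
  refine ⟨GeneralLinearGroup.mkOfDetNeZero (ω • (1 : Matrix (Fin 3) (Fin 3) F)) (by rw [hd]; exact one_ne_zero),
    D.base _ ⟨mem_GU_iff.mpr fun x y => ?_, mem_specialLinear_iff.mpr hd⟩ ⟨ω⁻¹, inv_ne_zero hω, fun x hx => ?_⟩, rfl⟩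
  · show hermForm 3 F q ((ω • (1 : Matrix (Fin 3) (Fin 3) F)) *ᵥ x) ((ω • (1 : Matrix (Fin 3) (Fin 3) F)) *ᵥ y) = _
    rw [Matrix.smul_mulVec, Matrix.smul_mulVec, Matrix.one_mulVec, Matrix.one_mulVec, (sf D.sig).smul_left,
      (sf D.sig).smul_right, ← mul_assoc, hN, one_mul]
  · show Rv _ _ (ω⁻¹ • ((ω • (1 : Matrix (Fin 3) (Fin 3) F)) *ᵥ x))
    rwa [Matrix.smul_mulVec, Matrix.one_mulVec, inv_smul_smul₀ hω]

section Frame

variable {u e v : Fin 3 → F} (R : RFr q (fixedField σ) P u e v)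

include R

theorem nu_fix : σ (hermForm 3 F q e e) = hermForm 3 F q e e := real_fix D R.re R.re

/-- The real elements fixing the line of `u`. -/
theorem exists_real {a x : F} (ha : a ∈ fixedField σ) (ha0 : a ≠ 0) (hx : x ∈ fixedField σ) :
    ∃ g ∈ K, RShape (hermForm 3 F q e e) u e v g a x := by
  have hσ := D.sig
  obtain ⟨ν, hν⟩ : ∃ ν, ν = hermForm 3 F q e e := ⟨_, rfl⟩
  have hνF : ν ∈ fixedField σ := hν ▸ D.form _ _ R.re R.re
  have haσ := mem_fixedField.mp ha
  have hxσ := mem_fixedField.mp hx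
  have hνσ := mem_fixedField.mp hνF
  have h2 := D.h2
  obtain ⟨g, hg, hP⟩ := exists_of_par hσ R.pair R.ee (r := -(a * ν * x)) (s := x) (t := -(a * ν * (x * x)) / 2) ha0
    (by rw [← hν, map_neg, map_mul, map_mul, haσ, hxσ, hνσ]; field_simp; ring)
    (by rw [← hν, map_div₀, map_neg, map_mul, map_mul, map_mul, haσ, hxσ, hνσ, map_ofNat]; field_simp; ring)
  rw [haσ, div_self ha0] at hP
  refine ⟨g, D.base g hg ⟨1, one_ne_zero, fun z hz => ?_⟩, by rw [← hν]; exact hP⟩
  rw [one_smul, pair_dec hσ R.pair R.ee z, Matrix.mulVec_add, Matrix.mulVec_add, Matrix.mulVec_smul,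
    Matrix.mulVec_smul, Matrix.mulVec_smul, hP.gu, hP.ge, hP.gv]
  exact (((R.ru.smul ha).smul (D.form _ _ hz R.rv)).add
    (((R.re.smul (one_mem _)).add (R.ru.smul (neg_mem (mul_mem (mul_mem ha hνF) hx)))).smul
      (div_mem (D.form _ _ hz R.re) (D.form _ _ R.re R.re)))).add
    ((((R.rv.smul (inv_mem ha)).add (R.re.smul hx)).add
      (R.ru.smul (div_mem (neg_mem (mul_mem (mul_mem ha hνF) (mul_mem hx hx))) (two_mem D)))).smul
      (D.form _ _ hz R.ru))

/-- The frame read from the other point. -/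
theorem rfr_swap : RFr q (fixedField σ) P v e u :=
  ⟨R.rv, R.re, R.ru, ⟨R.pair.vv, R.pair.uu, R.pair.vu, R.pair.uv, R.pair.ve, R.pair.ue, fun w hw => by
    conv_lhs => rw [R.pair.span w hw, add_comm]⟩, R.ee⟩

/-- An element carrying `u` to `v`. -/
theorem exists_swap : ∃ g ∈ K, ∃ m : F, m ≠ 0 ∧ (g : Matrix (Fin 3) (Fin 3) F) *ᵥ u = m • v := by
  have hσ := D.sig
  have h2 := D.h2
  obtain ⟨g', hg', hs'⟩ := exists_real D (rfr_swap D R) (one_mem _) one_ne_zero (one_mem (fixedField σ))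
  obtain ⟨t, ht⟩ : ∃ t, t = -hermForm 3 F q e e / 2 := ⟨_, rfl⟩
  have htF : t ∈ fixedField σ := ht ▸ div_mem (neg_mem (D.form _ _ R.re R.re)) (two_mem D)
  have ht0 : t ≠ 0 := ht ▸ div_ne_zero (neg_ne_zero.mpr R.ee) h2
  obtain ⟨n, hn, hns⟩ := exists_real D R (one_mem _) one_ne_zero (inv_mem htF)
  refine ⟨n⁻¹ * g', mul_mem (inv_mem hn) hg', t, ht0, ?_⟩
  have e1 : (g' : Matrix (Fin 3) (Fin 3) F) *ᵥ u = (n : Matrix (Fin 3) (Fin 3) F) *ᵥ (t • v) := by
    rw [hs'.gv, Matrix.mulVec_smul, hns.gv, ht]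
    have hν0 := R.ee
    match_scalars <;> field_simp
  rw [gl_mul_mulVec, e1, gl_inv_mulVec_cancel]

/-- A transvection at `u` gives everything. -/
theorem no_tv {c : F} (hc0 : c ≠ 0) (hc : c + σ c = 0) (hcK : ∀ g, Tv q g u c → g ∈ K) : suGL 3 F q ≤ K := by
  classical
  have hσ := D.sig
  have hs := sf hσ
  have huu := R.pair.uu
  let S : AddSubgroup F :=
    { carrier := {x | σ x = x ∧ ∀ g, Tv q g u (c * x) → g ∈ K}
      zero_mem' := ⟨map_zero σ, fun g hg => by
        rw [show g = 1 from gl_ext_mulVec fun z => by simp [hg z]]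
        exact one_mem K⟩
      add_mem' := fun {x y} hx hy => ⟨by rw [map_add, hx.1, hy.1], fun g hg => by
        obtain ⟨g₁, -, hg₁⟩ := hσ.exists_transvection huu (c := c * x) (by rw [map_mul, hx.1, ← add_mul, hc, zero_mul])
        obtain ⟨g₂, -, hg₂⟩ := hσ.exists_transvection huu (c := c * y) (by rw [map_mul, hy.1, ← add_mul, hc, zero_mul])
        rw [show g = g₁ * g₂ from gl_ext_mulVec fun z => by
          rw [hg z, gl_mul_mulVec, hg₂ z, hg₁, hs.add_left, hs.smul_left, huu]; module]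
        exact mul_mem (hx.2 g₁ hg₁) (hy.2 g₂ hg₂)⟩
      neg_mem' := fun {x} hx => ⟨by rw [map_neg, hx.1], fun g hg => by
        obtain ⟨g₁, -, hg₁⟩ := hσ.exists_transvection huu (c := c * x) (by rw [map_mul, hx.1, ← add_mul, hc, zero_mul])
        rw [show g = g₁⁻¹ from (inv_eq_of_mul_eq_one_left (gl_ext_mulVec fun z => by
          rw [gl_mul_mulVec, hg₁ z, hg, hs.add_left, hs.smul_left, huu, Units.val_one, Matrix.one_mulVec]
          module)).symm]
        exact inv_mem (hx.2 g₁ hg₁)⟩ }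
  have hsq : ∀ a, σ a = a → a ≠ 0 → a * a ∈ S := fun a ha ha0 => ⟨by rw [map_mul, ha], fun g hg => by
    obtain ⟨h, hhK, hh⟩ := exists_real D R (mem_fixedField.mpr ha) ha0 (zero_mem _)
    obtain ⟨g₀, -, hg₀⟩ := hσ.exists_transvection huu hc
    have h1 := tv_conj (D.le hhK).1 (show Tv q g₀ u c from hg₀)
    rw [hh.gu] at h1
    have h1' := tv_smul hσ a h1
    rw [ha, show c * a * a = c * (a * a) by ring] at h1'
    rw [tv_unique hg h1']
    exact mul_mem (mul_mem hhK (hcK g₀ hg₀)) (inv_mem hhK)⟩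
  have hone : (1 : F) ∈ S := by simpa using hsq 1 (map_one σ) one_ne_zero
  obtain ⟨p, hchar⟩ := CharP.exists F
  haveI := hchar
  obtain ⟨m, hp, -⟩ := FiniteField.card F p
  have hp2 : p ≠ 2 := fun h => D.h2 (by
    rw [show (2 : F) = ((2 : ℕ) : F) by norm_num, ← h]; exact CharP.cast_eq_zero F p)
  obtain ⟨k, hk⟩ := hp.odd_of_ne_two hp2
  have hall : ∀ x, σ x = x → x ∈ S := fun x hx => by
    by_cases hx0 : x = 0
    · rw [hx0]; exact S.zero_mem
    have hx1 : (x + 1) * (x + 1) ∈ S := by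
      by_cases h : x + 1 = 0
      · rw [h, zero_mul]; exact S.zero_mem
      · exact hsq _ (by rw [map_add, hx, map_one]) h
    have h2x : (2 : F) * x ∈ S := by
      have := S.sub_mem (S.sub_mem hx1 (hsq x hx hx0)) hone
      convert this using 1; ring
    have := S.nsmul_mem h2x (k + 1)
    convert this using 1
    rw [nsmul_eq_mul]
    have h0 : ((2 * k + 1 : ℕ) : F) = 0 := by rw [← hk]; exact CharP.cast_eq_zero F p
    push_cast at h0 ⊢
    linear_combination (-x) * h0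
  have hu : ∀ c', c' + σ c' = 0 → ∀ g, Tv q g u c' → g ∈ K := fun c' hc' g hg => by
    refine (hall (c' / c) ?_).2 g (by rwa [mul_div_cancel₀ _ hc0])
    rw [map_div₀, eq_neg_of_add_eq_zero_right hc', eq_neg_of_add_eq_zero_right hc, neg_div_neg_eq]
  obtain ⟨w, hw, m, hm, hwu⟩ := exists_swap D R
  have hv : ∀ c', c' + σ c' = 0 → ∀ g, Tv q g v c' → g ∈ K := fun c' hc' g hg => by
    have hm' : m * σ m ≠ 0 := mul_ne_zero hm fun e0 => hm ((map_eq_zero σ).mp e0)
    have hsk : c' / (m * σ m) + σ (c' / (m * σ m)) = 0 := by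
      rw [map_div₀, map_mul, hσ.involutive, mul_comm (σ m), ← add_div, hc', zero_div]
    obtain ⟨g₀, -, hg₀⟩ := hσ.exists_transvection huu hsk
    have h1 := tv_conj (D.le hw).1 (show Tv q g₀ u (c' / (m * σ m)) from hg₀)
    rw [hwu] at h1
    have h1' := tv_smul hσ m h1
    have e0 : c' / (m * σ m) * m * σ m = c' := by rw [mul_assoc, div_mul_cancel₀ _ hm']
    rw [e0] at h1'
    rw [tv_unique hg h1']
    exact mul_mem (mul_mem hw (hu _ hsk g₀ hg₀)) (inv_mem hw)
  obtain ⟨n, hn, hns⟩ := exists_real D R (one_mem _) one_ne_zero (one_mem (fixedField σ))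
  refine full_of_two_roots hσ R.pair R.ee (by have := D.seven; omega) D.le hu hv hn fun a ha => R.ee ?_
  rw [hns.ge] at ha
  have := congrArg (fun z => hermForm 3 F q z v) ha
  simp only [hs.add_left, hs.smul_left, R.pair.uv, orth_swp hσ R.pair.ve, mul_zero, zero_add, mul_one] at this
  linear_combination -this

variable (hfull : ¬ suGL 3 F q ≤ K)

include hfull

theorem unip_shape {g : GL (Fin 3) F} (hg : g ∈ K) (hgu : (g : Matrix (Fin 3) (Fin 3) F) *ᵥ u = u) :
    ∃ x ∈ fixedField σ, RShape (hermForm 3 F q e e) u e v g 1 x := by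
  have hσ := D.sig
  have hs := sf hσ
  have h2 := D.h2
  have Pp := R.pair
  obtain ⟨-, r, s, t, hP, h1, h3⟩ := exists_par hσ Pp R.ee (D.le hg) (l := 1) (by rw [one_smul]; exact hgu)
  obtain ⟨-, he, hv⟩ := hP
  simp only [map_one, div_one, inv_one, one_smul, mul_one] at he hv h1 h3
  obtain ⟨ν, hν⟩ : ∃ ν, ν = hermForm 3 F q e e := ⟨_, rfl⟩
  rw [← hν] at h1 h3
  have hν0 : ν ≠ 0 := hν ▸ R.ee
  have hνσ : σ ν = ν := hν ▸ nu_fix D R
  have hr : r = -(σ s * ν) := by
    have := congrArg σ h1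
    rw [map_add, map_mul, hσ.involutive, hνσ, map_zero] at this
    exact eq_neg_of_add_eq_zero_left this
  have kill : ∀ (δ : F) (T : GL (Fin 3) F), δ + σ δ = 0 → Tv q T u δ → T ∈ K → δ = 0 := fun δ T hδ hT hTK => by
    by_contra h0
    exact hfull (no_tv D R h0 hδ fun k hk => by rw [tv_unique hk hT]; exact hTK)
  obtain ⟨n, hn, hns⟩ := exists_real D R (one_mem _) one_ne_zero (one_mem (fixedField σ))
  obtain ⟨hnu, hne, hnv⟩ := hns
  simp only [one_smul, inv_one, one_mul, mul_one, ← hν] at hnu hne hnv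
  have hsσ : σ s = s := by
    have hδ : (ν * (s - σ s)) + σ (ν * (s - σ s)) = 0 := by rw [map_mul, map_sub, hνσ, hσ.involutive]; ring
    obtain ⟨T, -, hT⟩ := hσ.exists_transvection Pp.uu hδ
    have hTK : T ∈ K := by
      have e0 : T * (n * g) = g * n := by
        refine pair_ext hσ Pp R.ee ?_ ?_ ?_ <;>
          simp only [gl_mul_mulVec, hgu, he, hv, hnu, hne, hnv, hT _, Matrix.mulVec_add, Matrix.mulVec_smul,
            hs.add_left, hs.smul_left, Pp.uu, Pp.vu, orth_swp hσ Pp.ue, hr] <;>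
          match_scalars <;> ring
      rw [show T = g * n * (n * g)⁻¹ by rw [← e0, mul_inv_cancel_right]]
      exact mul_mem (mul_mem hg hn) (inv_mem (mul_mem hn hg))
    have := kill _ T hδ hT hTK
    exact (sub_eq_zero.mp ((mul_eq_zero.mp this).resolve_left hν0)).symm
  refine ⟨s, mem_fixedField.mpr hsσ, ?_⟩
  obtain ⟨h, hh, hhs⟩ := exists_real D R (one_mem _) one_ne_zero (mem_fixedField.mpr hsσ)
  obtain ⟨hhu, hhe, hhv⟩ := hhs
  simp only [one_smul, inv_one, one_mul, ← hν] at hhu hhe hhv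
  obtain ⟨δ, hδd⟩ : ∃ δ, δ = t - -(ν * (s * s)) / 2 := ⟨_, rfl⟩
  rw [hsσ] at h3
  have hδ : δ + σ δ = 0 := by
    rw [hδd, map_sub, map_div₀, map_neg, map_mul, map_mul, hνσ, hsσ, map_ofNat]
    field_simp; linear_combination 2 * h3
  obtain ⟨T, -, hT⟩ := hσ.exists_transvection Pp.uu hδ
  have e0 : T * h = g := by
    refine pair_ext hσ Pp R.ee ?_ ?_ ?_ <;>
      simp only [gl_mul_mulVec, hgu, he, hv, hhu, hhe, hhv, hT _, Matrix.mulVec_add, Matrix.mulVec_smul,
        hs.add_left, hs.smul_left, Pp.uu, Pp.vu, orth_swp hσ Pp.ue, hr, hsσ, hδd] <;>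
      match_scalars <;> ring
  have hδ0 := kill δ T hδ hT (by rw [show T = g * h⁻¹ by rw [← e0, mul_inv_cancel_right]]; exact mul_mem hg (inv_mem hh))
  have ht : t = -(ν * (s * s)) / 2 := by rw [hδd] at hδ0; exact sub_eq_zero.mp hδ0
  refine ⟨?_, ?_, ?_⟩
  · rw [one_smul]; exact hgu
  · rw [one_smul, he, hr, hsσ, ← hν, one_mul, mul_comm s ν]
  · rw [inv_one, one_smul, hv, ht, ← hν, one_mul]

/-- The elements of an overgroup fixing the line of `u` are scalars times real ones. -/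
theorem stab_shape {g : GL (Fin 3) F} (hg : g ∈ Stab K u) :
    ∃ ω a x : F, ω ^ 3 = 1 ∧ ω * σ ω = 1 ∧ a ∈ fixedField σ ∧ a ≠ 0 ∧ x ∈ fixedField σ ∧
      Par3 u e v g (ω * a) ω (ω * a⁻¹) (ω * -(a * hermForm 3 F q e e * x)) (ω * x)
        (ω * (-(a * hermForm 3 F q e e * (x * x)) / 2)) := by
  have hσ := D.sig
  have hs := sf hσ
  have Pp := R.pair
  obtain ⟨hgK, l, hgu⟩ := mem_Stab.mp hg
  obtain ⟨hl, r, s, t, hP, -, -⟩ := exists_par hσ Pp R.ee (D.le hgK) hgu
  have hσl : σ l ≠ 0 := fun h => hl ((map_eq_zero σ).mp h)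
  obtain ⟨n, hn, hns⟩ := exists_real D R (one_mem _) one_ne_zero (one_mem (fixedField σ))
  obtain ⟨m, hm⟩ : ∃ m, m = g * n * g⁻¹ := ⟨_, rfl⟩
  have hmu : (m : Matrix (Fin 3) (Fin 3) F) *ᵥ u = u := by
    have e1 : ((g⁻¹ : GL (Fin 3) F) : Matrix (Fin 3) (Fin 3) F) *ᵥ u = l⁻¹ • u := by
      conv_lhs => rw [← inv_smul_smul₀ hl u, Matrix.mulVec_smul, ← hgu, gl_inv_mulVec_cancel]
    rw [hm, gl_mul_mulVec, gl_mul_mulVec, e1, Matrix.mulVec_smul, hns.gu, one_smul, Matrix.mulVec_smul, hgu,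
      smul_smul, inv_mul_cancel₀ hl, one_smul]
  obtain ⟨y, hyF, hys⟩ := unip_shape D R hfull (hm ▸ mul_mem (mul_mem hgK hn) (inv_mem hgK)) hmu
  have hy : y = σ l * σ l / l := by
    have e1 : m * g = g * n := by rw [hm, inv_mul_cancel_right]
    have h := congrArg (fun k : GL (Fin 3) F => hermForm 3 F q ((k : Matrix (Fin 3) (Fin 3) F) *ᵥ v) e) e1
    simp only [gl_mul_mulVec, hP.gv, hP.ge, hP.gu, hys.gv, hys.ge, hys.gu, hns.gv, Matrix.mulVec_add,
      Matrix.mulVec_smul, hs.add_left, hs.smul_left, Pp.ue, Pp.ve, mul_zero, add_zero, zero_add, one_mul,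
      inv_one] at h
    have h' : (σ l)⁻¹ * y = σ l / l := mul_right_cancel₀ R.ee (by linear_combination h)
    field_simp at h' ⊢
    linear_combination h'
  have hl3 : σ l * σ l / l = l * l / σ l := by
    rw [← hy, ← mem_fixedField.mp hyF, hy, map_div₀, map_mul, hσ.involutive]
  obtain ⟨ω, hω⟩ : ∃ ω, ω = σ l / l := ⟨_, rfl⟩
  have hω3 : ω ^ 3 = 1 := by
    rw [hω]; field_simp at hl3 ⊢; linear_combination hl3
  have hωN : ω * σ ω = 1 := by rw [hω, map_div₀, hσ.involutive]; field_simp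
  have hω0 : ω ≠ 0 := left_ne_zero_of_mul_eq_one hωN
  obtain ⟨a, ha⟩ : ∃ a, a = l / ω := ⟨_, rfl⟩
  have haσ : σ a = a := by
    rw [ha, hω, map_div₀, map_div₀, hσ.involutive]; field_simp; field_simp at hl3; linear_combination hl3
  have ha0 : a ≠ 0 := ha ▸ div_ne_zero hl hω0
  obtain ⟨z, hzK, hz⟩ := scal_mem D hω3 hωN
  obtain ⟨h, hhK, hhs⟩ := exists_real D R (mem_fixedField.mpr haσ) ha0 (zero_mem _)
  have hzv : ∀ w, (z : Matrix (Fin 3) (Fin 3) F) *ᵥ w = ω • w := fun w => by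
    rw [hz, Matrix.smul_mulVec, Matrix.one_mulVec]
  have hku : (((z * h)⁻¹ * g : GL (Fin 3) F) : Matrix (Fin 3) (Fin 3) F) *ᵥ u = u := by
    have e1 : ((z * h : GL (Fin 3) F) : Matrix (Fin 3) (Fin 3) F) *ᵥ u = l • u := by
      rw [gl_mul_mulVec, hhs.gu, hzv, smul_smul, ha, mul_div_cancel₀ _ hω0]
    rw [gl_mul_mulVec, hgu, ← e1, gl_inv_mulVec_cancel]
  obtain ⟨x, hxF, hxs⟩ := unip_shape D R hfull (mul_mem (inv_mem (mul_mem hzK hhK)) hgK) hku
  refine ⟨ω, a, x, hω3, hωN, mem_fixedField.mpr haσ, ha0, hxF, ?_⟩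
  have e2 : g = z * h * ((z * h)⁻¹ * g) := by rw [mul_inv_cancel_left]
  refine ⟨?_, ?_, ?_⟩
  · rw [hgu, ha, mul_div_cancel₀ _ hω0]
  · rw [e2]
    simp only [gl_mul_mulVec, hxs.ge, hxs.gu, hhs.ge, hhs.gu, Matrix.mulVec_add, Matrix.mulVec_smul, hzv]
    match_scalars <;> ring
  · rw [e2]
    simp only [gl_mul_mulVec, hxs.gv, hhs.gv, hhs.ge, hhs.gu, Matrix.mulVec_add, Matrix.mulVec_smul, hzv]
    match_scalars <;> ring

end Frame

end Cfsg.Agent.Classical.UThree
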