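/-
The orbit of a real isotropic point under an overgroup of the real elements.
-/
import Cfsg.Agent.Lib.Classical.UThree.SOSetup
import Cfsg.Agent.Lib.Classical.UThree.Chord
import Cfsg.Agent.Lib.Classical.UThree.Count

set_option autoImplicit false
set_option linter.unusedSectionVars false
set_option linter.style.haveILetI false
set_option maxHeartbeats 400000

namespace Cfsg.Agent.Classical.UThree

open Matrix Cfsg.Geo
open Cfsg.Agent.Classical

/-- A free action. -/
theorem free_dvd {G X : Type*} [Group G] [Finite G] [Finite X] [MulAction G X]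
    (hfree : ∀ (g : G) (x : X), g • x = x → g = 1) : Nat.card G ∣ Nat.card X := by
  classical
  haveI : Fintype (MulAction.orbitRel.Quotient G X) := Fintype.ofFinite _
  rw [Nat.card_congr (MulAction.selfEquivSigmaOrbits' G X), Nat.card_sigma]
  refine Finset.dvd_sum fun ω _ => Quotient.inductionOn' ω fun x => ?_
  have h := Nat.card_congr (MulAction.orbitProdStabilizerEquivGroup G x)
  have hs : MulAction.stabilizer G x = ⊥ := eq_bot_iff.mpr fun g hg => Subgroup.mem_bot.mpr (hfree g x hg)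
  rw [Nat.card_prod, hs, Subgroup.card_bot, mul_one] at h
  rw [MulAction.orbitRel.Quotient.orbit_mk, h]

variable {F : Type*} [Field F] [Fintype F] {q : ℕ} {σ : F ≃+* F} {P : GL (Fin 3) F} {K : Subgroup (GL (Fin 3) F)}

/-- The representative of a line off `u`. -/
def pt (u e v : Fin 3 → F) (β γ : F) : Fin 3 → F := γ • u + β • e + v

/-- The normalised points of the orbit. -/
def Anorm (σ : F ≃+* F) (K : Subgroup (GL (Fin 3) F)) (u e v : Fin 3 → F) : Set (F × F) :=
  {p | p.1 + σ p.1 = 0 ∧ Submodule.span F {pt u e v p.1 p.2} ∈ orb K u}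

theorem orb_map {u : Fin 3 → F} {g : GL (Fin 3) F} (hg : g ∈ K) {w : Fin 3 → F}
    (hw : Submodule.span F {w} ∈ orb K u) :
    Submodule.span F {(g : Matrix (Fin 3) (Fin 3) F) *ᵥ w} ∈ orb K u := by
  obtain ⟨h, hh, he⟩ := hw
  refine ⟨g * h, K.mul_mem hg hh, ?_⟩
  rw [← lineHom_span g w, he, lineHom_span, gl_mul_mulVec]

theorem orb_map_iff {u : Fin 3 → F} {g : GL (Fin 3) F} (hg : g ∈ K) {w : Fin 3 → F} :
    Submodule.span F {(g : Matrix (Fin 3) (Fin 3) F) *ᵥ w} ∈ orb K u ↔ Submodule.span F {w} ∈ orb K u := by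
  refine ⟨fun h => ?_, orb_map hg⟩
  have := orb_map (K.inv_mem hg) h
  rwa [gl_inv_mulVec_cancel] at this

variable (D : OData q σ P K) {u e v : Fin 3 → F} (R : RFr q (fixedField σ) P u e v)

include D R

theorem pt_herm (β γ : F) : hermForm 3 F q (pt u e v β γ) u = 1 ∧
    hermForm 3 F q (pt u e v β γ) e = β * hermForm 3 F q e e ∧ hermForm 3 F q (pt u e v β γ) v = γ := by
  have hs := sf D.sig
  refine ⟨?_, ?_, ?_⟩ <;>
    simp [pt, hs.add_left, hs.smul_left, R.pair.uu, R.pair.vv, R.pair.uv, R.pair.vu, R.pair.ue, R.pair.ve,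
      orth_swp D.sig R.pair.ue, orth_swp D.sig R.pair.ve]

theorem pt_span_inj {β γ β' γ' : F}
    (h : Submodule.span F {pt u e v β γ} = Submodule.span F {pt u e v β' γ'}) : β = β' ∧ γ = γ' := by
  have hs := sf D.sig
  obtain ⟨a1, a2, a3⟩ := pt_herm D R β γ
  obtain ⟨b1, b2, b3⟩ := pt_herm D R β' γ'
  obtain ⟨c, -, hc⟩ := exists_smul_of_span (ne_zero_of_herm D.sig (by rw [a1]; exact one_ne_zero)).1 h
  rw [hc, hs.smul_left, b1, mul_one] at a1
  rw [a1, one_smul] at hc
  rw [hc] at a2 a3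
  exact ⟨mul_right_cancel₀ R.ee (a2.symm.trans b2), a3.symm.trans b3⟩

theorem pt_ne_u (β γ : F) : Submodule.span F {pt u e v β γ} ≠ Submodule.span F {u} := fun h => by
  obtain ⟨a1, -, -⟩ := pt_herm D R β γ
  obtain ⟨c, -, hc⟩ := exists_smul_of_span (ne_zero_of_herm D.sig (by rw [a1]; exact one_ne_zero)).1 h
  rw [hc, (sf D.sig).smul_left, R.pair.uu, mul_zero] at a1
  exact zero_ne_one a1

theorem real_pt {g : GL (Fin 3) F} {a x : F} (hg : RShape (hermForm 3 F q e e) u e v g a x) (ha : a ≠ 0) (β γ : F) :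
    (g : Matrix (Fin 3) (Fin 3) F) *ᵥ pt u e v β γ = a⁻¹ • pt u e v (a * (β + x))
      (a * (a * γ - β * (a * hermForm 3 F q e e * x) + -(a * hermForm 3 F q e e * (x * x)) / 2)) := by
  simp only [pt, Matrix.mulVec_add, Matrix.mulVec_smul, hg.gu, hg.ge, hg.gv]
  match_scalars <;> field_simp
  all_goals ring

theorem pt_iso {β γ : F} (h : Submodule.span F {pt u e v β γ} ∈ orb K u) :
    γ + σ γ + β * σ β * hermForm 3 F q e e = 0 := by
  have hs := sf D.sig
  have hu0 : u ≠ 0 := (ne_zero_of_herm D.sig (by rw [R.pair.uv]; exact one_ne_zero)).1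
  obtain ⟨w, -, hww, he⟩ := orb_subset D.sig D.le hu0 R.pair.uu h
  obtain ⟨a1, -, -⟩ := pt_herm D R β γ
  obtain ⟨c, hc0, hc⟩ := exists_smul_of_span (ne_zero_of_herm D.sig (by rw [a1]; exact one_ne_zero)).1 he
  have h0 : hermForm 3 F q (pt u e v β γ) (pt u e v β γ) = 0 := by
    rw [hc, hs.smul_left, hs.smul_right, hww, mul_zero, mul_zero]
  simp only [pt, hs.add_left, hs.add_right, hs.smul_left, hs.smul_right, R.pair.uu, R.pair.vv, R.pair.uv, R.pair.vu,
    R.pair.ue, R.pair.ve, orth_swp D.sig R.pair.ue, orth_swp D.sig R.pair.ve] at h0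
  linear_combination h0

theorem zero_mem_anorm : ((0 : F), (0 : F)) ∈ Anorm σ K u e v := by
  refine ⟨by simp, ?_⟩
  obtain ⟨g, hg, m, hm, hgu⟩ := exists_swap D R
  refine ⟨g, hg, ?_⟩
  rw [hgu, span_eq_span hm rfl, show pt u e v 0 0 = v by simp [pt]]

theorem anorm_scale {a : F} (ha : σ a = a) (ha0 : a ≠ 0) {p : F × F} (hp : p ∈ Anorm σ K u e v) :
    (a * p.1, a * a * p.2) ∈ Anorm σ K u e v := by
  obtain ⟨g, hg, hgs⟩ := exists_real D R (mem_fixedField.mpr ha) ha0 (zero_mem _)
  refine ⟨by rw [map_mul, ha, ← mul_add, hp.1, mul_zero], ?_⟩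
  have h := orb_map hg hp.2
  rw [real_pt D R hgs ha0, span_eq_span (inv_ne_zero ha0) rfl] at h
  convert h using 4 <;> ring

/-- The size of the orbit. -/
theorem orb_count : Nat.card (orb K u) = 1 + q * Nat.card (Anorm σ K u e v) := by
  classical
  have hσ := D.sig
  have hu0 : u ≠ 0 := (ne_zero_of_herm hσ (by rw [R.pair.uv]; exact one_ne_zero)).1
  have hsub := orb_subset hσ D.le hu0 R.pair.uu
  choose n hnK hns using fun x : fixedField σ =>
    exists_real D R (one_mem (fixedField σ)) one_ne_zero x.2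
  have hn : ∀ (x : fixedField σ) β γ, (n x : Matrix (Fin 3) (Fin 3) F) *ᵥ pt u e v β γ =
      pt u e v (β + (x : F)) (γ - β * (hermForm 3 F q e e * (x : F)) +
        -(hermForm 3 F q e e * ((x : F) * (x : F))) / 2) := fun x β γ => by
    rw [real_pt D R (hns x) one_ne_zero, inv_one, one_smul]; simp [one_mul]
  let f : Option (fixedField σ × Anorm σ K u e v) → orb K u := fun o => match o with
    | none => ⟨_, 1, one_mem K, by rw [Units.val_one, Matrix.one_mulVec]⟩
    | some p => ⟨_, orb_map (hnK p.1) p.2.2.2⟩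
  have hf : Function.Bijective f := by
    refine ⟨fun o o' h => ?_, fun ⟨L, hL⟩ => ?_⟩
    · have h' := congrArg Subtype.val h
      rcases o with _ | ⟨x, ⟨⟨β, γ⟩, hp⟩⟩ <;> rcases o' with _ | ⟨x', ⟨⟨β', γ'⟩, hp'⟩⟩
      · rfl
      · simp only [f, hn, Units.val_one, Matrix.one_mulVec] at h'
        exact absurd h'.symm (pt_ne_u D R _ _)
      · simp only [f, hn, Units.val_one, Matrix.one_mulVec] at h'
        exact absurd h' (pt_ne_u D R _ _)
      · simp only [f, hn] at h'
        obtain ⟨e1, e2⟩ := pt_span_inj D R h'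
        have hx := congrArg σ e1
        rw [map_add, map_add, mem_fixedField.mp x.2, mem_fixedField.mp x'.2] at hx
        have k1 : (x : F) = x' := mul_left_cancel₀ D.h2 (by linear_combination e1 + hx - hp.1 + hp'.1)
        have k2 : β = β' := by linear_combination e1 - k1
        have k3 : γ = γ' := by rw [k1, k2] at e2; linear_combination e2
        subst k2; subst k3
        obtain rfl := Subtype.ext k1
        rfl
    · obtain ⟨w, hw0, hww, hLw⟩ := hsub hL
      by_cases hwu : Submodule.span F {w} = Submodule.span F {u}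
      · refine ⟨none, Subtype.ext ?_⟩
        show _ = L
        rw [hLw, hwu]
      have hα := iso_not_orth hσ R.pair R.ee hw0 hww hwu
      obtain ⟨β, hβ⟩ : ∃ β, β = hermForm 3 F q w e / hermForm 3 F q e e / hermForm 3 F q w u := ⟨_, rfl⟩
      obtain ⟨γ, hγ⟩ : ∃ γ, γ = hermForm 3 F q w v / hermForm 3 F q w u := ⟨_, rfl⟩
      have hwp : w = hermForm 3 F q w u • pt u e v β γ := by
        conv_lhs => rw [pair_dec hσ R.pair R.ee w]
        simp only [pt, smul_add, smul_smul, hβ, hγ, mul_div_cancel₀ _ hα]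
      have hL' : L = Submodule.span F {pt u e v β γ} := hLw.trans (span_eq_span hα hwp)
      have h2 := D.h2
      have hxF : (β + σ β) / 2 ∈ fixedField σ := mem_fixedField.mpr (by
        rw [map_div₀, map_add, hσ.involutive, map_ofNat, add_comm])
      obtain ⟨x, hx⟩ : ∃ x : fixedField σ, (x : F) = (β + σ β) / 2 := ⟨⟨_, hxF⟩, rfl⟩
      obtain ⟨β', hβ'⟩ : ∃ β', β' = β - (x : F) := ⟨_, rfl⟩
      obtain ⟨γ', hγ'⟩ : ∃ γ', γ' = γ + β' * (hermForm 3 F q e e * (x : F)) -
          -(hermForm 3 F q e e * ((x : F) * (x : F))) / 2 := ⟨_, rfl⟩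
      have hmap : (n x : Matrix (Fin 3) (Fin 3) F) *ᵥ pt u e v β' γ' = pt u e v β γ := by
        rw [hn, hγ', hβ']; congr 1 <;> ring
      have hmem : (β', γ') ∈ Anorm σ K u e v := ⟨by
        show β' + σ β' = 0
        rw [hβ', map_sub, mem_fixedField.mp x.2, hx]; field_simp; ring,
        (orb_map_iff (hnK x)).mp (by rw [hmap, ← hL']; exact hL)⟩
      refine ⟨some (x, ⟨_, hmem⟩), Subtype.ext ?_⟩
      show Submodule.span F {(n x : Matrix (Fin 3) (Fin 3) F) *ᵥ pt u e v β' γ'} = L
      rw [hmap, hL']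
  rw [← Nat.card_congr (Equiv.ofBijective f hf), Finite.card_option, Nat.card_prod, hσ.card_fixed]
  ring

variable (hfull : ¬ suGL 3 F q ≤ K)

include hfull

/-- The stabiliser of a real point. -/
theorem stab_card : Nat.card (Stab K u) = Nat.gcd 3 (q + 1) * q * (q - 1) := by
  classical
  have hσ := D.sig
  let T := {w : F // w ^ 3 = 1 ∧ w * σ w = 1} × {a : fixedField σ // a ≠ 0} × fixedField σ
  choose z hzK hz using fun w : {w : F // w ^ 3 = 1 ∧ w * σ w = 1} => scal_mem D w.2.1 w.2.2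
  choose h hhK hh using fun p : {a : fixedField σ // a ≠ 0} × fixedField σ =>
    exists_real D R p.1.1.2 (fun e => p.1.2 (Subtype.ext e)) p.2.2
  have hzv : ∀ w y, (z w : Matrix (Fin 3) (Fin 3) F) *ᵥ y = (w : F) • y := fun w y => by
    rw [hz, Matrix.smul_mulVec, Matrix.one_mulVec]
  have hu0 : u ≠ 0 := (ne_zero_of_herm hσ (by rw [R.pair.uv]; exact one_ne_zero)).1
  let f : T → Stab K u := fun p => ⟨z p.1 * h p.2, mem_Stab.mpr ⟨mul_mem (hzK _) (hhK _),
    (p.1 : F) * (p.2.1.1 : F), by rw [gl_mul_mulVec, (hh p.2).gu, hzv, smul_smul]⟩⟩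
  have hf : Function.Bijective f := by
    refine ⟨fun p p' he => ?_, fun g => ?_⟩
    · have h' : z p.1 * h p.2 = z p'.1 * h p'.2 := congrArg Subtype.val he
      have hs := sf hσ
      have eu := congrArg (fun g : GL (Fin 3) F =>
        hermForm 3 F q ((g : Matrix (Fin 3) (Fin 3) F) *ᵥ u) v) h'
      have ee' := congrArg (fun g : GL (Fin 3) F =>
        hermForm 3 F q ((g : Matrix (Fin 3) (Fin 3) F) *ᵥ e) e) h'
      have ev := congrArg (fun g : GL (Fin 3) F =>
        hermForm 3 F q ((g : Matrix (Fin 3) (Fin 3) F) *ᵥ v) e) h'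
      simp only [gl_mul_mulVec, hzv, (hh p.2).gu, (hh p'.2).gu, (hh p.2).ge, (hh p'.2).ge, (hh p.2).gv, (hh p'.2).gv,
        hs.add_left, hs.smul_left, R.pair.uv, R.pair.ue, R.pair.ve, one_smul, mul_zero, add_zero, zero_add,
        mul_one] at eu ee' ev
      have k1 : (p.1 : F) = p'.1 := mul_right_cancel₀ R.ee ee'
      have hw0 : (p'.1 : F) ≠ 0 := left_ne_zero_of_mul_eq_one p'.1.2.2
      rw [k1] at eu ev
      have k2 : (p.2.1.1 : F) = p'.2.1.1 := mul_left_cancel₀ hw0 eu
      have k3 : (p.2.2 : F) = p'.2.2 := mul_right_cancel₀ R.ee (mul_left_cancel₀ hw0 ev)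
      exact Prod.ext (Subtype.ext k1) (Prod.ext (Subtype.ext (Subtype.ext k2)) (Subtype.ext k3))
    · obtain ⟨ω, a, x, h3, hN, ha, ha0, hx, hP⟩ := stab_shape D R hfull g.2
      refine ⟨(⟨ω, h3, hN⟩, ⟨⟨a, ha⟩, fun e0 => ha0 (congrArg Subtype.val e0)⟩, ⟨x, hx⟩), Subtype.ext ?_⟩
      refine pair_ext hσ R.pair R.ee ?_ ?_ ?_ <;> simp only [f, gl_mul_mulVec, hzv]
      · rw [(hh _).gu, hP.gu, smul_smul]
      · rw [(hh _).ge, hP.ge]; module
      · rw [(hh _).gv, hP.gv]; module
  rw [← Nat.card_congr (Equiv.ofBijective f hf), Nat.card_prod, Nat.card_prod, cub_card hσ, hσ.card_fixed,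
    show Nat.card {a : fixedField σ // a ≠ 0} = q - 1 by
      rw [← Nat.card_congr (unitsEquivNeZero (G₀ := fixedField σ)), Nat.card_units, hσ.card_fixed]]
  ring

/-- The count of normalised points. -/
theorem anorm_parts : ∃ i k : ℕ, i ≤ 2 ∧ Nat.card (Anorm σ K u e v) = 1 + i * ((q - 1) / 2) + k * (q - 1) ∧
    Nat.card {p : Anorm σ K u e v // (p : F × F).1 = 0} = 1 + i * ((q - 1) / 2) := by
  classical
  have hσ := D.sig
  let A := Anorm σ K u e v
  let A0 := {p : A // (p : F × F).1 = 0}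
  let AB := {p : A // (p : F × F).1 = 0 ∧ (p : F × F).2 ≠ 0}
  let AA := {p : A // (p : F × F).1 ≠ 0}
  have hA : Nat.card A = Nat.card A0 + Nat.card AA := by
    rw [← Nat.card_sum]
    exact Nat.card_congr (Equiv.sumCompl (fun p : A => (p : F × F).1 = 0)).symm
  have hA0 : Nat.card A0 = 1 + Nat.card AB := by
    have e1 : Nat.card A0 = Nat.card (Option AB) := Nat.card_congr
      { toFun := fun p => if h : (p.1 : F × F).2 = 0 then none else some ⟨p.1, p.2, h⟩
        invFun := fun o => match o with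
          | none => ⟨⟨(0, 0), zero_mem_anorm D R⟩, rfl⟩
          | some p => ⟨p.1, p.2.1⟩
        left_inv := fun p => by
          by_cases h : (p.1 : F × F).2 = 0
          · simp only [dif_pos h]
            exact Subtype.ext (Subtype.ext (Prod.ext p.2.symm h.symm))
          · simp only [dif_neg h]; rfl
        right_inv := fun o => by
          rcases o with _ | p
          · simp
          · simp [p.2.2] }
    rw [e1, Finite.card_option, add_comm]
  have hfix : ∀ a : (fixedField σ)ˣ, σ ((a : fixedField σ) : F) = ((a : fixedField σ) : F) := fun a =>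
    mem_fixedField.mp (a : fixedField σ).2
  have hne : ∀ a : (fixedField σ)ˣ, ((a : fixedField σ) : F) ≠ 0 := fun a h => a.ne_zero (Subtype.ext h)
  let sc : (fixedField σ)ˣ → A → A := fun a p => ⟨_, anorm_scale D R (hfix a) (hne a) p.2⟩
  have hsc1 : ∀ p, sc 1 p = p := fun p => Subtype.ext (by simp [sc])
  have hscm : ∀ a b p, sc (a * b) p = sc a (sc b p) := fun a b p => Subtype.ext (Prod.ext
    (by simp [sc]; ring) (by simp [sc]; ring))
  -- regular part
  letI : MulAction (fixedField σ)ˣ AA :=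
    { smul := fun a p => ⟨sc a p.1, mul_ne_zero (hne a) p.2⟩
      one_smul := fun p => Subtype.ext (hsc1 p.1)
      mul_smul := fun a b p => Subtype.ext (hscm a b p.1) }
  have hAA : (q - 1) ∣ Nat.card AA := by
    have h := free_dvd (G := (fixedField σ)ˣ) (X := AA) fun a p h => by
      have e1 : ((a : fixedField σ) : F) * (p.1 : F × F).1 = (p.1 : F × F).1 :=
        congrArg (fun z : AA => (z.1 : F × F).1) h
      exact Units.ext (Subtype.ext (mul_right_cancel₀ p.2 (e1.trans (one_mul _).symm)))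
    rwa [Nat.card_units, hσ.card_fixed] at h
  -- square scaling
  have hscB : ∀ (a : (fixedField σ)ˣ) (p : AB), (sc a p.1 : F × F).1 = 0 ∧ (sc a p.1 : F × F).2 ≠ 0 := fun a p =>
    ⟨mul_eq_zero_of_right _ p.2.1, mul_ne_zero (mul_ne_zero (hne a) (hne a)) p.2.2⟩
  obtain ⟨S, hS⟩ : ∃ S : Subgroup (fixedField σ)ˣ, S = (powMonoidHom 2).range := ⟨_, rfl⟩
  have hScard : Nat.card S = (q - 1) / 2 := by
    have h := Subgroup.card_eq_card_quotient_mul_card_subgroup (powMonoidHom 2 : (fixedField σ)ˣ →* (fixedField σ)ˣ).ker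
    rw [Nat.card_congr (QuotientGroup.quotientKerEquivRange _).toEquiv, IsCyclic.card_powMonoidHom_ker, Nat.card_units,
      hσ.card_fixed, ← hS] at h
    obtain ⟨k, hk⟩ : Odd q := (hσ.odd_iff).mpr D.h2
    rw [show Nat.gcd (q - 1) 2 = 2 from Nat.gcd_eq_right (by omega)] at h
    omega
  letI : MulAction S AB :=
    { smul := fun a p => ⟨⟨((p.1 : F × F).1, (((a : (fixedField σ)ˣ) : fixedField σ) : F) * (p.1 : F × F).2), by
          have ha2 : (a : (fixedField σ)ˣ) ∈ (powMonoidHom 2 : (fixedField σ)ˣ →* (fixedField σ)ˣ).range := by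
            rw [← hS]; exact a.2
          obtain ⟨b, hb⟩ := MonoidHom.mem_range.mp ha2
          have e0 : ((sc b p.1 : A) : F × F) =
              ((p.1 : F × F).1, (((a : (fixedField σ)ˣ) : fixedField σ) : F) * (p.1 : F × F).2) :=
            Prod.ext ((mul_eq_zero_of_right _ p.2.1).trans p.2.1.symm) (by
              show _ * _ * _ = _
              rw [← hb, powMonoidHom_apply, Units.val_pow_eq_pow_val, SubmonoidClass.coe_pow, pow_two])
          rw [← e0]; exact (sc b p.1).2⟩, p.2.1, mul_ne_zero (hne _) p.2.2⟩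
      one_smul := fun p => Subtype.ext (Subtype.ext (Prod.ext rfl (one_mul _)))
      mul_smul := fun a b p => Subtype.ext (Subtype.ext (Prod.ext rfl (mul_assoc _ _ _))) }
  have hAB : (q - 1) / 2 ∣ Nat.card AB := by
    have h := free_dvd (G := S) (X := AB) fun a p h => by
      have e1 : (((a : (fixedField σ)ˣ) : fixedField σ) : F) * (p.1 : F × F).2 = (p.1 : F × F).2 :=
        congrArg (fun z : AB => (z.1 : F × F).2) h
      exact Subtype.ext (Units.ext (Subtype.ext (mul_right_cancel₀ p.2.2 (e1.trans (one_mul _).symm))))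
    rwa [hScard] at h
  have hABle : Nat.card AB ≤ q - 1 := by
    obtain ⟨d, hd0, hd⟩ := hσ.exists_skew
    have hmem : ∀ p : AB, (p.1 : F × F).2 / d ∈ fixedField σ := fun p => mem_fixedField.mpr (by
      have h := pt_iso D R p.1.2.2
      rw [p.2.1, zero_mul, zero_mul, add_zero] at h
      rw [map_div₀, eq_neg_of_add_eq_zero_right h, eq_neg_of_add_eq_zero_right hd, neg_div_neg_eq])
    have h := Nat.card_le_card_of_injective
      (fun p : AB => (⟨⟨_, hmem p⟩, fun e0 => div_ne_zero p.2.2 hd0 (congrArg Subtype.val e0)⟩ :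
        {a : fixedField σ // a ≠ 0})) fun p p' h => by
      have h1 := congrArg (fun z : {a : fixedField σ // a ≠ 0} => ((z : fixedField σ) : F)) h
      exact Subtype.ext (Subtype.ext (Prod.ext (p.2.1.trans p'.2.1.symm) ((div_left_inj' hd0).mp h1)))
    rwa [← Nat.card_congr (unitsEquivNeZero (G₀ := fixedField σ)), Nat.card_units, hσ.card_fixed] at h
  obtain ⟨i, hi⟩ := hAB
  obtain ⟨k, hk⟩ := hAA
  refine ⟨i, k, ?_, ?_, ?_⟩
  · by_contra hi2
    have : 3 * ((q - 1) / 2) ≤ i * ((q - 1) / 2) := Nat.mul_le_mul_right _ (by omega)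
    rw [mul_comm] at hi
    have := D.seven
    omega
  · rw [hA, hA0, hi, hk]; ring
  · rw [hA0, hi]; ring

end Cfsg.Agent.Classical.UThree
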