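/-
The centraliser of a real involution in an overgroup of the real elements.
-/
import Cfsg.Agent.Lib.Classical.UThree.SOOrbit

set_option autoImplicit false
set_option linter.unusedSectionVars false
set_option linter.style.haveILetI false
set_option maxHeartbeats 400000

namespace Cfsg.Agent.Classical.UThree

open Matrix Cfsg.Geo
open Cfsg.Agent.Classical
open Cfsg.Agent.Classical.UOver (Tv tv_unique tv_conj tv_smul tv_mem)

variable {F : Type*} [Field F] [Fintype F] {q : ℕ} {σ : F ≃+* F} {P : GL (Fin 3) F} {K : Subgroup (GL (Fin 3) F)}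
variable (D : OData q σ P K) {u e v : Fin 3 → F} (R : RFr q (fixedField σ) P u e v) (hfull : ¬ suGL 3 F q ≤ K)

include D R

theorem eig_one {t₀ : GL (Fin 3) F} (ht : RShape (hermForm 3 F q e e) u e v t₀ (-1) 0) {w : Fin 3 → F}
    (hw : (t₀ : Matrix (Fin 3) (Fin 3) F) *ᵥ w = w) : ∃ a : F, w = a • e := by
  have hs := sf D.sig
  have Pp := R.pair
  have hd := pair_dec D.sig Pp R.ee w
  have h := hw
  rw [hd] at h
  simp only [Matrix.mulVec_add, Matrix.mulVec_smul, ht.gu, ht.ge, ht.gv] at h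
  have a1 := congrArg (fun z => hermForm 3 F q z v) h
  have a2 := congrArg (fun z => hermForm 3 F q z u) h
  simp only [hs.add_left, hs.smul_left, Pp.uu, Pp.vv, Pp.uv, Pp.vu, orth_swp D.sig Pp.ue, orth_swp D.sig Pp.ve,
    inv_neg, inv_one, mul_zero, mul_one, neg_mul, one_mul, add_zero, zero_add, neg_zero, zero_div] at a1 a2
  have b1 : hermForm 3 F q w v = 0 := (mul_eq_zero.mp (show (2 : F) * hermForm 3 F q w v = 0 by
    linear_combination -a1)).resolve_left D.h2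
  have b2 : hermForm 3 F q w u = 0 := (mul_eq_zero.mp (show (2 : F) * hermForm 3 F q w u = 0 by
    linear_combination -a2)).resolve_left D.h2
  exact ⟨_, by conv_lhs => rw [hd, b1, b2, zero_smul, zero_smul, add_zero, zero_add]⟩

theorem chord_neg {t₀ : GL (Fin 3) F} (ht : RShape (hermForm 3 F q e e) u e v t₀ (-1) 0) {w : Fin 3 → F}
    (hw : hermForm 3 F q w e = 0) : (t₀ : Matrix (Fin 3) (Fin 3) F) *ᵥ w = (-1 : F) • w := by
  rw [R.pair.span w hw, Matrix.mulVec_add, Matrix.mulVec_smul, Matrix.mulVec_smul, ht.gu, ht.gv]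
  simp only [inv_neg, inv_one, neg_mul, one_mul, mul_zero, neg_zero, zero_div, zero_smul, add_zero]
  module

include hfull

/-- An involution fixing `u`. -/
theorem invol_shape {h : GL (Fin 3) F} (hh : h ∈ Stab K u) (h2 : h * h = 1) (h1 : h ≠ 1) :
    ∃ x ∈ fixedField σ, RShape (hermForm 3 F q e e) u e v h (-1) x := by
  have hs := sf D.sig
  have Pp := R.pair
  obtain ⟨ω, a, x, h3, hN, ha, ha0, hx, hu, he, hv⟩ := stab_shape D R hfull hh
  have eu := congrArg (fun g : GL (Fin 3) F => hermForm 3 F q ((g : Matrix (Fin 3) (Fin 3) F) *ᵥ u) v) h2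
  have ee' := congrArg (fun g : GL (Fin 3) F => hermForm 3 F q ((g : Matrix (Fin 3) (Fin 3) F) *ᵥ e) e) h2
  have ev := congrArg (fun g : GL (Fin 3) F => hermForm 3 F q ((g : Matrix (Fin 3) (Fin 3) F) *ᵥ v) e) h2
  simp only [gl_mul_mulVec, hu, he, hv, Matrix.mulVec_add, Matrix.mulVec_smul, Units.val_one, Matrix.one_mulVec,
    hs.add_left, hs.smul_left, Pp.uv, Pp.ue, Pp.ve, mul_zero, add_zero, zero_add, mul_one] at eu ee' ev
  have hω2 : ω * ω = 1 := mul_right_cancel₀ R.ee (by linear_combination ee')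
  have hω1 : ω = 1 := by linear_combination h3 - ω * hω2
  rw [hω1] at eu ev hu he hv
  simp only [one_mul] at eu ev hu he hv
  have hva : a⁻¹ * x + x = 0 := (mul_eq_zero.mp (show (a⁻¹ * x + x) * hermForm 3 F q e e = 0 by
    linear_combination ev)).resolve_right R.ee
  rcases mul_self_eq_one_iff.mp eu with e1 | e1
  · exfalso
    rw [e1] at hu he hv hva
    have hx0 : x = 0 := (mul_eq_zero.mp (show (2 : F) * x = 0 by rw [inv_one] at hva; linear_combination hva)).resolve_left D.h2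
    refine h1 (pair_ext D.sig Pp R.ee ?_ ?_ ?_) <;> rw [Units.val_one, Matrix.one_mulVec]
    · rw [hu, one_smul]
    · rw [he, hx0]; simp
    · rw [hv, hx0]; simp
  · refine ⟨x, hx, ?_⟩
    rw [e1] at hu he hv
    exact ⟨hu, he, hv⟩

theorem transit {t₀ : GL (Fin 3) F} (ht₀ : t₀ ∈ K) (hts : RShape (hermForm 3 F q e e) u e v t₀ (-1) 0)
    {L : Submodule F (Fin 3 → F)} (hL : L ∈ orb K u) {w : Fin 3 → F} (hw : w ≠ 0)
    (hwe : hermForm 3 F q w e = 0) (hLw : L = Submodule.span F {w}) :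
    ∃ g ∈ K, g * t₀ = t₀ * g ∧ L = Submodule.span F {(g : Matrix (Fin 3) (Fin 3) F) *ᵥ u} := by
  obtain ⟨g, hg, hgL⟩ := hL
  obtain ⟨c, hc, hwc⟩ := exists_smul_of_span hw (hLw.symm.trans hgL)
  have hs1 : (t₀ : Matrix (Fin 3) (Fin 3) F) *ᵥ ((g : Matrix (Fin 3) (Fin 3) F) *ᵥ u) =
      (-1 : F) • ((g : Matrix (Fin 3) (Fin 3) F) *ᵥ u) := by
    have h := chord_neg D R hts hwe
    rw [hwc, Matrix.mulVec_smul, smul_comm (-1 : F) c] at h
    exact smul_right_injective _ hc h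
  obtain ⟨h, hhd⟩ : ∃ h, h = g⁻¹ * t₀ * g := ⟨_, rfl⟩
  have hhS : h ∈ Stab K u := mem_Stab.mpr ⟨hhd ▸ mul_mem (mul_mem (inv_mem hg) ht₀) hg, -1, by
    rw [hhd, gl_mul_mulVec, gl_mul_mulVec, hs1, Matrix.mulVec_smul, gl_inv_mulVec_cancel]⟩
  have htt : t₀ * t₀ = 1 := by
    refine pair_ext D.sig R.pair R.ee ?_ ?_ ?_ <;>
      simp only [gl_mul_mulVec, hts.gu, hts.ge, hts.gv, Units.val_one, Matrix.one_mulVec, Matrix.mulVec_add,
        Matrix.mulVec_smul, inv_neg, inv_one] <;> match_scalars <;> ring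
  have hh2 : h * h = 1 := by
    rw [hhd, show g⁻¹ * t₀ * g * (g⁻¹ * t₀ * g) = g⁻¹ * (t₀ * t₀) * g by group, htt, mul_one, inv_mul_cancel]
  have hu0 : u ≠ 0 := (ne_zero_of_herm D.sig (by rw [R.pair.uv]; exact one_ne_zero)).1
  have hh1 : h ≠ 1 := fun e1 => by
    have : t₀ = 1 := by
      calc t₀ = g * h * g⁻¹ := by rw [hhd]; group
        _ = 1 := by rw [e1, mul_one, mul_inv_cancel]
    have h' := hts.gu
    rw [this, Units.val_one, Matrix.one_mulVec] at h'
    have h'' := congrArg (fun z => hermForm 3 F q z v) h'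
    simp only [(sf D.sig).smul_left, R.pair.uv, mul_one] at h''
    exact D.h2 (by linear_combination h'')
  obtain ⟨x, hx, hxs⟩ := invol_shape D R hfull hhS hh2 hh1
  have h2 := D.h2
  obtain ⟨n, hn, hns⟩ := exists_real D R (one_mem _) one_ne_zero
    (div_mem (neg_mem hx) (two_mem D) : -x / 2 ∈ fixedField σ)
  have key : n * t₀ = h * n := by
    refine pair_ext D.sig R.pair R.ee ?_ ?_ ?_ <;>
      simp only [gl_mul_mulVec, hts.gu, hts.ge, hts.gv, hxs.gu, hxs.ge, hxs.gv, hns.gu, hns.ge, hns.gv,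
        Matrix.mulVec_add, Matrix.mulVec_smul, inv_neg, inv_one] <;>
      match_scalars <;> field_simp <;> ring
  refine ⟨g * n, mul_mem hg hn, ?_, ?_⟩
  · calc g * n * t₀ = g * (h * n) := by rw [mul_assoc, key]
      _ = t₀ * (g * n) := by rw [hhd]; group
  · rw [gl_mul_mulVec, hns.gu, one_smul]; exact hgL

/-- Elements of the stabiliser commuting with the involution. -/
theorem cent_stab {t₀ : GL (Fin 3) F} (hts : RShape (hermForm 3 F q e e) u e v t₀ (-1) 0) {g : GL (Fin 3) F}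
    (hg : g ∈ Stab K u) : (g * t₀ = t₀ * g) ↔
      ∃ ω a : F, ω ^ 3 = 1 ∧ ω * σ ω = 1 ∧ a ∈ fixedField σ ∧ a ≠ 0 ∧
        Par3 u e v g (ω * a) ω (ω * a⁻¹) 0 0 0 := by
  have hs := sf D.sig
  have Pp := R.pair
  constructor
  · intro hc
    obtain ⟨ω, a, x, h3, hN, ha, ha0, hx, hu, he, hv⟩ := stab_shape D R hfull hg
    have ev := congrArg (fun g : GL (Fin 3) F => hermForm 3 F q ((g : Matrix (Fin 3) (Fin 3) F) *ᵥ v) e) hc
    simp only [gl_mul_mulVec, hts.gu, hts.ge, hts.gv, hu, he, hv, Matrix.mulVec_add, Matrix.mulVec_smul, hs.add_left,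
      hs.smul_left, Pp.ue, Pp.ve, inv_neg, inv_one, mul_zero, add_zero, zero_add, one_mul, neg_mul, neg_zero, zero_div] at ev
    have hω0 : ω ≠ 0 := left_ne_zero_of_mul_eq_one hN
    have hx0 : x = 0 := (mul_eq_zero.mp (show (2 * ω * hermForm 3 F q e e) * x = 0 by
      linear_combination -ev)).resolve_left (mul_ne_zero (mul_ne_zero D.h2 hω0) R.ee)
    refine ⟨ω, a, h3, hN, ha, ha0, ⟨hu, ?_, ?_⟩⟩
    · rw [he, hx0]; simp
    · rw [hv, hx0]; simp
  · rintro ⟨ω, a, -, -, -, ha0, hu, he, hv⟩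
    refine pair_ext D.sig Pp R.ee ?_ ?_ ?_ <;>
      simp only [gl_mul_mulVec, hts.gu, hts.ge, hts.gv, hu, he, hv, Matrix.mulVec_add, Matrix.mulVec_smul, inv_neg,
        inv_one] <;>
      match_scalars <;> ring

omit hfull in
theorem pow_fix {g : GL (Fin 3) F} {w : Fin 3 → F} (hg : (g : Matrix (Fin 3) (Fin 3) F) *ᵥ w = w) :
    ∀ n : ℕ, ((g ^ n : GL (Fin 3) F) : Matrix (Fin 3) (Fin 3) F) *ᵥ w = w := fun n => by
  induction n with
  | zero => simp
  | succ n ih => rw [pow_succ, gl_mul_mulVec, hg, ih]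

/-- No element of order `p` commutes with the involution. -/
theorem cent_coprime {p : ℕ} [CharP F p] (hp : p.Prime) {t₀ : GL (Fin 3) F} (ht₀ : t₀ ∈ K)
    (hts : RShape (hermForm 3 F q e e) u e v t₀ (-1) 0) :
    ¬ p ∣ Nat.card (K ⊓ Subgroup.centralizer {t₀} : Subgroup (GL (Fin 3) F)) := by
  classical
  intro hdvd
  haveI := Fact.mk hp
  have hσ := D.sig
  have hs := sf hσ
  have Pp := R.pair
  haveI := Fintype.ofFinite (K ⊓ Subgroup.centralizer {t₀} : Subgroup (GL (Fin 3) F))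
  rw [Nat.card_eq_fintype_card] at hdvd
  obtain ⟨⟨c, hcK, hct⟩, hc⟩ := exists_prime_orderOf_dvd_card p hdvd
  rw [← Subgroup.orderOf_coe] at hc
  change orderOf c = p at hc
  replace hct := Subgroup.mem_centralizer_singleton_iff.mp hct
  have hu0 : u ≠ 0 := (ne_zero_of_herm hσ (by rw [Pp.uv]; exact one_ne_zero)).1
  haveI : Finite (Submodule F (Fin 3 → F)) :=
    Finite.of_injective (fun L : Submodule F (Fin 3 → F) => (L : Set (Fin 3 → F))) SetLike.coe_injective
  obtain ⟨S, hS⟩ : ∃ S, S = Subgroup.zpowers c := ⟨_, rfl⟩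
  have hSp : IsPGroup p S := IsPGroup.of_card (n := 1) (by rw [hS, Nat.card_zpowers, hc, pow_one])
  have hSK : S ≤ K := hS ▸ Subgroup.zpowers_le.mpr hcK
  have hmove : ∀ g ∈ S, ∀ L ∈ orb K u, lineHom F g L ∈ orb K u := by
    rintro g hg L ⟨k, hk, rfl⟩
    rw [lineHom_span]
    exact orb_map (hSK hg) ⟨k, hk, rfl⟩
  letI : MulAction S (orb K u) :=
    { smul := fun g L => ⟨lineHom F (g : GL (Fin 3) F) L, hmove g g.2 L L.2⟩
      one_smul := fun L => Subtype.ext (by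
        show lineHom F ((1 : S) : GL (Fin 3) F) L = L
        rw [Subgroup.coe_one, map_one, Equiv.Perm.one_apply])
      mul_smul := fun g h L => Subtype.ext (by
        show lineHom F ((g * h : S) : GL (Fin 3) F) L = lineHom F g (lineHom F h L)
        rw [Subgroup.coe_mul, map_mul, Equiv.Perm.mul_apply]) }
  have hnd : ¬ p ∣ Nat.card (orb K u) := by
    obtain ⟨m, hp', hm⟩ := FiniteField.card F p
    have hpq : p ∣ q := hp'.dvd_of_dvd_pow (show p ∣ q ^ 2 by rw [← hσ.card, hm]; exact dvd_pow_self p m.ne_zero)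
    rw [orb_count D R]
    intro h
    exact hp.one_lt.ne' (Nat.dvd_one.mp ((Nat.dvd_add_iff_left (hpq.mul_right _)).mpr h))
  obtain ⟨L, hL⟩ := hSp.nonempty_fixed_point_of_prime_not_dvd_card (orb K u) hnd
  obtain ⟨g, hg, hgL⟩ := L.2
  have hcL : lineHom F c L = L :=
    congrArg Subtype.val (hL ⟨c, hS ▸ Subgroup.mem_zpowers c⟩)
  rw [hgL, lineHom_span] at hcL
  have hgu0 : (g : Matrix (Fin 3) (Fin 3) F) *ᵥ u ≠ 0 := fun h =>
    hu0 (gl_mulVec_injective g (h.trans (Matrix.mulVec_zero _).symm))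
  obtain ⟨μ, -, hμ⟩ : ∃ μ : F, μ ≠ 0 ∧ (c : Matrix (Fin 3) (Fin 3) F) *ᵥ ((g : Matrix (Fin 3) (Fin 3) F) *ᵥ u) =
      μ • ((g : Matrix (Fin 3) (Fin 3) F) *ᵥ u) := exists_smul_of_span
    (fun h' => hgu0 (gl_mulVec_injective c (h'.trans (Matrix.mulVec_zero _).symm))) hcL
  -- pulled back to `u`
  obtain ⟨h, hhd⟩ : ∃ h, h = g⁻¹ * c * g := ⟨_, rfl⟩
  have hhu : (h : Matrix (Fin 3) (Fin 3) F) *ᵥ u = μ • u := by
    rw [hhd, gl_mul_mulVec, gl_mul_mulVec, hμ, Matrix.mulVec_smul, gl_inv_mulVec_cancel]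
  have hhp : h ^ p = 1 := by
    rw [hhd]
    have := conj_pow (i := p) (a := g⁻¹) (b := c)
    rw [inv_inv] at this
    rw [this, ← hc, pow_orderOf_eq_one, mul_one, inv_mul_cancel]
  have hh1 : h ≠ 1 := fun e1 => by
    have : c = 1 := by rw [show c = g * h * g⁻¹ by rw [hhd]; group, e1, mul_one, mul_inv_cancel]
    rw [this, orderOf_one] at hc
    exact hp.one_lt.ne hc
  have hμ1 : μ = 1 := by
    have hpw : ∀ n : ℕ, ((h ^ n : GL (Fin 3) F) : Matrix (Fin 3) (Fin 3) F) *ᵥ u = μ ^ n • u := fun n => by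
      induction n with
      | zero => simp
      | succ n ih => rw [pow_succ, gl_mul_mulVec, hhu, Matrix.mulVec_smul, ih, smul_smul, pow_succ, mul_comm]
    have h' := hpw p
    rw [hhp, Units.val_one, Matrix.one_mulVec] at h'
    have h'' := congrArg (fun z => hermForm 3 F q z v) h'
    simp only [hs.smul_left, Pp.uv, mul_one] at h''
    have : (μ - 1) ^ p = 0 := by rw [sub_pow_char, one_pow, ← h'', sub_self]
    exact sub_eq_zero.mp (pow_eq_zero_iff hp.ne_zero |>.mp this)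
  rw [hμ1, one_smul] at hhu
  have hhK : h ∈ K := hhd ▸ mul_mem (mul_mem (inv_mem hg) hcK) hg
  obtain ⟨x, hx, hxs⟩ := unip_shape D R hfull hhK hhu
  -- the involution pulled back
  obtain ⟨T, hTd⟩ : ∃ T, T = g⁻¹ * t₀ * g := ⟨_, rfl⟩
  have hTh : T * h = h * T := by
    rw [hTd, hhd]
    calc g⁻¹ * t₀ * g * (g⁻¹ * c * g) = g⁻¹ * (t₀ * c) * g := by group
      _ = g⁻¹ * (c * t₀) * g := by rw [hct]
      _ = g⁻¹ * c * g * (g⁻¹ * t₀ * g) := by group
  have hTK : T ∈ K := hTd ▸ mul_mem (mul_mem (inv_mem hg) ht₀) hg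
  obtain ⟨w, hwd⟩ : ∃ w, w = (T : Matrix (Fin 3) (Fin 3) F) *ᵥ u := ⟨_, rfl⟩
  have hww : hermForm 3 F q w w = 0 := by rw [hwd]; exact (mem_GU_iff.mp (D.le hTK).1 u u).trans Pp.uu
  have hwu : hermForm 3 F q w u = 0 := fix_unique hσ Pp R.ee (D.le hhK) hh1 hhu (μ := 1) hww (by
    rw [one_smul, hwd, ← gl_mul_mulVec, ← hTh, gl_mul_mulVec, hhu])
  have hTS : T ∈ Stab K u := mem_Stab.mpr ⟨hTK, _, hwd ▸ prop_of_orth hσ Pp R.ee hww hwu⟩
  have hu0' : (t₀ : Matrix (Fin 3) (Fin 3) F) *ᵥ u = (-1 : F) • u := hts.gu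
  have hT2 : T * T = 1 := by
    have htt : t₀ * t₀ = 1 := by
      refine pair_ext hσ Pp R.ee ?_ ?_ ?_ <;>
        simp only [gl_mul_mulVec, hts.gu, hts.ge, hts.gv, Units.val_one, Matrix.one_mulVec, Matrix.mulVec_add,
          Matrix.mulVec_smul, inv_neg, inv_one] <;> match_scalars <;> ring
    rw [hTd, show g⁻¹ * t₀ * g * (g⁻¹ * t₀ * g) = g⁻¹ * (t₀ * t₀) * g by group, htt, mul_one, inv_mul_cancel]
  have hT1 : T ≠ 1 := fun e1 => by
    have : t₀ = 1 := by rw [show t₀ = g * T * g⁻¹ by rw [hTd]; group, e1, mul_one, mul_inv_cancel]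
    rw [this, Units.val_one, Matrix.one_mulVec] at hu0'
    have h'' := congrArg (fun z => hermForm 3 F q z v) hu0'
    simp only [hs.smul_left, Pp.uv, mul_one] at h''
    exact D.h2 (by linear_combination h'')
  obtain ⟨y, hy, hys⟩ := invol_shape D R hfull hTS hT2 hT1
  have ev := congrArg (fun g : GL (Fin 3) F => hermForm 3 F q ((g : Matrix (Fin 3) (Fin 3) F) *ᵥ v) e) hTh
  simp only [gl_mul_mulVec, hys.gu, hys.ge, hys.gv, hxs.gu, hxs.ge, hxs.gv, Matrix.mulVec_add, Matrix.mulVec_smul,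
    hs.add_left, hs.smul_left, Pp.ue, Pp.ve, inv_neg, inv_one, mul_zero, add_zero, zero_add, one_mul] at ev
  have hx0 : x = 0 := (mul_eq_zero.mp (show (2 * hermForm 3 F q e e) * x = 0 by
    linear_combination ev)).resolve_left (mul_ne_zero D.h2 R.ee)
  refine hh1 (pair_ext hσ Pp R.ee ?_ ?_ ?_) <;> rw [Units.val_one, Matrix.one_mulVec]
  · exact hhu
  · rw [hxs.ge, hx0]; simp
  · rw [hxs.gv, hx0]; simp

/-- The centraliser on the chord. -/
theorem chord_data : ∃ i k : ℕ, i ≤ 2 ∧ Nat.card (orb K u) = 1 + q * (1 + i * ((q - 1) / 2) + k * (q - 1)) ∧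
    Nat.card {p : Anorm σ K u e v // (p : F × F).1 = 0} = 1 + i * ((q - 1) / 2) ∧
    (i = 0 ∨ ∃ o₂ o₃ : ℕ, o₂ ∣ (2 + i * ((q - 1) / 2)) * ((q - 1) / 2) ∧
      o₃ ∣ (2 + i * ((q - 1) / 2)) * ((q - 1) / 2) ∧ 2 * o₂ ≤ (2 + i * ((q - 1) / 2)) * ((q - 1) / 2) ∧
      2 * o₃ ≤ (2 + i * ((q - 1) / 2)) * ((q - 1) / 2) ∧
      2 + i * ((q - 1) / 2) + o₂ + o₃ = (2 + i * ((q - 1) / 2)) * ((q - 1) / 2) + 2) := by
  classical
  have hσ := D.sig
  have hs := sf hσ
  have Pp := R.pair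
  obtain ⟨i, k, hi, hA, hA0⟩ := anorm_parts D R hfull
  refine ⟨i, k, hi, by rw [orb_count D R, hA], hA0, ?_⟩
  by_cases hi0 : i = 0
  · exact Or.inl hi0
  right
  obtain ⟨p, hchar⟩ := CharP.exists F
  haveI := hchar
  obtain ⟨m', hp, -⟩ := FiniteField.card F p
  obtain ⟨t₀, ht₀, hts⟩ := exists_real D R (neg_mem (one_mem (fixedField σ))) (neg_ne_zero.mpr one_ne_zero)
    (zero_mem (fixedField σ))
  obtain ⟨C, hC⟩ : ∃ C : Subgroup (GL (Fin 3) F), C = K ⊓ Subgroup.centralizer {t₀} := ⟨_, rfl⟩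
  have hCmem : ∀ g, g ∈ C ↔ g ∈ K ∧ g * t₀ = t₀ * g := fun g => by
    rw [hC, Subgroup.mem_inf, Subgroup.mem_centralizer_singleton_iff]
  have hu0 : u ≠ 0 := (ne_zero_of_herm hσ (by rw [Pp.uv]; exact one_ne_zero)).1
  have hpC : ¬ p ∣ Nat.card C := hC ▸ cent_coprime D R hfull hp ht₀ hts
  have hCe : ∀ g ∈ C, ∃ a : F, (g : Matrix (Fin 3) (Fin 3) F) *ᵥ e = a • e := fun g hg => by
    refine eig_one D R hts ?_
    rw [← gl_mul_mulVec, ← ((hCmem g).mp hg).2, gl_mul_mulVec, hts.ge]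
    simp
  obtain ⟨m, hm, hcases⟩ := chord_orbits hσ hp D.h2 (show C ≤ suGL 3 F q from fun g hg => D.le ((hCmem g).mp hg).1)
    hpC Pp R.ee hCe
  -- the orbit on the chord
  have hc : Nat.card (orb C u) = 2 + i * ((q - 1) / 2) := by
    have hpe : ∀ γ : F, hermForm 3 F q (pt u e v 0 γ) e = 0 := fun γ => by
      rw [(pt_herm D R 0 γ).2.1, zero_mul]
    have hin : ∀ (L : Submodule F (Fin 3 → F)) (w : Fin 3 → F), L ∈ orb K u → w ≠ 0 → hermForm 3 F q w e = 0 →
        L = Submodule.span F {w} → L ∈ orb C u := fun L w hL hw hwe hLw => by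
      obtain ⟨g, hg, hgt, hgL⟩ := transit D R hfull ht₀ hts hL hw hwe hLw
      exact ⟨g, (hCmem g).mpr ⟨hg, hgt⟩, hgL⟩
    let A0 := {p : Anorm σ K u e v // (p : F × F).1 = 0}
    have hmem0 : ∀ p : A0, Submodule.span F {pt u e v 0 (p.1 : F × F).2} ∈ orb K u := fun p => by
      have h := p.1.2.2
      rwa [p.2] at h
    let f : Option A0 → orb C u := fun o => match o with
      | none => ⟨_, 1, one_mem C, rfl⟩
      | some p => ⟨_, hin _ _ (hmem0 p)
          (ne_zero_of_herm hσ (by rw [(pt_herm D R 0 (p.1 : F × F).2).1]; exact one_ne_zero)).1 (hpe _) rfl⟩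
    have hf : Function.Bijective f := by
      refine ⟨fun o o' h => ?_, fun ⟨L, g, hg, hL⟩ => ?_⟩
      · have h' := congrArg Subtype.val h
        rcases o with _ | a <;> rcases o' with _ | b
        · rfl
        · simp only [f, Units.val_one, Matrix.one_mulVec] at h'
          exact absurd h'.symm (pt_ne_u D R _ _)
        · simp only [f, Units.val_one, Matrix.one_mulVec] at h'
          exact absurd h' (pt_ne_u D R _ _)
        · obtain ⟨-, e2⟩ := pt_span_inj D R h'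
          exact congrArg some (Subtype.ext (Subtype.ext (Prod.ext (a.2.trans b.2.symm) e2)))
      · have hgK := ((hCmem g).mp hg).1
        obtain ⟨w, hwd⟩ : ∃ w, w = (g : Matrix (Fin 3) (Fin 3) F) *ᵥ u := ⟨_, rfl⟩
        rw [← hwd] at hL
        have hw0 : w ≠ 0 := fun h => hu0 (gl_mulVec_injective g ((hwd.symm.trans h).trans (Matrix.mulVec_zero _).symm))
        have hwe : hermForm 3 F q w e = 0 := by
          obtain ⟨a, ha⟩ := hCe g hg
          have h := mem_GU_iff.mp (D.le hgK).1 u e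
          rw [← hwd, ha, hs.smul_right, Pp.ue] at h
          refine (mul_eq_zero.mp h).resolve_left fun h0 => R.ee ?_
          rw [← mem_GU_iff.mp (D.le hgK).1 e e, ha, (map_eq_zero σ).mp h0, zero_smul, herm_zero_left hσ]
        by_cases hwu : Submodule.span F {w} = Submodule.span F {u}
        · refine ⟨none, Subtype.ext ?_⟩
          show Submodule.span F {((1 : GL (Fin 3) F) : Matrix (Fin 3) (Fin 3) F) *ᵥ u} = L
          rw [Units.val_one, Matrix.one_mulVec, hL, hwu]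
        have hww : hermForm 3 F q w w = 0 := by rw [hwd]; exact (mem_GU_iff.mp (D.le hgK).1 u u).trans Pp.uu
        have hα := iso_not_orth hσ Pp R.ee hw0 hww hwu
        obtain ⟨γ, hγ⟩ : ∃ γ, γ = hermForm 3 F q w v / hermForm 3 F q w u := ⟨_, rfl⟩
        have hwp : w = hermForm 3 F q w u • pt u e v 0 γ := by
          conv_lhs => rw [Pp.span w hwe]
          simp only [pt, smul_add, smul_smul, hγ, mul_div_cancel₀ _ hα, mul_zero, zero_smul, add_zero]
        have hLp : L = Submodule.span F {pt u e v 0 γ} := hL.trans (span_eq_span hα hwp)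
        have hmem : ((0 : F), γ) ∈ Anorm σ K u e v := ⟨by simp, by
          show Submodule.span F {pt u e v 0 γ} ∈ orb K u
          rw [← hLp, hL, hwd]; exact ⟨g, hgK, rfl⟩⟩
        exact ⟨some ⟨⟨_, hmem⟩, rfl⟩, Subtype.ext hLp.symm⟩
    rw [← Nat.card_congr (Equiv.ofBijective f hf), Finite.card_option, hA0]
    ring
  -- stabiliser and kernel
  let Cub := {w : F // w ^ 3 = 1 ∧ w * σ w = 1}
  choose z hzK hz using fun w : Cub => scal_mem D w.2.1 w.2.2
  have hzv : ∀ w y, (z w : Matrix (Fin 3) (Fin 3) F) *ᵥ y = (w : F) • y := fun w y => by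
    rw [hz, Matrix.smul_mulVec, Matrix.one_mulVec]
  choose h hhK hh using fun a : {a : fixedField σ // a ≠ 0} =>
    exists_real D R a.1.2 (fun e => a.2 (Subtype.ext e)) (zero_mem (fixedField σ))
  have hpar : ∀ p : Cub × {a : fixedField σ // a ≠ 0}, Par3 u e v (z p.1 * h p.2) ((p.1 : F) * (p.2.1 : F))
      (p.1 : F) ((p.1 : F) * (p.2.1 : F)⁻¹) 0 0 0 := fun p => by
    refine ⟨?_, ?_, ?_⟩ <;> simp only [gl_mul_mulVec, hzv, (hh p.2).gu, (hh p.2).ge, (hh p.2).gv] <;> simp [smul_smul]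
  have hinS : ∀ p : Cub × {a : fixedField σ // a ≠ 0}, z p.1 * h p.2 ∈ Stab C u := fun p => by
    have hK' : z p.1 * h p.2 ∈ K := mul_mem (hzK _) (hhK _)
    refine mem_Stab.mpr ⟨(hCmem _).mpr ⟨hK', ?_⟩, _, (hpar p).gu⟩
    exact (cent_stab D R hfull hts (mem_Stab.mpr ⟨hK', _, (hpar p).gu⟩)).mpr
      ⟨_, _, p.1.2.1, p.1.2.2, p.2.1.2, fun e0 => p.2.2 (Subtype.ext e0), hpar p⟩
  let f : Cub × {a : fixedField σ // a ≠ 0} → Stab C u := fun p => ⟨_, hinS p⟩
  have hfi : Function.Injective f := fun p p' he => by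
    have h' : z p.1 * h p.2 = z p'.1 * h p'.2 := congrArg Subtype.val he
    have eu := congrArg (fun g : GL (Fin 3) F => hermForm 3 F q ((g : Matrix (Fin 3) (Fin 3) F) *ᵥ u) v) h'
    have ee' := congrArg (fun g : GL (Fin 3) F => hermForm 3 F q ((g : Matrix (Fin 3) (Fin 3) F) *ᵥ e) e) h'
    simp only [(hpar p).gu, (hpar p').gu, (hpar p).ge, (hpar p').ge, hs.add_left, hs.smul_left, Pp.uv, Pp.ue,
      herm_zero_left hσ, mul_zero, zero_mul, add_zero, mul_one] at eu ee'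
    have k1 : (p.1 : F) = p'.1 := mul_right_cancel₀ R.ee ee'
    rw [k1] at eu
    have k2 := mul_left_cancel₀ (left_ne_zero_of_mul_eq_one p'.1.2.2) eu
    exact Prod.ext (Subtype.ext k1) (Subtype.ext (Subtype.ext k2))
  have hfs : Function.Surjective f := fun g => by
    obtain ⟨hgC, l, hl⟩ := mem_Stab.mp g.2
    obtain ⟨hgK, hgt⟩ := (hCmem _).mp hgC
    obtain ⟨ω, a, h3, hN, ha, ha0, hP⟩ := (cent_stab D R hfull hts (mem_Stab.mpr ⟨hgK, l, hl⟩)).mp hgt
    refine ⟨(⟨ω, h3, hN⟩, ⟨⟨a, ha⟩, fun e0 => ha0 (congrArg Subtype.val e0)⟩), Subtype.ext ?_⟩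
    have hP' := hpar (⟨ω, h3, hN⟩, ⟨⟨a, ha⟩, fun e0 => ha0 (congrArg Subtype.val e0)⟩)
    exact pair_ext hσ Pp R.ee (hP'.gu.trans hP.gu.symm) (hP'.ge.trans hP.ge.symm) (hP'.gv.trans hP.gv.symm)
  let S2 := {a : {a : fixedField σ // a ≠ 0} // (a.1 : F) = 1 ∨ (a.1 : F) = -1}
  let f2 : Cub × S2 → chordKer C u v := fun p => ⟨z p.1 * h p.2.1,
    (mem_Stab.mp (hinS (p.1, p.2.1))).1, (p.1 : F) * (p.2.1.1 : F), (hpar (p.1, p.2.1)).gu, by
      rw [(hpar (p.1, p.2.1)).gv]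
      rcases p.2.2 with e1 | e1 <;> simp [e1]⟩
  have hf2 : Function.Bijective f2 := by
    refine ⟨fun a b hab => ?_, fun g => ?_⟩
    · have h' := hfi (a₁ := (a.1, a.2.1)) (a₂ := (b.1, b.2.1))
        (Subtype.ext (congrArg (fun x : chordKer C u v => (x : GL (Fin 3) F)) hab))
      exact Prod.ext (congrArg Prod.fst h' : _) (Subtype.ext (congrArg Prod.snd h'))
    · obtain ⟨hgC, a, hgu, hgv⟩ := g.2
      obtain ⟨⟨w, b⟩, hb⟩ := hfs ⟨g, mem_Stab.mpr ⟨hgC, a, hgu⟩⟩
      have hb' : z w * h b = g := congrArg Subtype.val hb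
      have e1 : (w : F) * (b.1 : F) = a := by
        have := congrArg (fun y => hermForm 3 F q y v) ((hb' ▸ (hpar (w, b)).gu).symm.trans hgu)
        simpa [hs.smul_left, Pp.uv] using this
      have e2 : (w : F) * (b.1 : F)⁻¹ = a := by
        have := congrArg (fun y => hermForm 3 F q y u) ((hb' ▸ (hpar (w, b)).gv).symm.trans hgv)
        simpa [hs.add_left, hs.smul_left, Pp.vu, herm_zero_left hσ] using this
      have hb0 : (b.1 : F) ≠ 0 := fun e0 => b.2 (Subtype.ext e0)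
      have hbb : (b.1 : F) * (b.1 : F) = 1 := by
        have h' := mul_left_cancel₀ (left_ne_zero_of_mul_eq_one w.2.2) (e1.trans e2.symm)
        nth_rw 2 [h']
        exact mul_inv_cancel₀ hb0
      exact ⟨(w, ⟨b, mul_self_eq_one_iff.mp hbb⟩), Subtype.ext hb'⟩
  have hcS2 : Nat.card S2 = 2 := by
    refine (Nat.card_congr (Equiv.ofBijective (fun b : Bool => (if b then
      ⟨⟨1, one_ne_zero⟩, Or.inl rfl⟩ else ⟨⟨-1, neg_ne_zero.mpr one_ne_zero⟩, Or.inr rfl⟩ : S2)) ⟨?_, ?_⟩)).symm.trans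
      (by simp)
    · intro x y hxy
      have h' := congrArg (fun a : S2 => (a.1.1 : F)) hxy
      cases x <;> cases y <;> simp at h' <;> first
        | rfl
        | exact absurd (show (2 : F) = 0 by linear_combination h') D.h2
        | exact absurd (show (2 : F) = 0 by linear_combination -h') D.h2
    · rintro ⟨b, hb | hb⟩
      · exact ⟨true, Subtype.ext (Subtype.ext (Subtype.ext (by simp [hb])))⟩
      · exact ⟨false, Subtype.ext (Subtype.ext (Subtype.ext (by simp [hb])))⟩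
  have hcard1 : Nat.card (Stab C u) = Nat.card Cub * (q - 1) := by
    rw [← Nat.card_congr (Equiv.ofBijective f ⟨hfi, hfs⟩), Nat.card_prod,
      ← Nat.card_congr (unitsEquivNeZero (G₀ := fixedField σ)), Nat.card_units, hσ.card_fixed]
  have hcard2 : Nat.card (chordKer C u v) = Nat.card Cub * 2 := by
    rw [← Nat.card_congr (Equiv.ofBijective f2 hf2), Nat.card_prod, hcS2]
  rw [hcard1, hcard2] at hm
  have hCub : 0 < Nat.card Cub := by rw [cub_card hσ]; exact Nat.gcd_pos_of_pos_left _ (by norm_num)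
  have hm2 : m * 2 = q - 1 := Nat.eq_of_mul_eq_mul_left hCub (by rw [← hm]; ring)
  have hmh : m = (q - 1) / 2 := by omega
  subst hmh
  rw [hc] at hcases
  have := D.seven
  rcases hcases with h1 | h1 | h1
  · omega
  · have : 1 * ((q - 1) / 2) ≤ i * ((q - 1) / 2) := Nat.mul_le_mul_right _ (by omega)
    omega
  · exact h1

end Cfsg.Agent.Classical.UThree
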