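/-
The real subgroups are maximal in the special unitary group of degree three for odd `q ≥ 7`.
-/
import Cfsg.Agent.Lib.Classical.UThree.SOChord
import Cfsg.Agent.Lib.Classical.FormPower
import Mathlib.GroupTheory.Transfer

set_option autoImplicit false
set_option linter.unusedSectionVars false
set_option linter.style.haveILetI false
set_option maxHeartbeats 400000

namespace Cfsg.Agent.Classical.UThree

open Matrix Cfsg.Geo
open Cfsg.Agent.Classical

theorem so3_arith {q k : ℕ} (hq : 7 ≤ q) (hd : 1 + q * (1 + k * (q - 1)) ∣ (q + 1) * (q ^ 3 + 1)) :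
    k = 0 ∨ k = q + 1 := by
  by_cases hk0 : k = 0
  · exact Or.inl hk0
  obtain ⟨k', hk'⟩ := hd
  right
  have hqz : (7 : ℤ) ≤ q := by exact_mod_cast hq
  have h : ((q : ℤ) + 1) * ((q : ℤ) ^ 3 + 1) = (1 + (q : ℤ) * (1 + (k : ℤ) * ((q : ℤ) - 1))) * k' := by
    have := congrArg (fun n : ℕ => (n : ℤ)) hk'
    push_cast [Nat.cast_sub (show 1 ≤ q by omega)] at this
    exact this
  obtain ⟨a, ha⟩ : ∃ a : ℤ, a = (q : ℤ) ^ 3 + (q : ℤ) ^ 2 + 1 - k' * (1 + (k : ℤ) * ((q : ℤ) - 1)) := ⟨_, rfl⟩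
  have e1 : (k' : ℤ) = 1 + q * a := by rw [ha]; linear_combination -h
  obtain ⟨b, hb⟩ : ∃ b : ℤ, b = (q : ℤ) ^ 3 + 2 * (q : ℤ) ^ 2 + 2 * q + 3 - k' * (1 + (k : ℤ) * q) := ⟨_, rfl⟩
  have e2 : 2 * (k' : ℤ) = 4 + ((q : ℤ) - 1) * b := by rw [hb]; linear_combination -h
  obtain ⟨c, hc⟩ : ∃ c : ℤ, c = b - 2 * a := ⟨_, rfl⟩
  have e3 : 2 * (k' : ℤ) = 2 + 2 * q + q * ((q : ℤ) - 1) * c := by
    rw [hc]; linear_combination (q : ℤ) * e2 + 2 * (1 - (q : ℤ)) * e1
  have hk1 : (1 : ℤ) ≤ k := by exact_mod_cast Nat.pos_of_ne_zero hk0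
  have hk'1 : (1 : ℤ) ≤ k' := by
    rcases Nat.eq_zero_or_pos k' with h0 | h0
    · rw [h0, mul_zero] at hk'; simp at hk'
    · exact_mod_cast h0
  have hj : (q : ℤ) ^ 2 + 1 ≤ 1 + (q : ℤ) * (1 + (k : ℤ) * ((q : ℤ) - 1)) := by
    nlinarith [mul_le_mul_of_nonneg_left hk1 (mul_nonneg (show (0 : ℤ) ≤ q by linarith) (show (0 : ℤ) ≤ (q : ℤ) - 1 by linarith))]
  have hlt : (k' : ℤ) < ((q : ℤ) + 1) ^ 2 := by
    by_contra hle
    have h1 := mul_le_mul hj (not_lt.mp hle) (by positivity) (by nlinarith)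
    rw [← h] at h1
    nlinarith [mul_pos (show (0 : ℤ) < (q : ℤ) + 1 by linarith) (show (0 : ℤ) < (q : ℤ) * ((q : ℤ) + 1) by positivity)]
  have hc0 : 0 ≤ c := by
    by_contra hneg
    nlinarith [mul_le_mul_of_nonneg_left (show c ≤ -1 by omega) (show (0 : ℤ) ≤ q * ((q : ℤ) - 1) by nlinarith)]
  have hc2 : c ≤ 2 := by
    by_contra hbig
    nlinarith [mul_le_mul_of_nonneg_left (show 3 ≤ c by omega) (show (0 : ℤ) ≤ q * ((q : ℤ) - 1) by nlinarith)]
  interval_cases c
  · have e4 : (k' : ℤ) = q + 1 := by linarith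
    rw [e4] at h
    have h5 : (k : ℤ) * ((q : ℤ) * ((q : ℤ) - 1) * ((q : ℤ) + 1)) = ((q : ℤ) + 1) * ((q : ℤ) * ((q : ℤ) - 1) * ((q : ℤ) + 1)) := by
      linear_combination -h
    have := mul_right_cancel₀ (show (q : ℤ) * ((q : ℤ) - 1) * ((q : ℤ) + 1) ≠ 0 by exact (mul_pos (mul_pos (by omega) (by omega)) (by omega)).ne') h5
    omega
  · exfalso
    obtain ⟨m, hm⟩ : ∃ m : ℤ, m = 1 + (q : ℤ) * (1 + (k : ℤ) * ((q : ℤ) - 1)) - (2 * (q : ℤ) ^ 2 - 4) := ⟨_, rfl⟩
    have e4 : 6 * (q : ℤ) + 10 = ((q : ℤ) ^ 2 + q + 2) * m := by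
      rw [hm]; linear_combination 2 * h + (1 + (q : ℤ) * (1 + (k : ℤ) * ((q : ℤ) - 1))) * e3
    have hm1 : 1 ≤ m := by
      by_contra hh
      nlinarith
    nlinarith
  · exfalso
    obtain ⟨m, hm⟩ : ∃ m : ℤ, m = 1 + (q : ℤ) * (1 + (k : ℤ) * ((q : ℤ) - 1)) - ((q : ℤ) ^ 2 + q - 1) := ⟨_, rfl⟩
    have e4 : 4 = ((q : ℤ) ^ 2 + 1) * m * 2 := by
      rw [hm]; linear_combination 2 * h + (1 + (q : ℤ) * (1 + (k : ℤ) * ((q : ℤ) - 1))) * e3
    have hm1 : 1 ≤ m := by
      by_contra hh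
      nlinarith
    nlinarith

set_option synthInstance.maxSize 1024 in
theorem so3_small : ∀ q < 12, ∀ i < 3, ∀ k < 15, 7 ≤ q ∧ q % 2 = 1 ∧ 1 ≤ i ∧
    1 + q * (1 + i * ((q - 1) / 2) + k * (q - 1)) ∣ (q + 1) * (q ^ 3 + 1) ∧
    1 + q * (1 + i * ((q - 1) / 2) + k * (q - 1)) ≤ q ^ 3 + 1 →
    i = 2 ∧ 1 + q * (1 + i * ((q - 1) / 2) + k * (q - 1)) = q ^ 3 + 1 := by decide +kernel

theorem zmod_fifth : ∀ j : ZMod 37, j ^ 5 = 1 → j = 1 := by decide +kernel

theorem nine_chord : ∀ a < 21, ∀ b < 21, a ∣ 40 → b ∣ 40 → a + b ≠ 32 := by decide +kernel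

theorem big_prime : ∀ q < 12, q = 7 ∨ q = 11 → ∃ r < 44, Nat.Prime r ∧ r ∣ q ^ 3 + 1 ∧
    ¬ r ∣ Nat.gcd 3 (q + 1) * q * (q - 1) ∧
    ∀ n, n ≡ 1 [MOD r] → n ∣ (q ^ 3 + 1) * (Nat.gcd 3 (q + 1) * q * (q - 1)) / r →
      n = 1 ∨ (q = 11 ∧ (n = 297 ∨ n = 3960) ∧ r = 37) := by
  intro q _ hq
  rcases hq with rfl | rfl
  · refine ⟨43, by norm_num, by norm_num, by norm_num, by norm_num, fun n h1 h2 => Or.inl ?_⟩
    have hle : n ≤ 336 := Nat.le_of_dvd (by norm_num) (by simpa using h2)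
    have := (show ∀ n < 337, n % 43 = 1 → n ∣ 336 → n = 1 by decide +kernel) n (by omega) h1 (by simpa using h2)
    exact this
  · refine ⟨37, by norm_num, by norm_num, by norm_num, by norm_num, fun n h1 h2 => ?_⟩
    have h2' : n ∣ 11880 := by simpa using h2
    have hle : n ≤ 11880 := Nat.le_of_dvd (by norm_num) h2'
    obtain ⟨t, ht⟩ : ∃ t, n = 37 * t + 1 := ⟨n / 37, by have := h1; simp [Nat.ModEq] at this; omega⟩
    have := (show ∀ t < 322, 37 * t + 1 ∣ 11880 → t = 0 ∨ (37 * t + 1 = 297 ∨ 37 * t + 1 = 3960) by decide +kernel) t (by omega) (ht ▸ h2')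
    rcases this with h | h
    · left; omega
    · right; exact ⟨rfl, by rw [ht]; exact h, rfl⟩

variable {F : Type*} [Field F] [Fintype F] {q : ℕ} {σ : F ≃+* F} {P : GL (Fin 3) F} {K : Subgroup (GL (Fin 3) F)}

section

variable (D : OData q σ P K) {u e v : Fin 3 → F} (R : RFr q (fixedField σ) P u e v) (hfull : ¬ suGL 3 F q ≤ K)

include D R hfull

theorem orb_dvd {j : ℕ} (hj : Nat.card (orb K u) = 1 + q * j) : 1 + q * j ∣ (q + 1) * (q ^ 3 + 1) ∧ 1 + q * j ≤ q ^ 3 + 1 := by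
  have hu0 : u ≠ 0 := (ne_zero_of_herm D.sig (by rw [R.pair.uv]; exact one_ne_zero)).1
  haveI : Finite (Submodule F (Fin 3 → F)) :=
    Finite.of_injective (fun L : Submodule F (Fin 3 → F) => (L : Set (Fin 3 → F))) SetLike.coe_injective
  refine ⟨?_, ?_⟩
  swap
  · rw [← hj, ← card_isoPts D.sig]
    exact Set.ncard_le_ncard (orb_subset D.sig D.le hu0 R.pair.uu) (Set.toFinite _)
  have hK := card_dvd_su D.sig (show 2 ≤ q by have := D.seven; omega) D.le
  rw [← card_orb_mul (K := K) hu0, hj, stab_card D R hfull] at hK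
  obtain ⟨m, hm⟩ : ∃ m, q = m + 1 := ⟨q - 1, by have := D.seven; omega⟩
  have e0 : q ^ 3 * (q ^ 2 - 1) * (q ^ 3 + 1) = q * (q - 1) * (q ^ 2 * ((q + 1) * (q ^ 3 + 1))) := by
    have : q ^ 2 - 1 = (q + 1) * (q - 1) := by simpa using Nat.sq_sub_sq q 1
    rw [this]; ring
  have h1 : q * (q - 1) * (1 + q * j) ∣ q * (q - 1) * (q ^ 2 * ((q + 1) * (q ^ 3 + 1))) := by
    rw [← e0]
    exact Dvd.dvd.trans ⟨Nat.gcd 3 (q + 1), by ring⟩ hK
  have h2 := Nat.dvd_of_mul_dvd_mul_left (show 0 < q * (q - 1) from Nat.mul_pos (by omega) (by have := D.seven; omega)) h1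
  refine Nat.Coprime.dvd_of_dvd_mul_left ?_ h2
  refine Nat.Coprime.pow_right 2 ?_
  rw [Nat.coprime_comm, Nat.coprime_add_mul_left_right]
  exact Nat.coprime_one_right q

/-- No transitive overgroup for seven and eleven. -/
theorem no_transitive (hq : q = 7 ∨ q = 11) (hj : Nat.card (orb K u) = q ^ 3 + 1) : False := by
  classical
  have hσ := D.sig
  have Pp := R.pair
  have hu0 : u ≠ 0 := (ne_zero_of_herm hσ (by rw [Pp.uv]; exact one_ne_zero)).1
  have hKcard : Nat.card K = (q ^ 3 + 1) * (Nat.gcd 3 (q + 1) * q * (q - 1)) := by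
    rw [← card_orb_mul (K := K) hu0, hj, stab_card D R hfull]
  obtain ⟨r, -, hr, hr1, hr2, hr3⟩ := big_prime q (by omega) hq
  haveI := Fact.mk hr
  obtain ⟨⟨x, hxK⟩, hx⟩ := exists_prime_orderOf_dvd_card' (G := K) r (hKcard ▸ hr1.mul_right _)
  have hxS : x ∉ Stab K u := fun h => hr2 (by
    rw [← stab_card D R hfull, ← hx, ← Subgroup.orderOf_coe]
    exact (orderOf_injective (Stab K u).subtype Subtype.val_injective ⟨x, h⟩).symm ▸ orderOf_dvd_natCard _)
  -- the cyclic Sylow subgroup through `x`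
  have hnd : ¬ r ^ 2 ∣ Nat.card K := by
    intro h
    rw [hKcard] at h
    have hcop : Nat.Coprime (r ^ 2) (Nat.gcd 3 (q + 1) * q * (q - 1)) :=
      Nat.Coprime.pow_left 2 ((hr.coprime_iff_not_dvd).mpr hr2)
    have h' := hcop.dvd_of_dvd_mul_right h
    rcases hq with rfl | rfl
    · have := Nat.le_of_dvd (by norm_num) h'
      have : r ∣ 344 := dvd_trans (dvd_pow_self r two_ne_zero) h'
      have hr5 : r ≤ 344 := Nat.le_of_dvd (by norm_num) this
      have hne : r ≠ 2 := fun e => hr2 (by rw [e]; norm_num)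
      have : r = 43 := (show ∀ r < 345, r ∣ 344 → Nat.Prime r → r ≠ 2 → r = 43 by decide +kernel) r (by omega) this hr hne
      subst this; norm_num at h'
    · have : r ∣ 1332 := dvd_trans (dvd_pow_self r two_ne_zero) h'
      have hr5 : r ≤ 1332 := Nat.le_of_dvd (by norm_num) this
      have hne : r ≠ 2 ∧ r ≠ 3 := ⟨fun e => hr2 (by rw [e]; norm_num), fun e => hr2 (by rw [e]; norm_num)⟩
      have h37 : r = 37 := by
        have h2' : r ∣ 2 ^ 2 * 3 ^ 2 * 37 := by simpa using this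
        rcases (Nat.Prime.dvd_mul hr).mp h2' with h | h
        · rcases (Nat.Prime.dvd_mul hr).mp h with h | h
          · exact absurd ((Nat.prime_dvd_prime_iff_eq hr Nat.prime_two).mp (hr.dvd_of_dvd_pow h)) hne.1
          · exact absurd ((Nat.prime_dvd_prime_iff_eq hr Nat.prime_three).mp (hr.dvd_of_dvd_pow h)) hne.2
        · exact (Nat.prime_dvd_prime_iff_eq hr (by norm_num)).mp h
      subst h37; norm_num at h'
  obtain ⟨Z, hZ⟩ : ∃ Z, Z = Subgroup.zpowers (⟨x, hxK⟩ : K) := ⟨_, rfl⟩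
  have hZc : Nat.card Z = r := by rw [hZ, Nat.card_zpowers, hx]
  obtain ⟨S, hZS⟩ := (IsPGroup.of_card (n := 1) (by rw [hZc, pow_one] : Nat.card Z = r ^ 1)).exists_le_sylow
  have hSc : Nat.card S = r := by
    rw [S.card_eq_multiplicity]
    have h1 : r ∣ Nat.card K := hKcard ▸ hr1.mul_right _
    have hle : (Nat.card K).factorization r ≤ 1 := by
      by_contra h2
      exact hnd ((pow_dvd_pow r (show 2 ≤ (Nat.card K).factorization r by omega)).trans (Nat.ordProj_dvd _ _))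
    have hge : 1 ≤ (Nat.card K).factorization r := (hr.dvd_iff_one_le_factorization Nat.card_pos.ne').mp h1
    rw [le_antisymm hle hge, pow_one]
  have hSZ : (S : Subgroup K) = Z := (Subgroup.eq_of_le_of_card_ge hZS (by rw [hSc, hZc])).symm
  have hcyc : ∀ y ∈ (S : Subgroup K), ∃ i : ℤ, (⟨x, hxK⟩ : K) ^ i = y := fun y hy => by
    rw [hSZ, hZ] at hy
    exact Subgroup.mem_zpowers_iff.mp hy
  obtain ⟨n, hn⟩ : ∃ n, n = Nat.card (Sylow r K) := ⟨_, rfl⟩
  have hn1 : n ≡ 1 [MOD r] := hn ▸ card_sylow_modEq_one r K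
  have hn2 : n ∣ (q ^ 3 + 1) * (Nat.gcd 3 (q + 1) * q * (q - 1)) / r := by
    have h := S.card_dvd_index
    have hidx : (S : Subgroup K).index = Nat.card K / r := by
      rw [← (S : Subgroup K).card_mul_index, hSc, Nat.mul_div_cancel_left _ hr.pos]
    rw [hidx, hKcard] at h
    exact hn ▸ h
  rcases hr3 n hn1 hn2 with h1 | ⟨rfl, h297 | h3960, rfl⟩
  · -- normal
    haveI : Subsingleton (Sylow r K) := (Nat.card_eq_one_iff_unique.mp (hn ▸ h1)).1
    have hnorm : (S : Subgroup K).Normal := Sylow.normal_of_subsingleton S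
    obtain ⟨t₀, ht₀, hts⟩ := exists_real D R (neg_mem (one_mem (fixedField σ))) (neg_ne_zero.mpr one_ne_zero)
      (zero_mem (fixedField σ))
    obtain ⟨n₁, hn₁, hns⟩ := exists_real D R (one_mem _) one_ne_zero (one_mem (fixedField σ))
    have hxS' : (⟨x, hxK⟩ : K) ∈ (S : Subgroup K) := hSZ ▸ hZ ▸ Subgroup.mem_zpowers _
    have hconj : ∀ g : K, ∃ i : ℤ, g * ⟨x, hxK⟩ * g⁻¹ = (⟨x, hxK⟩ : K) ^ i := fun g => by
      obtain ⟨i, hi⟩ := hcyc _ (hnorm.conj_mem _ hxS' g)
      exact ⟨i, hi.symm⟩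
    have hpowc : ∀ (g : K) (i j : ℤ), g * ⟨x, hxK⟩ * g⁻¹ = (⟨x, hxK⟩ : K) ^ i →
        g * (⟨x, hxK⟩ : K) ^ j * g⁻¹ = (⟨x, hxK⟩ : K) ^ (i * j) := fun g i j h => by
      rw [← conj_zpow, h, ← _root_.zpow_mul]
    obtain ⟨X, hX⟩ : ∃ X : K, X = ⟨x, hxK⟩ := ⟨_, rfl⟩
    rw [← hX] at hconj hpowc
    obtain ⟨A, hA⟩ : ∃ A : K, A = ⟨t₀, ht₀⟩ := ⟨_, rfl⟩
    obtain ⟨B, hB⟩ : ∃ B : K, B = ⟨n₁, hn₁⟩ := ⟨_, rfl⟩
    obtain ⟨a, ha⟩ := hconj A
    obtain ⟨a', ha'⟩ := hconj A⁻¹
    obtain ⟨b, hb⟩ := hconj B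
    obtain ⟨b', hb'⟩ := hconj B⁻¹
    have haa : X ^ (a * a') = X := by
      rw [← hpowc A a a' ha, ← ha', inv_inv]; group
    have hbb : X ^ (b * b') = X := by
      rw [← hpowc B b b' hb, ← hb', inv_inv]; group
    have hcX : A * B * A⁻¹ * B⁻¹ * X * (A * B * A⁻¹ * B⁻¹)⁻¹ = X := by
      have e1 : B⁻¹ * X * B = X ^ b' := by rw [← hb', inv_inv]
      have e2 : A⁻¹ * X ^ b' * A = X ^ (a' * b') := by
        have := hpowc A⁻¹ a' b' ha'
        rwa [inv_inv] at this
      have e3 : B * X ^ (a' * b') * B⁻¹ = X ^ (b * (a' * b')) := hpowc B b _ hb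
      have e4 : A * X ^ (b * (a' * b')) * A⁻¹ = X ^ (a * (b * (a' * b'))) := hpowc A a _ ha
      calc A * B * A⁻¹ * B⁻¹ * X * (A * B * A⁻¹ * B⁻¹)⁻¹ = A * (B * (A⁻¹ * (B⁻¹ * X * B) * A) * B⁻¹) * A⁻¹ := by group
        _ = X ^ (a * (b * (a' * b'))) := by rw [e1, e2, e3, e4]
        _ = (X ^ (a * a')) ^ (b * b') := by rw [← _root_.zpow_mul]; congr 1; ring
        _ = X := by rw [haa, hbb]
    obtain ⟨c, hc⟩ : ∃ c : GL (Fin 3) F, c = t₀ * n₁ * t₀⁻¹ * n₁⁻¹ := ⟨_, rfl⟩
    have hcx : c * x = x * c := by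
      have h := congrArg (fun y : K => (y : GL (Fin 3) F)) hcX
      simp only [hA, hB, hX, Subgroup.coe_mul, Subgroup.coe_inv] at h
      rw [← hc] at h
      exact mul_inv_eq_iff_eq_mul.mp h
    have hinv : ∀ (g : GL (Fin 3) F) (a : F), a ≠ 0 → (g : Matrix (Fin 3) (Fin 3) F) *ᵥ u = a • u →
        ((g⁻¹ : GL (Fin 3) F) : Matrix (Fin 3) (Fin 3) F) *ᵥ u = a⁻¹ • u := fun g a ha0 hgu => by
      conv_lhs => rw [← inv_smul_smul₀ ha0 u, Matrix.mulVec_smul, ← hgu, gl_inv_mulVec_cancel]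
    have hcu : (c : Matrix (Fin 3) (Fin 3) F) *ᵥ u = u := by
      simp only [hc, gl_mul_mulVec, hinv n₁ 1 one_ne_zero hns.gu, hinv t₀ (-1) (neg_ne_zero.mpr one_ne_zero) hts.gu,
        Matrix.mulVec_smul, hns.gu, hts.gu]
      simp
    have hc1 : c ≠ 1 := fun e1 => by
      rw [hc, mul_inv_eq_one, mul_inv_eq_iff_eq_mul] at e1
      obtain ⟨ω, a, h3, hN, -, -, hP⟩ := (cent_stab D R hfull hts (mem_Stab.mpr ⟨hn₁, _, hns.gu⟩)).mp e1.symm
      have h' := congrArg (fun y => hermForm 3 F q y e) (hns.gv.symm.trans hP.gv)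
      simp [(sf hσ).add_left, (sf hσ).smul_left, Pp.ue, Pp.ve] at h'
      exact R.ee h'
    obtain ⟨w, hwd⟩ : ∃ w, w = (x : Matrix (Fin 3) (Fin 3) F) *ᵥ u := ⟨_, rfl⟩
    have hww : hermForm 3 F q w w = 0 := by rw [hwd]; exact (mem_GU_iff.mp (D.le hxK).1 u u).trans Pp.uu
    have hwu := fix_unique hσ Pp R.ee (D.le (hc ▸ mul_mem (mul_mem (mul_mem ht₀ hn₁) (inv_mem ht₀)) (inv_mem hn₁) : c ∈ K))
      hc1 hcu (μ := 1) hww (by rw [one_smul, hwd, ← gl_mul_mulVec, hcx, gl_mul_mulVec, hcu])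
    exact hxS (mem_Stab.mpr ⟨hxK, _, hwd ▸ prop_of_orth hσ Pp R.ee hww hwu⟩)
  · -- a normaliser of order `1480`: an element of order five centralises `x`
    have hK' : Nat.card K = 439560 := by rw [hKcard]; norm_num
    have hN : Nat.card (Subgroup.normalizer ((S : Subgroup K) : Set K)) = 1480 := by
      have h := (Subgroup.normalizer ((S : Subgroup K) : Set K)).card_mul_index
      rw [show (Subgroup.normalizer ((S : Subgroup K) : Set K)).index = _ from S.card_eq_index_normalizer.symm,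
        ← hn, h297, hK'] at h
      omega
    haveI : Fact (Nat.Prime 5) := ⟨by norm_num⟩
    obtain ⟨⟨c', hcN⟩, hc⟩ := exists_prime_orderOf_dvd_card' (G := Subgroup.normalizer ((S : Subgroup K) : Set K)) 5
      (by rw [hN]; norm_num)
    rw [← Subgroup.orderOf_coe] at hc
    change orderOf c' = 5 at hc
    have hxS' : (⟨x, hxK⟩ : K) ∈ (S : Subgroup K) := hSZ ▸ hZ ▸ Subgroup.mem_zpowers _
    obtain ⟨i, hi⟩ := hcyc _ ((Subgroup.mem_normalizer_iff.mp hcN _).mp hxS')
    obtain ⟨X, hX⟩ : ∃ X : K, X = ⟨x, hxK⟩ := ⟨_, rfl⟩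
    rw [← hX] at hi
    have hpow : ∀ n : ℕ, c' ^ n * X * (c' ^ n)⁻¹ = X ^ (i ^ n) := fun n => by
      induction n with
      | zero => simp
      | succ n ih =>
        calc c' ^ (n + 1) * X * (c' ^ (n + 1))⁻¹ = c' ^ n * (c' * X * c'⁻¹) * (c' ^ n)⁻¹ := by group
          _ = (X ^ (i ^ n)) ^ i := by rw [← hi, ← conj_zpow, ih]
          _ = X ^ (i ^ (n + 1)) := by rw [← _root_.zpow_mul, pow_succ]
    have hX37 : orderOf X = 37 := hX ▸ hx
    have h5 : ((i ^ 5 : ℤ) : ZMod 37) = ((1 : ℤ) : ZMod 37) := by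
      have h := hpow 5
      rw [← hc, pow_orderOf_eq_one, hc, one_mul, inv_one, mul_one] at h
      refine ((ZMod.intCast_eq_intCast_iff_dvd_sub _ _ 37).mpr ?_).symm
      rw [← hX37]
      refine orderOf_dvd_iff_zpow_eq_one.mpr ?_
      rw [_root_.zpow_sub, ← h, zpow_one, mul_inv_cancel]
    have hi1 : X ^ i = X := by
      have h1 : (i : ZMod 37) = ((1 : ℤ) : ZMod 37) := by
        push_cast at h5 ⊢
        exact zmod_fifth _ h5
      have h2 := (ZMod.intCast_eq_intCast_iff_dvd_sub _ _ 37).mp h1.symm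
      rw [← hX37] at h2
      have h3 := orderOf_dvd_iff_zpow_eq_one.mp h2
      rwa [_root_.zpow_sub, zpow_one, mul_inv_eq_one] at h3
    obtain ⟨c, hcd⟩ : ∃ c : GL (Fin 3) F, c = c' := ⟨_, rfl⟩
    have hcK : c ∈ K := hcd ▸ c'.2
    have hcx : c * x = x * c := by
      have h := congrArg (fun y : K => (y : GL (Fin 3) F)) (mul_inv_eq_iff_eq_mul.mp (hi.symm.trans hi1))
      simpa only [hX, Subgroup.coe_mul, ← hcd] using h
    have hc5 : orderOf c = 5 := by rw [hcd, Subgroup.orderOf_coe, hc]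
    haveI : Finite (Submodule F (Fin 3 → F)) :=
      Finite.of_injective (fun L : Submodule F (Fin 3 → F) => (L : Set (Fin 3 → F))) SetLike.coe_injective
    obtain ⟨U, hU⟩ : ∃ U, U = Subgroup.zpowers c := ⟨_, rfl⟩
    have hUp : IsPGroup 5 U := IsPGroup.of_card (n := 1) (by rw [hU, Nat.card_zpowers, hc5, pow_one])
    have hUK : U ≤ K := hU ▸ Subgroup.zpowers_le.mpr hcK
    have hmove : ∀ g ∈ U, ∀ L ∈ orb K u, lineHom F g L ∈ orb K u := by
      rintro g hg L ⟨k, hk, rfl⟩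
      rw [lineHom_span]
      exact orb_map (hUK hg) ⟨k, hk, rfl⟩
    letI : MulAction U (orb K u) :=
      { smul := fun g L => ⟨lineHom F (g : GL (Fin 3) F) L, hmove g g.2 L L.2⟩
        one_smul := fun L => Subtype.ext (by
          show lineHom F ((1 : U) : GL (Fin 3) F) L = L
          rw [Subgroup.coe_one, map_one, Equiv.Perm.one_apply])
        mul_smul := fun g h L => Subtype.ext (by
          show lineHom F ((g * h : U) : GL (Fin 3) F) L = lineHom F g (lineHom F h L)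
          rw [Subgroup.coe_mul, map_mul, Equiv.Perm.mul_apply]) }
    obtain ⟨L, hL⟩ := hUp.nonempty_fixed_point_of_prime_not_dvd_card (orb K u) (by rw [hj]; norm_num)
    obtain ⟨g, hg, hgL⟩ := L.2
    have hcL : lineHom F c L = L := congrArg Subtype.val (hL ⟨c, hU ▸ Subgroup.mem_zpowers c⟩)
    rw [hgL, lineHom_span] at hcL
    have hgu0 : (g : Matrix (Fin 3) (Fin 3) F) *ᵥ u ≠ 0 := fun h =>
      hu0 (gl_mulVec_injective g (h.trans (Matrix.mulVec_zero _).symm))
    obtain ⟨μ, -, hμ⟩ : ∃ μ : F, μ ≠ 0 ∧ (c : Matrix (Fin 3) (Fin 3) F) *ᵥ ((g : Matrix (Fin 3) (Fin 3) F) *ᵥ u) =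
        μ • ((g : Matrix (Fin 3) (Fin 3) F) *ᵥ u) := exists_smul_of_span
      (fun h' => hgu0 (gl_mulVec_injective c (h'.trans (Matrix.mulVec_zero _).symm))) hcL
    obtain ⟨h, hhd⟩ : ∃ h, h = g⁻¹ * c * g := ⟨_, rfl⟩
    obtain ⟨Y, hYd⟩ : ∃ Y, Y = g⁻¹ * x * g := ⟨_, rfl⟩
    have hhY : h * Y = Y * h := by
      rw [hhd, hYd, show g⁻¹ * c * g * (g⁻¹ * x * g) = g⁻¹ * (c * x) * g by group,
        show g⁻¹ * x * g * (g⁻¹ * c * g) = g⁻¹ * (x * c) * g by group, hcx]
    have hhS : h ∈ Stab K u := mem_Stab.mpr ⟨hhd ▸ mul_mem (mul_mem (inv_mem hg) hcK) hg, μ, by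
      rw [hhd, gl_mul_mulVec, gl_mul_mulVec, hμ, Matrix.mulVec_smul, gl_inv_mulVec_cancel]⟩
    obtain ⟨ω, a, y, h3, hN', ha, ha0, hy, hs'⟩ := stab_shape D R hfull hhS
    have hh5 : h ^ 5 = 1 := by
      rw [hhd]
      have := conj_pow (i := 5) (a := g⁻¹) (b := c)
      rw [inv_inv] at this
      rw [this, ← hc5, pow_orderOf_eq_one, mul_one, inv_mul_cancel]
    have hh1 : h ≠ 1 := fun e1 => by
      have : c = 1 := by rw [show c = g * h * g⁻¹ by rw [hhd]; group, e1, mul_one, mul_inv_cancel]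
      rw [this, orderOf_one] at hc5
      omega
    have hs := sf hσ
    have hpw : (ω * a) ^ 5 = 1 := by
      have hpw : ∀ n : ℕ, ((h ^ n : GL (Fin 3) F) : Matrix (Fin 3) (Fin 3) F) *ᵥ u = (ω * a) ^ n • u := fun n => by
        induction n with
        | zero => simp
        | succ n ih => rw [pow_succ, gl_mul_mulVec, hs'.gu, Matrix.mulVec_smul, ih, smul_smul, pow_succ, mul_comm]
      have h' := hpw 5
      rw [hh5, Units.val_one, Matrix.one_mulVec] at h'
      have h'' := congrArg (fun z => hermForm 3 F 11 z v) h'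
      simpa only [hs.smul_left, Pp.uv, mul_one] using h''.symm
    have haa : a * a ≠ 1 := fun e1 => by
      have hω : ω = 1 := by
        have : (ω * a) ^ 10 = 1 := by rw [show (10 : ℕ) = 5 * 2 from rfl, pow_mul, hpw, one_pow]
        linear_combination this - ω ^ 10 * ((a * a) ^ 4 + (a * a) ^ 3 + (a * a) ^ 2 + a * a + 1) * e1 -
          (ω ^ 7 + ω ^ 4 + ω) * h3
      rw [hω, one_mul] at hpw
      have ha1 : a = 1 := by linear_combination hpw - a * (a * a + 1) * e1
      have hgu : (h : Matrix (Fin 3) (Fin 3) F) *ᵥ u = u := by rw [hs'.gu, hω, ha1, one_mul, one_smul]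
      obtain ⟨p, hchar⟩ := CharP.exists F
      haveI := hchar
      obtain ⟨m, hp, hm⟩ := FiniteField.card F p
      have hp11 : p = 11 := by
        refine (Nat.prime_dvd_prime_iff_eq hp (by norm_num)).mp (hp.dvd_of_dvd_pow (n := 2) ?_)
        rw [← hσ.card, hm]; exact dvd_pow_self p m.ne_zero
      subst hp11
      refine hh1 (orderOf_eq_one_iff.mp (Nat.dvd_one.mp ?_))
      exact Nat.dvd_gcd (orderOf_dvd_of_pow_eq_one hh5) (orderOf_dvd_of_pow_eq_one
        (fixer_pow hσ Pp R.ee hp (D.le (mem_Stab.mp hhS).1) hgu))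
    obtain ⟨w, hwd⟩ : ∃ w, w = (Y : Matrix (Fin 3) (Fin 3) F) *ᵥ u := ⟨_, rfl⟩
    have hd := pair_dec hσ Pp R.ee w
    have hhw : (h : Matrix (Fin 3) (Fin 3) F) *ᵥ w = (ω * a) • w := by
      rw [hwd, ← gl_mul_mulVec, hhY, gl_mul_mulVec, hs'.gu, Matrix.mulVec_smul]
    nth_rw 1 [hd] at hhw
    simp only [Matrix.mulVec_add, Matrix.mulVec_smul, hs'.gu, hs'.ge, hs'.gv] at hhw
    have cu := congrArg (fun z => hermForm 3 F 11 z u) hhw
    have ce := congrArg (fun z => hermForm 3 F 11 z e) hhw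
    simp only [hs.add_left, hs.smul_left, Pp.uu, Pp.vu, Pp.ue, Pp.ve, orth_swp hσ Pp.ue,
      mul_zero, add_zero, zero_add, mul_one] at cu ce
    have hω0 : ω ≠ 0 := left_ne_zero_of_mul_eq_one hN'
    have hwu : hermForm 3 F 11 w u = 0 := by
      refine (mul_eq_zero.mp (show hermForm 3 F 11 w u * (ω * (a⁻¹ - a)) = 0 by linear_combination cu)).resolve_right ?_
      exact mul_ne_zero hω0 (sub_ne_zero.mpr fun e1 => haa (by nth_rw 1 [← e1]; exact inv_mul_cancel₀ ha0))
    have hwe : hermForm 3 F 11 w e = 0 := by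
      rw [hwu] at ce
      simp only [zero_mul, add_zero, zero_smul] at ce
      rw [← mul_assoc, div_mul_eq_mul_div, div_mul_cancel₀ _ R.ee] at ce
      refine (mul_eq_zero.mp (show hermForm 3 F 11 w e * (ω * (1 - a)) = 0 by linear_combination ce)).resolve_right ?_
      exact mul_ne_zero hω0 (sub_ne_zero.mpr fun e1 => haa (by rw [← e1, one_mul]))
    rw [hwu, hwe, zero_div, zero_smul, zero_smul, add_zero, add_zero] at hd
    have hYS : Y ∈ Stab K u := mem_Stab.mpr ⟨hYd ▸ mul_mem (mul_mem (inv_mem hg) hxK) hg, _, hwd ▸ hd⟩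
    have hY37 : orderOf Y = 37 := by
      refine orderOf_eq_prime ?_ fun e1 => ?_
      · rw [hYd]
        have := conj_pow (i := 37) (a := g⁻¹) (b := x)
        rw [inv_inv] at this
        rw [this, ← show orderOf x = 37 by rw [← hx, ← Subgroup.orderOf_coe], pow_orderOf_eq_one, mul_one,
          inv_mul_cancel]
      · have : x = 1 := by rw [show x = g * Y * g⁻¹ by rw [hYd]; group, e1, mul_one, mul_inv_cancel]
        subst this
        exact hxS (one_mem _)
    have h37 := orderOf_dvd_natCard (G := Stab K u) ⟨Y, hYS⟩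
    rw [← Subgroup.orderOf_coe, stab_card D R hfull] at h37
    change orderOf Y ∣ _ at h37
    rw [hY37] at h37
    norm_num at h37
  · -- Burnside
    have hK' : Nat.card K = 439560 := by rw [hKcard]; norm_num
    have hN : Nat.card (Subgroup.normalizer ((S : Subgroup K) : Set K)) = 111 := by
      have h := (Subgroup.normalizer ((S : Subgroup K) : Set K)).card_mul_index
      rw [show (Subgroup.normalizer ((S : Subgroup K) : Set K)).index = _ from S.card_eq_index_normalizer.symm,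
        ← hn, h3960, hK'] at h
      omega
    obtain ⟨ω, hω, hω1⟩ : ∃ ω : {w : F // w ^ 3 = 1 ∧ w * σ w = 1}, True ∧ (ω : F) ≠ 1 := by
      by_contra hcon
      push Not at hcon
      have h1 : Nat.card {w : F // w ^ 3 = 1 ∧ w * σ w = 1} ≤ 1 := by
        haveI : Subsingleton {w : F // w ^ 3 = 1 ∧ w * σ w = 1} :=
          ⟨fun a b => Subtype.ext ((hcon a trivial).trans (hcon b trivial).symm)⟩
        exact Finite.card_le_one_iff_subsingleton.mpr inferInstance
      rw [cub_card hσ] at h1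
      norm_num at h1
    obtain ⟨z, hzK, hz⟩ := scal_mem D ω.2.1 ω.2.2
    have hzc : ∀ g : K, (⟨z, hzK⟩ : K) * g = g * ⟨z, hzK⟩ := fun g => Subtype.ext (gl_ext_mulVec fun y => by
      simp only [Subgroup.coe_mul, gl_mul_mulVec, hz, Matrix.smul_mulVec, Matrix.one_mulVec, Matrix.mulVec_smul])
    obtain ⟨W, hW⟩ : ∃ W, W = (S : Subgroup K) ⊔ Subgroup.zpowers (⟨z, hzK⟩ : K) := ⟨_, rfl⟩
    have hWN : W ≤ Subgroup.normalizer ((S : Subgroup K) : Set K) := hW ▸ sup_le Subgroup.le_normalizer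
      (Subgroup.zpowers_le.mpr (Subgroup.mem_normalizer_iff.mpr fun y => by
        rw [hzc y, mul_inv_cancel_right]))
    have hz3 : orderOf (⟨z, hzK⟩ : K) = 3 := by
      have hz33 : z * z * z = 1 := gl_ext_mulVec fun y => by
        simp only [gl_mul_mulVec, hz, Matrix.smul_mulVec, Matrix.one_mulVec, smul_smul, Units.val_one]
        rw [show (ω : F) * ((ω : F) * ω) = 1 by linear_combination ω.2.1, one_smul]
      refine orderOf_eq_prime (Subtype.ext ?_) fun e1 => hω1 ?_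
      · show z ^ 3 = 1
        rw [pow_succ, pow_two]; exact hz33
      · have h' := congrArg (fun g : K => ((g : GL (Fin 3) F) : Matrix (Fin 3) (Fin 3) F) 0 0) e1
        simpa [hz] using h'
    have hNW : Subgroup.normalizer ((S : Subgroup K) : Set K) = W := by
      refine (Subgroup.eq_of_le_of_card_ge hWN ?_).symm
      rw [hN]
      have h1 : 37 ∣ Nat.card W := by
        have hle' : (S : Subgroup K) ≤ W := by rw [hW]; exact le_sup_left
        rw [← hSc]; exact Subgroup.card_dvd_of_le hle'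
      have hle : Subgroup.zpowers (⟨z, hzK⟩ : K) ≤ W := by rw [hW]; exact le_sup_right
      have h2 : 3 ∣ Nat.card W := by
        have h' := Subgroup.card_dvd_of_le hle
        rwa [Nat.card_zpowers, hz3] at h'
      exact Nat.le_of_dvd Nat.card_pos (Nat.Coprime.mul_dvd_of_dvd_of_dvd (by norm_num) h1 h2)
    have hWc : W ≤ Subgroup.centralizer ((S : Subgroup K) : Set K) := by
      rw [hW]
      refine sup_le (fun y hy => Subgroup.mem_centralizer_iff.mpr fun w hw => ?_)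
        (Subgroup.zpowers_le.mpr (Subgroup.mem_centralizer_iff.mpr fun w _ => (hzc w).symm))
      obtain ⟨i, rfl⟩ := hcyc y hy
      obtain ⟨j, rfl⟩ := hcyc w hw
      rw [← _root_.zpow_add, ← _root_.zpow_add, add_comm]
    have hP : Subgroup.normalizer ((S : Subgroup K) : Set K) ≤ Subgroup.centralizer ((S : Subgroup K) : Set K) :=
      hNW ▸ hWc
    obtain ⟨N, hNd⟩ : ∃ N, N = (MonoidHom.transferSylow S hP).ker := ⟨_, rfl⟩
    have hcomp := MonoidHom.ker_transferSylow_isComplement' S hP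
    have hNc : Nat.card N = 11880 := by
      have h := hcomp.card_mul_card
      rw [← hNd, hSc, hK'] at h
      omega
    obtain ⟨N', hN'⟩ : ∃ N' : Subgroup (GL (Fin 3) F), N' = N.map K.subtype := ⟨_, rfl⟩
    have hN'K : N' ≤ K := hN' ▸ Subgroup.map_subtype_le N
    have hstab : Stab N' u = Stab K u := by
      refine le_antisymm (inf_le_inf_right _ hN'K) fun g hg => ⟨?_, hg.2⟩
      rw [hN']
      refine ⟨⟨g, hg.1⟩, ?_, rfl⟩
      rw [hNd]
      refine MonoidHom.mem_ker.mpr (orderOf_eq_one_iff.mp ?_)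
      have h1 : orderOf (MonoidHom.transferSylow S hP ⟨g, hg.1⟩) ∣ 37 :=
        (orderOf_dvd_natCard _).trans hSc.dvd
      have h2 : orderOf (MonoidHom.transferSylow S hP ⟨g, hg.1⟩) ∣ 330 := by
        refine (orderOf_map_dvd _ _).trans ?_
        rw [← Subgroup.orderOf_coe]
        have h := orderOf_dvd_natCard (G := Stab K u) ⟨g, hg⟩
        rw [← Subgroup.orderOf_coe, stab_card D R hfull] at h
        simpa using h
      exact Nat.dvd_one.mp (Nat.dvd_gcd h1 h2)
    have horb : Nat.card (orb N' u) = 36 := by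
      have h := card_orb_mul (K := N') hu0
      rw [hstab, stab_card D R hfull, hN', Nat.card_congr (Subgroup.equivMapOfInjective N K.subtype
        Subtype.val_injective).toEquiv.symm, hNc] at h
      rw [show Nat.gcd 3 (11 + 1) * 11 * (11 - 1) = 330 by norm_num, ← hN'] at h
      omega
    -- an element of order eleven fixes exactly one point
    obtain ⟨n₁, hn₁, hns⟩ := exists_real D R (one_mem _) one_ne_zero (one_mem (fixedField σ))
    haveI : Fact (Nat.Prime 11) := ⟨by norm_num⟩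
    obtain ⟨p, hchar⟩ := CharP.exists F
    haveI := hchar
    obtain ⟨m, hp, hm⟩ := FiniteField.card F p
    have hp11 : p = 11 := by
      refine (Nat.prime_dvd_prime_iff_eq hp (by norm_num)).mp (hp.dvd_of_dvd_pow (n := 2) ?_)
      rw [← hσ.card, hm]; exact dvd_pow_self p m.ne_zero
    subst hp11
    have hn121 : n₁ ^ (11 ^ 2) = 1 := fixer_pow hσ Pp R.ee hp (D.le hn₁) (by rw [hns.gu, one_smul])
    have hnN : n₁ ∈ N' := (hstab.ge (mem_Stab.mpr ⟨hn₁, _, hns.gu⟩)).1
    haveI : Finite (Submodule F (Fin 3 → F)) :=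
      Finite.of_injective (fun L : Submodule F (Fin 3 → F) => (L : Set (Fin 3 → F))) SetLike.coe_injective
    obtain ⟨U, hU⟩ : ∃ U, U = Subgroup.zpowers n₁ := ⟨_, rfl⟩
    have hUN : U ≤ N' := hU ▸ Subgroup.zpowers_le.mpr hnN
    have hUp : IsPGroup 11 U := fun y => ⟨2, Subtype.ext (by
      obtain ⟨i, hi⟩ : ∃ i : ℤ, n₁ ^ i = (y : GL (Fin 3) F) := by
        have h := y.2
        simp only [hU, Subgroup.mem_zpowers_iff] at h
        exact h
      rw [Subgroup.coe_pow, Subgroup.coe_one, ← hi, ← zpow_natCast, ← _root_.zpow_mul, mul_comm, _root_.zpow_mul,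
        zpow_natCast, hn121, _root_.one_zpow])⟩
    have hmove : ∀ g ∈ U, ∀ L ∈ orb N' u, lineHom F g L ∈ orb N' u := by
      rintro g hg L ⟨k, hk, rfl⟩
      rw [lineHom_span]
      exact orb_map (hUN hg) ⟨k, hk, rfl⟩
    letI : MulAction U (orb N' u) :=
      { smul := fun g L => ⟨lineHom F (g : GL (Fin 3) F) L, hmove g g.2 L L.2⟩
        one_smul := fun L => Subtype.ext (by
          show lineHom F ((1 : U) : GL (Fin 3) F) L = L
          rw [Subgroup.coe_one, map_one, Equiv.Perm.one_apply])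
        mul_smul := fun g h L => Subtype.ext (by
          show lineHom F ((g * h : U) : GL (Fin 3) F) L = lineHom F g (lineHom F h L)
          rw [Subgroup.coe_mul, map_mul, Equiv.Perm.mul_apply]) }
    have hmod := hUp.card_modEq_card_fixedPoints (orb N' u)
    have hfixed : MulAction.fixedPoints U (orb N' u) = {⟨_, 1, one_mem N', rfl⟩} := by
      have hn1 : n₁ ≠ 1 := fun e1 => by
        have h' := congrArg (fun z => hermForm 3 F 11 z e) hns.gv
        rw [e1, Units.val_one, Matrix.one_mulVec] at h'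
        simp [(sf hσ).add_left, (sf hσ).smul_left, Pp.ue, Pp.ve] at h'
        exact R.ee h'.symm
      have hUu : ∀ g : U, ((g : GL (Fin 3) F) : Matrix (Fin 3) (Fin 3) F) *ᵥ u = u := by
        intro g
        have : U ≤ {g : GL (Fin 3) F | (g : Matrix (Fin 3) (Fin 3) F) *ᵥ u = u} := by
          intro y hy
          have hy' : y ∈ Submonoid.powers n₁ := mem_powers_iff_mem_zpowers.mpr (hU ▸ hy)
          obtain ⟨i, rfl⟩ := hy'
          exact pow_fix D R (by rw [hns.gu, one_smul]) i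
        exact this g.2
      ext L
      rw [Set.mem_singleton_iff, MulAction.mem_fixedPoints]
      constructor
      · intro hL
        obtain ⟨g, hg, hgL⟩ := L.2
        obtain ⟨w, hwd⟩ : ∃ w, w = (g : Matrix (Fin 3) (Fin 3) F) *ᵥ u := ⟨_, rfl⟩
        have hfixL : lineHom F n₁ L = L := congrArg Subtype.val (hL ⟨n₁, hU ▸ Subgroup.mem_zpowers n₁⟩)
        rw [hgL, ← hwd, lineHom_span] at hfixL
        have hw0 : w ≠ 0 := fun h => hu0 (gl_mulVec_injective g ((hwd.symm.trans h).trans (Matrix.mulVec_zero _).symm))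
        obtain ⟨μ, -, hμ⟩ : ∃ μ : F, μ ≠ 0 ∧ (n₁ : Matrix (Fin 3) (Fin 3) F) *ᵥ w = μ • w :=
          exists_smul_of_span (fun h' => hw0 (gl_mulVec_injective n₁ (h'.trans (Matrix.mulVec_zero _).symm))) hfixL
        have hww : hermForm 3 F 11 w w = 0 := by rw [hwd]; exact (mem_GU_iff.mp (D.le (hN'K hg)).1 u u).trans Pp.uu
        have hwu := fix_unique hσ Pp R.ee (D.le hn₁) hn1 (by rw [hns.gu, one_smul]) hww hμ
        have hp' := prop_of_orth hσ Pp R.ee hww hwu
        refine Subtype.ext ?_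
        show (L : Submodule F (Fin 3 → F)) = Submodule.span F {((1 : GL (Fin 3) F) : Matrix (Fin 3) (Fin 3) F) *ᵥ u}
        rw [Units.val_one, Matrix.one_mulVec, hgL, ← hwd]
        exact span_eq_span (fun e0 => hw0 (by rw [hp', e0, zero_smul])) hp'
      · rintro rfl g
        refine Subtype.ext ?_
        show lineHom F (g : GL (Fin 3) F) (Submodule.span F {((1 : GL (Fin 3) F) : Matrix (Fin 3) (Fin 3) F) *ᵥ u}) =
          Submodule.span F {((1 : GL (Fin 3) F) : Matrix (Fin 3) (Fin 3) F) *ᵥ u}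
        rw [lineHom_span, Units.val_one, Matrix.one_mulVec, hUu g]
    rw [horb, hfixed, Nat.card_unique] at hmod
    norm_num [Nat.ModEq] at hmod

/-- The orbit of a real point is the real points. -/
theorem orb_real : Nat.card (orb K u) = 1 + q := by
  obtain ⟨i, k, hi, hj, hA0, hch⟩ := chord_data D R hfull
  obtain ⟨hd, hle⟩ := orb_dvd D R hfull hj
  have h7 := D.seven
  have hqo : Odd q := (D.sig.odd_iff).mpr D.h2
  by_cases hi0 : i = 0
  · subst hi0
    simp only [zero_mul, add_zero] at hj hd hA0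
    rcases so3_arith h7 hd with rfl | hk
    · rw [hj]; simp
    · exfalso
      -- all points: the chord meets the orbit outside the real points
      obtain ⟨d, hd0, hdd⟩ := D.sig.exists_skew
      haveI : Finite (Submodule F (Fin 3 → F)) :=
        Finite.of_injective (fun L : Submodule F (Fin 3 → F) => (L : Set (Fin 3 → F))) SetLike.coe_injective
      have hu0 : u ≠ 0 := (ne_zero_of_herm D.sig (by rw [R.pair.uv]; exact one_ne_zero)).1
      have hall : orb K u = IsoPts F q := Set.eq_of_subset_of_ncard_le (orb_subset D.sig D.le hu0 R.pair.uu) (by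
        show Nat.card (IsoPts F q) ≤ Nat.card (orb K u)
        rw [card_isoPts D.sig, hj, hk]
        obtain ⟨m, rfl⟩ : ∃ m, q = m + 1 := ⟨q - 1, by omega⟩
        simp only [Nat.add_sub_cancel]; ring_nf; rfl) (Set.toFinite _)
      have hmem : ((0 : F), d) ∈ Anorm σ K u e v := ⟨by simp, by
        show Submodule.span F {pt u e v 0 d} ∈ orb K u
        rw [hall]
        refine ⟨_, (ne_zero_of_herm D.sig (by rw [(pt_herm D R 0 d).1]; exact one_ne_zero)).1, ?_, rfl⟩
        have hs := sf D.sig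
        simp only [pt, hs.add_left, hs.add_right, hs.smul_left, hs.smul_right, R.pair.uu, R.pair.vv, R.pair.uv,
          R.pair.vu, R.pair.ue, R.pair.ve, orth_swp D.sig R.pair.ue, orth_swp D.sig R.pair.ve, map_zero]
        linear_combination hdd⟩
      have h2 : 2 ≤ Nat.card {p : Anorm σ K u e v // (p : F × F).1 = 0} :=
        Finite.one_lt_card_iff_nontrivial.mpr ⟨⟨⟨_, zero_mem_anorm D R⟩, rfl⟩, ⟨⟨_, hmem⟩, rfl⟩, fun h =>
          hd0 (congrArg (fun p : {p : Anorm σ K u e v // (p : F × F).1 = 0} => (p.1 : F × F).2) h).symm⟩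
      omega
  · obtain ⟨o₂, o₃, d₂, d₃, l₂, l₃, he⟩ := hch.resolve_left hi0
    obtain ⟨m, hm⟩ := hqo
    have hh : (q - 1) / 2 = m := by omega
    rw [hh] at d₂ d₃ l₂ l₃ he
    have hm5 : m ≤ 5 := two_fix_arith (by
      have : 1 * m ≤ i * m := Nat.mul_le_mul_right _ (by omega)
      omega) d₂ d₃ l₂ l₃ he
    have hk15 : k < 15 := by
      by_contra hk
      have h1 : q * (15 * (q - 1)) ≤ q * (1 + i * ((q - 1) / 2) + k * (q - 1)) :=
        Nat.mul_le_mul_left _ (le_trans (Nat.mul_le_mul_right _ (not_lt.mp hk)) (by omega))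
      have : q ≤ 11 := by omega
      interval_cases q <;> omega
    obtain ⟨hi2, hjq⟩ := so3_small q (by omega) i (by omega) k hk15 ⟨h7, by omega, by omega, hd, hle⟩
    subst hi2
    exfalso
    rcases (show q = 7 ∨ q = 9 ∨ q = 11 by omega) with rfl | rfl | rfl
    · exact no_transitive D R hfull (Or.inl rfl) (by rw [hj, hjq])
    · obtain rfl : m = 4 := by omega
      norm_num at d₂ d₃ l₂ l₃ he
      exact nine_chord o₂ (by omega) o₃ (by omega) d₂ d₃ (by omega)
    · exact no_transitive D R hfull (Or.inr rfl) (by rw [hj, hjq])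

end

/-- Real isotropic lines go to real lines. -/
theorem real_lines (D : OData q σ P K) (hfull : ¬ suGL 3 F q ≤ K) {g : GL (Fin 3) F} (hg : g ∈ K)
    {w : Fin 3 → F} (hw0 : w ≠ 0) (hw : Rv (fixedField σ) P w) (hww : hermForm 3 F q w w = 0) :
    ∃ l : F, l ≠ 0 ∧ Rv (fixedField σ) P (l • ((g : Matrix (Fin 3) (Fin 3) F) *ᵥ w)) := by
  classical
  have hσ := D.sig
  obtain ⟨e, v, R⟩ := exists_rframe D hw0 hw hww
  have horb := orb_real D R hfull
  choose n hnK hns using fun x : fixedField σ => exists_real D R (one_mem (fixedField σ)) one_ne_zero x.2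
  obtain ⟨s, hs, m, hm, hsu⟩ := exists_swap D R
  have hvorb : Submodule.span F {v} ∈ orb K w := ⟨s, hs, by rw [hsu, span_eq_span hm rfl]⟩
  let f : Option (fixedField σ) → orb K w := fun o => match o with
    | none => ⟨_, 1, one_mem K, rfl⟩
    | some x => ⟨_, orb_map (hnK x) hvorb⟩
  have hnv : ∀ x : fixedField σ, (n x : Matrix (Fin 3) (Fin 3) F) *ᵥ v =
      pt w e v (x : F) (-(hermForm 3 F q e e * ((x : F) * (x : F))) / 2) := fun x => by
    rw [(hns x).gv, inv_one, one_smul, one_mul, pt]; abel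
  have hf : Function.Injective f := fun o o' h => by
    have h' := congrArg Subtype.val h
    rcases o with _ | x <;> rcases o' with _ | x'
    · rfl
    · simp only [f, Units.val_one, Matrix.one_mulVec, hnv] at h'
      exact absurd h'.symm (pt_ne_u D R _ _)
    · simp only [f, Units.val_one, Matrix.one_mulVec, hnv] at h'
      exact absurd h' (pt_ne_u D R _ _)
    · simp only [f, hnv] at h'
      exact congrArg some (Subtype.ext (pt_span_inj D R h').1)
  haveI : Finite (Submodule F (Fin 3 → F)) :=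
    Finite.of_injective (fun L : Submodule F (Fin 3 → F) => (L : Set (Fin 3 → F))) SetLike.coe_injective
  have hb : Function.Bijective f := by
    refine hf.bijective_of_nat_card_le ?_
    rw [horb, Finite.card_option, hσ.card_fixed]; omega
  obtain ⟨o, ho⟩ := hb.2 ⟨_, g, hg, rfl⟩
  have ho' := congrArg Subtype.val ho
  have hgw : (g : Matrix (Fin 3) (Fin 3) F) *ᵥ w ≠ 0 := fun h =>
    hw0 (gl_mulVec_injective g (h.trans (Matrix.mulVec_zero _).symm))
  suffices ∃ z, Rv (fixedField σ) P z ∧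
      Submodule.span F {(g : Matrix (Fin 3) (Fin 3) F) *ᵥ w} = Submodule.span F {z} by
    obtain ⟨z, hz, he⟩ := this
    obtain ⟨a, ha, hgz⟩ := exists_smul_of_span hgw he
    exact ⟨a⁻¹, inv_ne_zero ha, by rwa [hgz, inv_smul_smul₀ ha]⟩
  rcases o with _ | x
  · exact ⟨w, hw, by simpa [f] using ho'.symm⟩
  · refine ⟨(n x : Matrix (Fin 3) (Fin 3) F) *ᵥ v, ?_, by simpa [f] using ho'.symm⟩
    rw [hnv, pt]
    exact ((R.ru.smul (div_mem (neg_mem (mul_mem (D.form _ _ R.re R.re) (mul_mem x.2 x.2))) (two_mem D))).add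
      (R.re.smul x.2)).add R.rv

/-- The real subgroups are maximal. -/
theorem real_isMaximal (hσ : IsUSigma q σ) (hodd : Odd q) (h7 : 7 ≤ q) {F₀ : Subfield F} (P : GL (Fin 3) F)
    (hcard : Fintype.card F = Nat.card F₀ ^ 2) (hP : IsFormRationalStructure (hermForm 3 F q) F₀ 1 P) :
    IsMaximalIn (suGL 3 F q) (subfieldSubgroup F₀ P ⊓ suGL 3 F q) := by
  classical
  refine ⟨lt_of_le_of_ne inf_le_right fun e =>
    hσ.not_su_le_subfield_three le_rfl Nat.prime_two hcard P (inf_eq_right.mp e),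
    fun K hK hKS => or_iff_not_imp_left.mpr fun hne => le_antisymm hKS ?_⟩
  have hF0 : F₀ = fixedField σ := by
    have hc : Nat.card F₀ = Nat.card (fixedField σ) := Nat.pow_left_injective two_ne_zero (show
      Nat.card F₀ ^ 2 = Nat.card (fixedField σ) ^ 2 by rw [← hcard, hσ.card_fixed, hσ.card])
    refine SetLike.ext fun x => ?_
    rw [mem_iff_pow F₀ x, mem_iff_pow (fixedField σ) x, hc]
  subst hF0
  have h2 : (2 : F) ≠ 0 := (hσ.odd_iff).mp hodd
  have hform : ∀ x y, Rv (fixedField σ) P x → Rv (fixedField σ) P y → hermForm 3 F q x y ∈ fixedField σ :=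
    fun x y hx hy => by
      have h := hP _ _ hx hy
      rwa [gl_mulVec_inv_cancel, gl_mulVec_inv_cancel, one_mul] at h
  have D : OData q σ P K :=
    { sig := hσ
      seven := h7
      h2 := h2
      le := hKS
      form := hform
      base := fun g hg ⟨l, hl, hpres⟩ => hK ⟨mem_subfieldSubgroup_of_scaled hl fun i j => by
        have h := hpres _ (rv_col j) i
        rw [Matrix.mulVec_smul, ← gl_mul_mulVec, ← gl_mul_mulVec, Matrix.mulVec_single_one] at h
        simpa [mul_assoc] using h, hg⟩ }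
  by_contra hfull
  refine hne (le_antisymm (le_inf (fun g hg => ?_) hKS) hK)
  have hs := sf hσ
  obtain ⟨u, hu0, hu, huu⟩ := exists_real_iso D
  obtain ⟨e, v, R⟩ := exists_rframe D hu0 hu huu
  have Pp := R.pair
  have hgU := (D.le hg).1
  obtain ⟨a, ha⟩ : ∃ a, a = -hermForm 3 F q e e / 2 := ⟨_, rfl⟩
  have haF : a ∈ fixedField σ := ha ▸ div_mem (neg_mem (D.form _ _ R.re R.re)) (two_mem D)
  have ha0 : a ≠ 0 := ha ▸ div_ne_zero (neg_ne_zero.mpr R.ee) h2
  obtain ⟨w, hw⟩ : ∃ w, w = a • u + e + v := ⟨_, rfl⟩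
  have hwr : Rv (fixedField σ) P w := hw ▸ ((R.ru.smul haF).add R.re).add R.rv
  have hww : hermForm 3 F q w w = 0 := by
    simp only [hw, hs.add_left, hs.add_right, hs.smul_left, hs.smul_right, huu, Pp.vv, Pp.uv, Pp.vu, Pp.ue, Pp.ve,
      orth_swp hσ Pp.ue, orth_swp hσ Pp.ve, mem_fixedField.mp haF]
    rw [ha]; field_simp; ring
  have huw : hermForm 3 F q u w = 1 := by
    simp only [hw, hs.add_right, hs.smul_right, huu, Pp.uv, Pp.ue]; ring
  have hvw : hermForm 3 F q v w = a := by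
    simp only [hw, hs.add_right, hs.smul_right, Pp.vv, Pp.vu, Pp.ve, mem_fixedField.mp haF]; ring
  obtain ⟨lu, hlu, hru⟩ := real_lines D hfull hg hu0 R.ru huu
  obtain ⟨lv, hlv, hrv⟩ := real_lines D hfull hg
    (ne_zero_of_herm hσ (x := v) (y := u) (by rw [Pp.vu]; exact one_ne_zero)).1 R.rv Pp.vv
  obtain ⟨lw, hlw, hrw⟩ := real_lines D hfull hg
    (ne_zero_of_herm hσ (x := w) (y := u) (by rw [swp hσ u w, huw, map_one]; exact one_ne_zero)).1 hwr hww
  have hpair : ∀ (x y : Fin 3 → F) (lx ly : F), Rv (fixedField σ) P (lx • ((g : Matrix (Fin 3) (Fin 3) F) *ᵥ x)) →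
      Rv (fixedField σ) P (ly • ((g : Matrix (Fin 3) (Fin 3) F) *ᵥ y)) →
      lx * σ ly * hermForm 3 F q x y ∈ fixedField σ := fun x y lx ly hx hy => by
    have := D.form _ _ hx hy
    rwa [hs.smul_left, hs.smul_right, mem_GU_iff.mp hgU, ← mul_assoc] at this
  have h1 : lu * σ lv ∈ fixedField σ := by simpa [Pp.uv] using hpair u v lu lv hru hrv
  have h2' : lu * σ lw ∈ fixedField σ := by simpa [huw] using hpair u w lu lw hru hrw
  have h3 : lv * σ lw ∈ fixedField σ := by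
    have := mul_mem (hpair v w lv lw hrv hrw) (inv_mem haF)
    rwa [hvw, mul_inv_cancel_right₀ ha0] at this
  have hσlv : σ lv ≠ 0 := fun e => hlv ((map_eq_zero σ).mp e)
  have hσlu : σ lu ≠ 0 := fun e => hlu ((map_eq_zero σ).mp e)
  have stab : ∀ x ∈ fixedField σ, σ x ∈ fixedField σ := fun x hx => by rw [mem_fixedField.mp hx]; exact hx
  have hu' : Rv (fixedField σ) P (lw • ((g : Matrix (Fin 3) (Fin 3) F) *ᵥ u)) := by
    have hq' : lw / lu ∈ fixedField σ := by
      have := div_mem (stab _ h3) h1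
      convert this using 1
      rw [map_mul, hσ.involutive]; field_simp
    have := hru.smul hq'
    rwa [smul_smul, div_mul_cancel₀ _ hlu] at this
  have hv' : Rv (fixedField σ) P (lw • ((g : Matrix (Fin 3) (Fin 3) F) *ᵥ v)) := by
    have hq' : lw / lv ∈ fixedField σ := by
      have := div_mem (stab _ h2') (stab _ h1)
      convert this using 1
      rw [map_mul, map_mul, hσ.involutive, hσ.involutive]; field_simp
    have := hrv.smul hq'
    rwa [smul_smul, div_mul_cancel₀ _ hlv] at this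
  have he' : Rv (fixedField σ) P (lw • ((g : Matrix (Fin 3) (Fin 3) F) *ᵥ e)) := by
    have ee : e = w + (-a) • u + (-1 : F) • v := by rw [hw]; module
    rw [ee, Matrix.mulVec_add, Matrix.mulVec_add, Matrix.mulVec_smul, Matrix.mulVec_smul, smul_add, smul_add,
      smul_comm lw (-a), smul_comm lw (-1 : F)]
    exact (hrw.add (hu'.smul (neg_mem haF))).add (hv'.smul (neg_mem (one_mem _)))
  refine mem_subfieldSubgroup_of_scaled hlw fun i j => ?_
  have hx : Rv (fixedField σ) P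
      (lw • ((g : Matrix (Fin 3) (Fin 3) F) *ᵥ ((P : Matrix (Fin 3) (Fin 3) F) *ᵥ Pi.single j 1))) := by
    obtain ⟨x, hxe⟩ : ∃ x, x = (P : Matrix (Fin 3) (Fin 3) F) *ᵥ Pi.single j 1 := ⟨_, rfl⟩
    have hxr : Rv (fixedField σ) P x := hxe ▸ rv_col j
    rw [← hxe, pair_dec hσ Pp R.ee x, Matrix.mulVec_add, Matrix.mulVec_add, Matrix.mulVec_smul, Matrix.mulVec_smul,
      Matrix.mulVec_smul, smul_add, smul_add, smul_comm lw, smul_comm lw (_ / _), smul_comm lw]
    exact ((hu'.smul (D.form _ _ hxr R.rv)).add (he'.smul (div_mem (D.form _ _ hxr R.re) (D.form _ _ R.re R.re)))).add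
      (hv'.smul (D.form _ _ hxr R.ru))
  have := hx i
  rw [Matrix.mulVec_smul, ← gl_mul_mulVec, ← gl_mul_mulVec, Matrix.mulVec_single_one] at this
  simpa [mul_assoc] using this

end Cfsg.Agent.Classical.UThree
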