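/-
The possible orders of overgroups of a Singer normaliser in `SU_3`.
-/
import Mathlib

set_option autoImplicit false

namespace Cfsg.Agent.Classical.UThree

theorem singer_check_three : ((List.range 62).all fun t => (List.range 62).all fun i => decide (62 ≤ t * i) ||
    (List.range 170).all fun q => decide (q % 3 ≠ 2) || decide (t = 0) || decide (i = 0) || decide (q ≤ 5) ||
      decide (q = 14) || decide (q = 35) || decide (q = 8 ∧ t = 5 ∧ i = 5) ||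
      !(t * i * (q * q) + t * i + 3 * i == 9 * (q * q) + (t * i + 12 * t + 27) * q + 15 * t + 3 * (t * t) + 18)) = true := by
  decide +kernel

theorem singer_small_three (t : ℕ) (ht : t < 62) (i : ℕ) (hi : i < 62) (hti : t * i < 62) (q : ℕ) (hq : q < 170)
    (hm : q % 3 = 2)
    (h : t * i * (q * q) + t * i + 3 * i = 9 * (q * q) + (t * i + 12 * t + 27) * q + 15 * t + 3 * (t * t) + 18) :
    t = 0 ∨ i = 0 ∨ q ≤ 5 ∨ q = 14 ∨ q = 35 ∨ (q = 8 ∧ t = 5 ∧ i = 5) := by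
  have h1 := List.all_eq_true.mp singer_check_three t (List.mem_range.mpr ht)
  have h2 := List.all_eq_true.mp h1 i (List.mem_range.mpr hi)
  rw [Bool.or_eq_true, decide_eq_true_eq, or_iff_right (by omega)] at h2
  have h3 := List.all_eq_true.mp h2 q (List.mem_range.mpr hq)
  simp only [Bool.or_eq_true, decide_eq_true_eq, Bool.not_eq_true', beq_eq_false_iff_ne] at h3
  tauto

set_option synthInstance.maxSize 1024 in
theorem singer_small_one : ∀ q < 10, ∀ s < 38, ∀ t < 38, 4 ≤ q ∧ q % 3 ≠ 2 ∧ q ≠ 6 ∧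
    3 * (s * t) * (q * q + 1) + 3 * (s + t) + (q * q + 3 * q + 2) * q + 4 * q + 5 =
      (q * q + 3 * q + 2) * (q * q + 1) + 3 * (s * t) * q →
    q = 4 ∧ s = 3 ∧ t = 3 := by decide +kernel

/-- The coprime case. -/
theorem singer_arith_one {q s t : ℕ} (hq : 4 ≤ q) (h6 : q ≠ 6) (hm : q % 3 ≠ 2) (hs : 1 ≤ s) (ht : 1 ≤ t)
    (h : 3 * ((s : ℤ) * t) * ((q : ℤ) ^ 2 - q + 1) + 3 * ((s : ℤ) + t) =
      ((q : ℤ) ^ 2 + 3 * q + 2) * ((q : ℤ) ^ 2 - q + 1) - 4 * q - 5) :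
    q = 4 ∧ s = 3 ∧ t = 3 := by
  have hqz : (4 : ℤ) ≤ q := by exact_mod_cast hq
  have hsz : (1 : ℤ) ≤ s := by exact_mod_cast hs
  have htz : (1 : ℤ) ≤ t := by exact_mod_cast ht
  have hS : (s : ℤ) + t ≤ (s : ℤ) * t + 1 := by nlinarith
  obtain ⟨k, hk⟩ : ∃ k, k = (q : ℤ) ^ 2 + 3 * q + 2 - 3 * ((s : ℤ) * t) := ⟨_, rfl⟩
  have hk' : 3 * ((s : ℤ) + t) = k * ((q : ℤ) ^ 2 - q + 1) - 4 * q - 5 := by rw [hk]; linear_combination h
  have hk1 : 1 ≤ k := by
    by_contra hh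
    nlinarith [mul_le_mul_of_nonneg_right (show k ≤ 0 by omega) (show (0 : ℤ) ≤ (q : ℤ) ^ 2 - q + 1 by nlinarith)]
  have hk2 : k ≠ 1 := by
    intro e
    have e1 : 3 * (s * t) = q * q + 3 * q + 1 := by
      have : ((3 * (s * t) : ℕ) : ℤ) = ((q * q + 3 * q + 1 : ℕ) : ℤ) := by push_cast; linear_combination hk - e
      exact_mod_cast this
    have h0 : (q * q + 3 * q + 1) % 3 = 0 := by rw [← e1]; simp
    rw [Nat.add_mod, Nat.add_mod (q * q), Nat.mul_mod, Nat.mul_mod 3] at h0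
    rcases (show q % 3 = 0 ∨ q % 3 = 1 by omega) with e' | e' <;> rw [e'] at h0 <;> norm_num at h0
  have hq10 : q < 10 := by
    by_contra hh
    have : (10 : ℤ) ≤ q := by exact_mod_cast (show 10 ≤ q by omega)
    nlinarith [mul_le_mul_of_nonneg_right (show 2 ≤ k by omega) (show (0 : ℤ) ≤ (q : ℤ) ^ 2 - q + 1 by nlinarith)]
  have h3 : 3 * ((s : ℤ) * t) ≤ (q : ℤ) ^ 2 + 3 * q := by omega
  have hq9 : (q : ℤ) ≤ 9 := by exact_mod_cast (show q ≤ 9 by omega)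
  have hs' : (s : ℤ) ≤ (s : ℤ) * t := le_mul_of_one_le_right (by linarith) htz
  have ht' : (t : ℤ) ≤ (s : ℤ) * t := le_mul_of_one_le_left (by linarith) hsz
  have hb : (q : ℤ) ^ 2 + 3 * q ≤ 108 := by nlinarith
  refine singer_small_one q hq10 s (by omega) t (by omega) ⟨hq, hm, h6, ?_⟩
  have : ((3 * (s * t) * (q * q + 1) + 3 * (s + t) + (q * q + 3 * q + 2) * q + 4 * q + 5 : ℕ) : ℤ) =
      (((q * q + 3 * q + 2) * (q * q + 1) + 3 * (s * t) * q : ℕ) : ℤ) := by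
    push_cast; linear_combination h
  exact_mod_cast this

/-- The other case. -/
theorem singer_arith_three {q : ℕ} {Q' s t : ℤ} (hQ : 3 * Q' = (q : ℤ) ^ 2 - q + 1) (hq : 8 ≤ q) (hm : q % 3 = 2)
    (h14 : q ≠ 14) (h35 : q ≠ 35) (hs : 1 ≤ s) (ht : 1 ≤ t)
    (h : s * t * Q' + (s + t) = 3 * ((q : ℤ) ^ 2 + 3 * q + 2) * Q' - 4 * q - 5) :
    q = 8 ∧ ((s = 53 ∧ t = 5) ∨ (s = 5 ∧ t = 53)) := by
  have hqz : (8 : ℤ) ≤ q := by exact_mod_cast hq
  have hS : s + t ≤ s * t + 1 := by nlinarith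
  obtain ⟨i, hi⟩ : ∃ i, i = 3 * ((q : ℤ) ^ 2 + 3 * q + 2) - s * t := ⟨_, rfl⟩
  have hi' : s + t = i * Q' - 4 * q - 5 := by rw [hi]; linear_combination h
  have hQ0 : 0 < Q' := by nlinarith
  have hi1 : 1 ≤ i := by
    by_contra hh
    nlinarith [mul_le_mul_of_nonneg_right (show i ≤ 0 by omega) hQ0.le]
  wlog hts : t ≤ s generalizing s t
  · obtain ⟨h8, hh⟩ := this (s := t) (t := s) ht hs (by linear_combination h) (by linarith) (by rw [hi]; ring)
      (by linear_combination hi') (by linarith)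
    exact ⟨h8, hh.symm.imp And.symm And.symm⟩
  have hb : t * (s + t) ≤ 2 * (s * t) := by nlinarith
  have e : t * i * ((q : ℤ) * q) + t * i + 3 * i =
      9 * ((q : ℤ) * q) + (t * i + 12 * t + 27) * q + 15 * t + 3 * (t * t) + 18 := by
    linear_combination (-3 : ℤ) * t * hi' + 3 * hi - t * i * hQ
  have ht2 : t ≤ 2 * (q : ℤ) + 1 := by
    by_contra hh
    nlinarith [mul_le_mul (show 2 * (q : ℤ) + 2 ≤ t by omega) (le_refl (2 * (q : ℤ) + 2)) (by positivity) (by linarith)]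
  have hti : t * i < 62 := by
    by_contra hh
    have h1 := mul_le_mul_of_nonneg_right (show (62 : ℤ) ≤ t * i by omega) hQ0.le
    have h2 := mul_le_mul_of_nonneg_right ht2 (show (0 : ℤ) ≤ 4 * q + 5 by positivity)
    nlinarith
  have ht' : t ≤ t * i := le_mul_of_one_le_right (by linarith) hi1
  have hi'' : i ≤ t * i := le_mul_of_one_le_left (by linarith) ht
  have hq170 : q < 170 := by
    by_contra hq'
    have hq' : (170 : ℤ) ≤ q := by exact_mod_cast (show 170 ≤ q by omega)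
    have h1 := mul_le_mul_of_nonneg_right hti.le (sq_nonneg (q : ℤ))
    rcases lt_trichotomy (t * i) 9 with h9 | h9 | h9
    · nlinarith [mul_le_mul_of_nonneg_right (show t * i ≤ 8 by omega) (mul_self_nonneg (q : ℤ))]
    · rw [h9] at e; nlinarith
    · have h10 : (10 : ℤ) ≤ t * i := by omega
      nlinarith [mul_le_mul_of_nonneg_left hq' (show (0 : ℤ) ≤ t * i - 9 by omega),
        mul_le_mul_of_nonneg_right ht' (show (0 : ℤ) ≤ 12 * q by positivity), mul_le_mul ht' ht' (by linarith) (by nlinarith)]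
  obtain ⟨t', rfl⟩ : ∃ t' : ℕ, t = t' := ⟨t.toNat, by omega⟩
  obtain ⟨i', rfl⟩ : ∃ i' : ℕ, i = i' := ⟨i.toNat, by omega⟩
  rcases singer_small_three t' (by omega) i' (by omega) (by exact_mod_cast hti) q hq170 hm (by exact_mod_cast e) with
    h' | h' | h' | h' | h' | ⟨rfl, rfl, rfl⟩
  all_goals omega

/-- The possible indices. -/
theorem singer_arith {q j e Q' : ℕ} (hq : 4 ≤ q) (h5 : q ≠ 5) (h6 : q ≠ 6) (h14 : q ≠ 14) (h35 : q ≠ 35)
    (hQ : (q % 3 ≠ 2 ∧ (Q' : ℤ) = (q : ℤ) ^ 2 - q + 1) ∨ (q % 3 = 2 ∧ 3 * (Q' : ℤ) = (q : ℤ) ^ 2 - q + 1))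
    (hM : (3 : ℤ) * j * e = (q : ℤ) ^ 3 * ((q : ℤ) + 1) ^ 2 * ((q : ℤ) - 1)) (hj : j ≡ 1 [MOD Q']) :
    j = 1 ∨ e = 1 ∨ (q = 4 ∧ j = 40) ∨ (q = 8 ∧ (j = 96 ∨ j = 1008)) := by
  have hqz : (4 : ℤ) ≤ q := by exact_mod_cast hq
  have hpos : (0 : ℤ) < (q : ℤ) ^ 3 * ((q : ℤ) + 1) ^ 2 * ((q : ℤ) - 1) := by
    have : (0 : ℤ) < (q : ℤ) - 1 := by linarith
    positivity
  have hj1 : (1 : ℤ) ≤ j := by
    rcases Nat.eq_zero_or_pos j with h | h
    · subst h; simp only [Nat.cast_zero, mul_zero, zero_mul] at hM; linarith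
    · exact_mod_cast h
  have he1 : (1 : ℤ) ≤ e := by
    rcases Nat.eq_zero_or_pos e with h | h
    · subst h; simp only [Nat.cast_zero, mul_zero, zero_mul] at hM; linarith
    · exact_mod_cast h
  have hQ'pos : (0 : ℤ) < Q' := by
    rcases hQ with ⟨-, h⟩ | ⟨-, h⟩ <;> nlinarith
  obtain ⟨s, hs⟩ : ((Q' : ℤ)) ∣ (j : ℤ) - 1 := by
    have := (Nat.modEq_iff_dvd.mp hj.symm)
    simpa using this
  obtain ⟨R, hR⟩ : ∃ R : ℤ, R = (q : ℤ) ^ 4 + 2 * (q : ℤ) ^ 3 - 3 * q - 3 := ⟨_, rfl⟩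
  have hMR : (3 : ℤ) * j * e - 3 = ((q : ℤ) ^ 2 - q + 1) * R := by rw [hR, hM]; ring
  have hje : ((Q' : ℤ)) ∣ (e : ℤ) - 1 := by
    rcases hQ with ⟨hm, h⟩ | ⟨hm, h⟩
    · have h3 : (Q' : ℤ) ∣ 3 * ((e : ℤ) - 1) := ⟨R - 3 * e * s, by linear_combination hMR - (3 : ℤ) * e * hs - R * h⟩
      refine (IsCoprime.dvd_of_dvd_mul_left ?_ h3)
      rw [Int.isCoprime_iff_gcd_eq_one]
      have h' : Nat.gcd Q' 3 = 1 := by
        refine (Nat.prime_three.coprime_iff_not_dvd.mpr fun hd => ?_).symm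
        have hz : ((3 : ℕ) : ℤ) ∣ (q : ℤ) ^ 2 - q + 1 := h ▸ Int.natCast_dvd_natCast.mpr hd
        have hmod := Int.emod_emod_of_dvd ((q : ℤ) ^ 2 - q + 1) (dvd_refl (3 : ℤ))
        obtain ⟨c, hc⟩ := hz
        have hq3 : q % 3 = 0 ∨ q % 3 = 1 := by omega
        rcases hq3 with h' | h'
        · obtain ⟨u, hu⟩ : ∃ u, q = 3 * u := ⟨q / 3, by omega⟩
          rw [hu] at hc; push_cast at hc
          have : (1 : ℤ) = 3 * (c - 3 * (u : ℤ) ^ 2 + u) := by linear_combination hc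
          omega
        · obtain ⟨u, hu⟩ : ∃ u, q = 3 * u + 1 := ⟨q / 3, by omega⟩
          rw [hu] at hc; push_cast at hc
          have : (1 : ℤ) = 3 * (c - 3 * (u : ℤ) ^ 2 - u) := by linear_combination hc
          omega
      simpa [Int.gcd] using h'
    · refine ⟨R - e * s, ?_⟩
      refine mul_left_cancel₀ (show (3 : ℤ) ≠ 0 by norm_num) ?_
      linear_combination hMR - (3 : ℤ) * e * hs - R * h
  obtain ⟨t, ht⟩ := hje
  have hs0 : 0 ≤ s := by nlinarith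
  have ht0 : 0 ≤ t := by nlinarith
  rcases eq_or_lt_of_le hs0 with h | hs1
  · left
    subst h
    omega
  rcases eq_or_lt_of_le ht0 with h | ht1
  · right; left
    subst h
    omega
  right; right
  rw [show (j : ℤ) = 1 + Q' * s by linarith, show (e : ℤ) = 1 + Q' * t by linarith] at hMR
  rcases hQ with ⟨hm, h⟩ | ⟨hm, h⟩
  · obtain ⟨s', rfl⟩ : ∃ s' : ℕ, s = s' := ⟨s.toNat, by omega⟩
    obtain ⟨t', rfl⟩ : ∃ t' : ℕ, t = t' := ⟨t.toNat, by omega⟩
    obtain ⟨rfl, rfl, rfl⟩ := singer_arith_one (s := s') (t := t') hq h6 hm (by omega) (by omega) (by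
      refine mul_left_cancel₀ hQ'pos.ne' ?_
      rw [← h] at hMR
      rw [← h]
      rw [hR] at hMR
      linear_combination hMR - (Q' : ℤ) * ((q : ℤ) ^ 2 + 3 * q + 2) * h)
    left
    norm_num at h
    rw [h] at hs
    exact ⟨rfl, by push_cast at hs; omega⟩
  · have h1 : s * t * (Q' : ℤ) + (s + t) = 3 * ((q : ℤ) ^ 2 + 3 * q + 2) * Q' - 4 * q - 5 := by
      refine mul_left_cancel₀ (show 3 * (Q' : ℤ) ≠ 0 by positivity) ?_
      rw [hR] at hMR
      rw [← h] at hMR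
      linear_combination hMR - (3 : ℤ) * (Q' : ℤ) * ((q : ℤ) ^ 2 + 3 * q + 2) * h
    obtain ⟨rfl, hst⟩ := singer_arith_three h (by omega) hm h14 h35 (by omega) (by omega) h1
    right
    norm_num at h
    refine ⟨rfl, ?_⟩
    rcases hst with ⟨rfl, rfl⟩ | ⟨rfl, rfl⟩ <;> omega

end Cfsg.Agent.Classical.UThree
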