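/-
The unitary part of the torus of an adjoint-closed cubic field subalgebra and of its normaliser.
-/
import Cfsg.Agent.Lib.Classical.UThree.Geom
import Cfsg.Agent.Lib.Classical.LinThree.SingerCard
import Cfsg.Agent.Lib.Classical.FieldExt.Herm.Field
import Mathlib.FieldTheory.Finite.Trace

set_option autoImplicit false
set_option linter.unusedSectionVars false
set_option linter.style.haveILetI false
set_option maxHeartbeats 400000

namespace Cfsg.Agent.Classical.UThree

open Matrix Cfsg.Geo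
open Cfsg.Agent.Classical
open Cfsg.Agent.Classical.FieldExt.Herm (IsExtInv big_usigma)
open Cfsg.Agent.Classical.LinThree (Tor NS IsSc eig_scalar cent conj_fix tor_le_NS)

variable {F : Type*} [Field F] [Fintype F] {q : ℕ} {σ : F ≃+* F} {K : Subalgebra F (Matrix (Fin 3) (Fin 3) F)}

/-- The unitary norm-one torus. -/
def Tu (hK : IsFieldSubalgebra 3 K) (q : ℕ) : Subgroup (GL (Fin 3) F) := Tor hK ⊓ GU 3 F q

/-- The unitary normaliser. -/
def Nu (K : Subalgebra F (Matrix (Fin 3) (Fin 3) F)) (q : ℕ) : Subgroup (GL (Fin 3) F) := NS K ⊓ GU 3 F q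

theorem tu_le_nu (hK : IsFieldSubalgebra 3 K) : Tu hK q ≤ Nu K q := inf_le_inf_right _ (tor_le_NS hK)

theorem nu_eq : Nu K q = subalgebraNormalizer K ⊓ suGL 3 F q := by
  rw [Nu, NS, suGL, inf_assoc, inf_comm (specialLinear (Fin 3) F)]

theorem herm_mat (hσ : IsUSigma q σ) (L : Matrix (Fin 3) (Fin 3) F) (x y : Fin 3 → F) :
    hermForm 3 F q (L *ᵥ x) (L *ᵥ y) = hermForm 3 F q x (((L.map σ)ᵀ * L) *ᵥ y) := by
  have hd : ∀ a b : Fin 3 → F, hermForm 3 F q a b = a ⬝ᵥ (fun i => σ (b i)) := fun a b => hσ.hermForm_eq a b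
  have hm : ∀ (A : Matrix (Fin 3) (Fin 3) F) (b : Fin 3 → F),
      (fun i => σ ((A *ᵥ b) i)) = A.map σ *ᵥ (fun i => σ (b i)) := fun A b => funext fun i =>
    RingHom.map_mulVec σ.toRingHom A b i
  have hmap : ((L.map σ)ᵀ * L).map σ = Lᵀ * L.map σ := by
    rw [Matrix.map_mul, transpose_map, Matrix.map_map]
    congr
    ext i j
    simp [hσ.involutive]
  rw [hd, hd, hm, hm, hmap, ← vecMul_transpose, ← dotProduct_mulVec, mulVec_mulVec]

theorem herm_ext (hσ : IsUSigma q σ) {A B : Matrix (Fin 3) (Fin 3) F}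
    (h : ∀ x y, hermForm 3 F q x (A *ᵥ y) = hermForm 3 F q x (B *ᵥ y)) : A = B := by
  refine Matrix.ext fun i j => σ.injective ?_
  have := h (Pi.single i 1) (Pi.single j 1)
  simpa [hσ.hermForm_single] using this

theorem gram (hσ : IsUSigma q σ) {g : GL (Fin 3) F} :
    g ∈ GU 3 F q ↔ ((g : Matrix (Fin 3) (Fin 3) F).map σ)ᵀ * (g : Matrix (Fin 3) (Fin 3) F) = 1 := by
  rw [mem_GU_iff]
  constructor
  · intro h
    exact herm_ext hσ fun x y => by rw [← herm_mat hσ, h, Matrix.one_mulVec]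
  · intro h x y
    rw [herm_mat hσ, h, Matrix.one_mulVec]

theorem det_gu (hσ : IsUSigma q σ) {g : GL (Fin 3) F} (hg : g ∈ GU 3 F q) :
    (g : Matrix (Fin 3) (Fin 3) F).det ^ (q + 1) = 1 := by
  have := congrArg Matrix.det ((gram hσ).mp hg)
  rw [Matrix.det_mul, Matrix.det_transpose, Matrix.det_one,
    show ((g : Matrix (Fin 3) (Fin 3) F).map σ).det = σ (g : Matrix (Fin 3) (Fin 3) F).det from
      (RingHom.map_det σ.toRingHom _).symm, hσ.apply_eq, ← pow_succ] at this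
  exact this

/-- The orders of the unitary torus and of its normaliser. -/
theorem singer_orders (hσ : IsUSigma q σ) (hK : IsFieldSubalgebra 3 K)
    (hac : IsAdjointClosedFor (hermForm 3 F q) K) :
    Nat.card (Tu hK q) = q * q - q + 1 ∧ Nat.card (Nu K q) = 3 * Nat.card (Tu hK q) := by
  classical
  haveI : Finite K := Finite.of_injective _ Subtype.val_injective
  letI : CommRing K := { K.toRing with mul_comm := fun a b => Subtype.ext (hK.comm a a.2 b b.2) }
  haveI : Nontrivial K := ⟨⟨0, 1, fun e => zero_ne_one (congrArg Subtype.val e)⟩⟩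
  haveI : NoZeroDivisors K := ⟨fun {a b} hab =>
    (fieldSubalgebra_mul_eq_zero hK a.2 (congrArg Subtype.val hab)).imp (fun h => Subtype.ext h) fun h => Subtype.ext h⟩
  haveI : IsDomain K := NoZeroDivisors.to_isDomain _
  letI : Field K := (Finite.isDomain_to_isField K).toField
  letI : Fintype K := Fintype.ofFinite K
  haveI := FieldExt.finiteDimensional (F := F) (E := K)
  have hq2 := hσ.two_le
  obtain ⟨m, hm⟩ : ∃ m, q = m + 1 := ⟨q - 1, by omega⟩
  obtain ⟨Q, hQ⟩ : ∃ Q, Q = m * m + m + 1 := ⟨_, rfl⟩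
  have hQq : q * q - q + 1 = Q := by
    rw [hQ, hm, show (m + 1) * (m + 1) = m * m + m + (m + 1) by ring]; omega
  have e3 : q ^ 3 + 1 = (q + 1) * Q := by rw [hQ, hm]; ring
  have eS : 1 + q ^ 2 + q ^ 4 = Q * (q * q + q + 1) := by rw [hQ, hm]; ring
  -- the adjoint
  have hex : ∀ c : K, ∃ c' : K, ∀ u v, hermForm 3 F q ((c : Matrix (Fin 3) (Fin 3) F) *ᵥ u) v =
      hermForm 3 F q u ((c' : Matrix (Fin 3) (Fin 3) F) *ᵥ v) := fun c => by
    obtain ⟨c', hc', h⟩ := hac c c.2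
    exact ⟨⟨c', hc'⟩, h⟩
  choose t ht using hex
  have huk : ∀ c d : K, (∀ u v, hermForm 3 F q u ((c : Matrix (Fin 3) (Fin 3) F) *ᵥ v) =
      hermForm 3 F q u ((d : Matrix (Fin 3) (Fin 3) F) *ᵥ v)) → c = d := fun c d h =>
    Subtype.ext (herm_ext hσ h)
  have ht2 : ∀ c : K, t (t c) = c := fun c => huk _ _ fun u v => by
    rw [← ht (t c) u v, swp hσ v ((t c : Matrix (Fin 3) (Fin 3) F) *ᵥ u), ← ht c v u, ← swp hσ]
  have hs := sf hσ
  let τ : K ≃+* K :=
    { toFun := t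
      invFun := t
      left_inv := ht2
      right_inv := ht2
      map_mul' := fun c d => huk _ _ fun u v => by
        rw [← ht, mul_comm (t c), Subalgebra.coe_mul, Subalgebra.coe_mul, ← Matrix.mulVec_mulVec v
          (t d : Matrix (Fin 3) (Fin 3) F), ← ht d, ← ht c, Matrix.mulVec_mulVec]
      map_add' := fun c d => huk _ _ fun u v => by
        rw [← ht, Subalgebra.coe_add, Subalgebra.coe_add, Matrix.add_mulVec, Matrix.add_mulVec, hs.add_left,
          hs.add_right, ← ht, ← ht] }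
  have hτt : ∀ c : K, τ c = t c := fun c => rfl
  have hτ : IsExtInv σ τ := by
    refine ⟨ht2, fun a => huk _ _ fun u v => ?_, ?_⟩
    · rw [hτt, ← ht, Subalgebra.coe_algebraMap, Subalgebra.coe_algebraMap, Algebra.algebraMap_eq_smul_one,
        Algebra.algebraMap_eq_smul_one, Matrix.smul_mulVec, Matrix.smul_mulVec, Matrix.one_mulVec, Matrix.one_mulVec,
        hs.smul_left, hs.smul_right, hσ.involutive]
    · by_contra hcon
      push Not at hcon
      exact hσ.ne_refl (RingEquiv.ext hcon)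
  have hb := big_usigma hσ hτ hK.finrank_eq ⟨1, rfl⟩
  -- coordinates
  let φ₀ : K →ₗ[F] (Fin 3 → F) :=
    { toFun := fun k => (k : Matrix (Fin 3) (Fin 3) F) *ᵥ Pi.single 0 1
      map_add' := fun a b => Matrix.add_mulVec _ _ _
      map_smul' := fun c a => Matrix.smul_mulVec c _ _ }
  have hinj : Function.Injective φ₀ := (injective_iff_map_eq_zero φ₀).mpr fun k hk => by
    refine Subtype.ext ?_
    have := eig_scalar hK k.2 (v := Pi.single 0 1) (by simp) (c := 0) (by rw [zero_smul]; exact hk)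
    simpa using this
  have hdim : Module.finrank F K = Module.finrank F (Fin 3 → F) := by rw [hK.finrank_eq, Module.finrank_fin_fun]
  let φ : K ≃ₗ[F] (Fin 3 → F) := LinearEquiv.ofBijective φ₀
    ⟨hinj, (LinearMap.injective_iff_surjective_of_finrank_eq_finrank hdim).mp hinj⟩
  have hφ : ∀ k : K, φ k = (k : Matrix (Fin 3) (Fin 3) F) *ᵥ Pi.single 0 1 := fun _ => rfl
  have hmul : ∀ (k : K) (v : Fin 3 → F), (k : Matrix (Fin 3) (Fin 3) F) *ᵥ v = φ (k * φ.symm v) := fun k v => by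
    obtain ⟨a, rfl⟩ := φ.surjective v
    rw [φ.symm_apply_apply, hφ, hφ, Subalgebra.coe_mul, Matrix.mulVec_mulVec]
  have hdet : ∀ k : K, (k : Matrix (Fin 3) (Fin 3) F).det = Algebra.norm F k := fun k => by
    rw [Algebra.norm_apply, ← LinearMap.det_toLin', ← LinearMap.det_conj (Algebra.lmul F K k) φ]
    congr 1
    refine LinearMap.ext fun v => ?_
    simp [hmul]
  have hnorm : ∀ k : K, algebraMap F K (Algebra.norm F k) = k ^ (1 + q ^ 2 + q ^ 4) := fun k => by
    rw [FiniteField.algebraMap_norm_eq_pow_sum, hK.finrank_eq, Nat.card_eq_fintype_card, hσ.card]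
    simp [Finset.sum_range_succ, ← pow_mul]
  let toG : Kˣ →* GL (Fin 3) F := Units.map (K.val : K →* Matrix (Fin 3) (Fin 3) F)
  have hGU : ∀ a : Kˣ, toG a ∈ GU 3 F q ↔ a ^ (q ^ 3 + 1) = 1 := fun a => by
    rw [mem_GU_iff, Units.ext_iff, Units.val_pow_eq_pow_val, Units.val_one, pow_succ, ← hb.apply_eq]
    constructor
    · intro h
      refine huk _ _ fun u v => ?_
      rw [hτt, Subalgebra.coe_mul, Subalgebra.coe_one, Matrix.one_mulVec, ← Matrix.mulVec_mulVec, ← ht]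
      exact h u v
    · intro h u v
      show hermForm 3 F q ((a : K).val *ᵥ u) ((a : K).val *ᵥ v) = _
      rw [ht, Matrix.mulVec_mulVec, ← Subalgebra.coe_mul, ← hτt, h, Subalgebra.coe_one, Matrix.one_mulVec]
  have hSL : ∀ a : Kˣ, toG a ∈ specialLinear (Fin 3) F ↔ a ^ (1 + q ^ 2 + q ^ 4) = 1 := fun a => by
    rw [mem_specialLinear_iff, Units.ext_iff, Units.val_pow_eq_pow_val, ← hnorm, Units.val_one,
      ← map_one (algebraMap F K), (algebraMap F K).injective.eq_iff, ← hdet]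
    rfl
  have hKcard : Nat.card K = q ^ 6 := by
    rw [Module.natCard_eq_pow_finrank (K := F) (V := K), hK.finrank_eq, Nat.card_eq_fintype_card, hσ.card, ← pow_mul]
  have hker : Nat.card (Tu hK q) = Nat.card (powMonoidHom Q : Kˣ →* Kˣ).ker := by
    refine (Nat.card_congr (Equiv.ofBijective
      (fun a : (powMonoidHom Q : Kˣ →* Kˣ).ker => (⟨toG a, ?_⟩ : Tu hK q)) ⟨?_, ?_⟩)).symm
    · have ha : (a : Kˣ) ^ Q = 1 := a.2
      exact ⟨⟨(a : Kˣ).val.2, (hSL _).mpr (by rw [eS, pow_mul, ha, one_pow])⟩,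
        (hGU _).mpr (by rw [e3, mul_comm, pow_mul, ha, one_pow])⟩
    · intro a b h
      have := congrArg (fun z : Tu hK q => ((z : GL (Fin 3) F) : Matrix (Fin 3) (Fin 3) F)) h
      exact Subtype.ext (Units.ext (Subtype.ext this))
    · intro g
      have hu : IsUnit (⟨((g : GL (Fin 3) F) : Matrix (Fin 3) (Fin 3) F), g.2.1.1⟩ : K) :=
        IsUnit.of_mul_eq_one (⟨_, LinThree.val_inv_mem hK g.2.1.1⟩ : K) (Subtype.ext (by
          rw [Subalgebra.coe_mul, ← Units.val_mul, mul_inv_cancel, Units.val_one]; rfl))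
      obtain ⟨a, ha⟩ := hu
      have ha' : toG a = g := Units.ext (congrArg Subtype.val ha)
      refine ⟨⟨a, ?_⟩, Subtype.ext ha'⟩
      have h1 := (hGU a).mp (ha' ▸ g.2.2)
      have h2 := (hSL a).mp (ha' ▸ g.2.1.2)
      have h := pow_gcd_eq_one.mpr ⟨h1, h2⟩
      rw [e3, eS, mul_comm (q + 1), Nat.gcd_mul_left] at h
      have hc : Nat.gcd (q + 1) (q * q + q + 1) = 1 := by
        rw [show q * q + q + 1 = 1 + q * (q + 1) by ring, Nat.gcd_add_mul_right_right, Nat.gcd_one_right]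
      rw [hc, mul_one] at h
      exact h
  have hT : Nat.card (Tu hK q) = Q := by
    rw [hker, IsCyclic.card_powMonoidHom_ker, Nat.card_units, hKcard]
    refine Nat.gcd_eq_right ⟨(q + 1) * (q ^ 3 - 1), ?_⟩
    rw [← mul_assoc, mul_comm Q, ← e3, show q ^ 6 - 1 = (q ^ 3) ^ 2 - 1 ^ 2 by rw [← pow_mul, one_pow],
      Nat.sq_sub_sq]
  refine ⟨hT.trans hQq.symm, ?_⟩
  -- the action of the normaliser
  let c : Nu K q → (K ≃ₐ[F] K) := fun g => AlgEquiv.ofBijective
    ({ toFun := fun k => ⟨_, (g.2.1.1 k).mp k.2⟩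
       map_one' := Subtype.ext (by simp [← Units.val_mul])
       map_mul' := fun a b => Subtype.ext (by
         simp only [Subalgebra.coe_mul, Matrix.mul_assoc]
         rw [← Matrix.mul_assoc (((g : GL (Fin 3) F)⁻¹ : GL (Fin 3) F) : Matrix (Fin 3) (Fin 3) F)
           ((g : GL (Fin 3) F) : Matrix (Fin 3) (Fin 3) F),
           ← Units.val_mul, inv_mul_cancel, Units.val_one, Matrix.one_mul])
       map_zero' := Subtype.ext (by simp)
       map_add' := fun a b => Subtype.ext (by simp [Matrix.mul_add, Matrix.add_mul])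
       commutes' := fun r => Subtype.ext (by simp [Algebra.algebraMap_eq_smul_one, ← Units.val_mul]) } : K →ₐ[F] K)
    ⟨RingHom.injective _, Finite.surjective_of_injective (RingHom.injective _)⟩
  have hce : ∀ (g : Nu K q) (k : K), ((c g k : K) : Matrix (Fin 3) (Fin 3) F) =
      ((g : GL (Fin 3) F) : Matrix (Fin 3) (Fin 3) F) * k * (((g : GL (Fin 3) F)⁻¹ : GL (Fin 3) F) : Matrix (Fin 3) (Fin 3) F) :=
    fun _ _ => rfl
  let ψ : Nu K q →* (K ≃ₐ[F] K) := MonoidHom.mk' c fun a b => AlgEquiv.ext fun k => Subtype.ext (by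
    rw [AlgEquiv.mul_apply, hce, hce, hce]
    simp [_root_.mul_inv_rev, Matrix.mul_assoc])
  have hψ : ψ.ker = (Tu hK q).subgroupOf (Nu K q) := by
    ext g
    rw [MonoidHom.mem_ker, Subgroup.mem_subgroupOf]
    constructor
    · intro h
      refine ⟨⟨cent hK _ fun k hk => ?_, g.2.1.2⟩, g.2.2⟩
      have e := congrArg (fun f : K ≃ₐ[F] K => ((f ⟨k, hk⟩ : K) : Matrix (Fin 3) (Fin 3) F)) h
      change ((g : GL (Fin 3) F) : Matrix (Fin 3) (Fin 3) F) * k *
        (((g : GL (Fin 3) F)⁻¹ : GL (Fin 3) F) : Matrix (Fin 3) (Fin 3) F) = k at e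
      conv_rhs => rw [← e]
      rw [Matrix.mul_assoc _ (((g : GL (Fin 3) F)⁻¹ : GL (Fin 3) F) : Matrix (Fin 3) (Fin 3) F), ← Units.val_mul,
        inv_mul_cancel, Units.val_one, Matrix.mul_one]
    · intro h
      exact AlgEquiv.ext fun k => Subtype.ext (conj_fix hK h.1.1 k.2)
  have hsur : Function.Surjective ψ := by
    intro s
    let L : (Fin 3 → F) →ₗ[F] (Fin 3 → F) := φ.toLinearMap.comp (s.toLinearMap.comp φ.symm.toLinearMap)
    have hL : ∀ k : K, LinearMap.toMatrix' L * (k : Matrix (Fin 3) (Fin 3) F) =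
        (s k : Matrix (Fin 3) (Fin 3) F) * LinearMap.toMatrix' L := fun k => Matrix.ext_of_mulVec_single fun i => by
      rw [← Matrix.mulVec_mulVec, ← Matrix.mulVec_mulVec, LinearMap.toMatrix'_mulVec, LinearMap.toMatrix'_mulVec,
        hmul, hmul]
      simp [L]
    have hu : IsUnit (LinearMap.toMatrix' L).det := by
      rw [LinearMap.det_toMatrix']
      exact LinearEquiv.isUnit_det' (φ.symm.trans (s.toLinearEquiv.trans φ))
    obtain ⟨g₀, hg₀⟩ : ∃ g₀ : GL (Fin 3) F, (g₀ : Matrix (Fin 3) (Fin 3) F) = LinearMap.toMatrix' L :=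
      ⟨GeneralLinearGroup.mkOfDetNeZero _ hu.ne_zero, GeneralLinearGroup.val_mkOfDetNeZero _ _⟩
    rw [← hg₀] at hL
    -- the Gram matrix lies in the field
    obtain ⟨M, hM⟩ : ∃ M, M = ((g₀ : Matrix (Fin 3) (Fin 3) F).map σ)ᵀ * (g₀ : Matrix (Fin 3) (Fin 3) F) := ⟨_, rfl⟩
    have hMf : ∀ x y, hermForm 3 F q ((g₀ : Matrix (Fin 3) (Fin 3) F) *ᵥ x) ((g₀ : Matrix (Fin 3) (Fin 3) F) *ᵥ y) =
        hermForm 3 F q x (M *ᵥ y) := fun x y => hM ▸ herm_mat hσ _ x y
    have hMc : ∀ k : K, M * (k : Matrix (Fin 3) (Fin 3) F) = (k : Matrix (Fin 3) (Fin 3) F) * M := fun k => by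
      refine herm_ext hσ fun x y => ?_
      rw [← Matrix.mulVec_mulVec, ← hMf, Matrix.mulVec_mulVec, hL, ← Matrix.mulVec_mulVec,
        show (s k : K) = t (t (s k)) from (ht2 _).symm, ← ht, ← hτt (s k), ← hτ.gal_comm, Matrix.mulVec_mulVec,
        ← hL, ← Matrix.mulVec_mulVec, hMf, ht, hτt, ht2, Matrix.mulVec_mulVec]
    have hMdet : M.det ≠ 0 := by
      rw [hM, Matrix.det_mul, Matrix.det_transpose,
        show ((g₀ : Matrix (Fin 3) (Fin 3) F).map σ).det = σ (g₀ : Matrix (Fin 3) (Fin 3) F).det from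
          (RingHom.map_det σ.toRingHom _).symm]
      exact mul_ne_zero ((map_ne_zero σ).mpr (hg₀ ▸ hu.ne_zero)) (hg₀ ▸ hu.ne_zero)
    have hMK : M ∈ K := by
      have := cent hK (GeneralLinearGroup.mkOfDetNeZero M hMdet) fun k hk => by
        rw [GeneralLinearGroup.val_mkOfDetNeZero]; exact hMc ⟨k, hk⟩
      rwa [GeneralLinearGroup.val_mkOfDetNeZero] at this
    obtain ⟨mK, hmK⟩ : ∃ mK : K, mK = ⟨M, hMK⟩ := ⟨_, rfl⟩
    have hmK0 : mK ≠ 0 := fun e => hMdet (by
      rw [show M = ((0 : K) : Matrix (Fin 3) (Fin 3) F) from by rw [← e, hmK]]; simp)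
    have hmfix : τ mK = mK := huk _ _ fun x y => by
      rw [hτt, ← ht, hmK]
      show hermForm 3 F q (M *ᵥ x) y = hermForm 3 F q x (M *ᵥ y)
      rw [← hMf, swp hσ y (M *ᵥ x), ← hMf, ← swp hσ]
    obtain ⟨a, ha0, ha⟩ := hb.norm_surjective (inv_ne_zero hmK0) (by rw [map_inv₀, hmfix])
    obtain ⟨au, hau⟩ : ∃ au : Kˣ, au = Units.mk0 a ha0 := ⟨_, rfl⟩
    obtain ⟨g₁, hg₁⟩ : ∃ g₁ : GL (Fin 3) F, g₁ = g₀ * toG au := ⟨_, rfl⟩
    have hg₁U : g₁ ∈ GU 3 F q := mem_GU_iff.mpr fun x y => by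
      have hv : ((toG au : GL (Fin 3) F) : Matrix (Fin 3) (Fin 3) F) = (a : Matrix (Fin 3) (Fin 3) F) := by
        rw [hau]; rfl
      rw [hg₁, gl_mul_mulVec, gl_mul_mulVec, hMf, hv, ht, Matrix.mulVec_mulVec, Matrix.mulVec_mulVec,
        show M = ((mK : K) : Matrix (Fin 3) (Fin 3) F) by rw [hmK], ← Subalgebra.coe_mul, ← Subalgebra.coe_mul,
        ← hτt, show τ a * mK * a = 1 by rw [mul_right_comm, mul_comm (τ a), ha, inv_mul_cancel₀ hmK0],
        Subalgebra.coe_one, Matrix.one_mulVec]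
    -- fixing the determinant
    obtain ⟨γ, hγ, -, -, hγd⟩ := hb.exists_norm_one
    have hγ1 : γ ^ (q ^ 3 + 1) = 1 := by rw [pow_succ', ← hb.apply_eq, hγ]
    have hprim : IsPrimitiveRoot (Algebra.norm F γ) (q + 1) := by
      refine ⟨(algebraMap F K).injective ?_, fun l hl => ?_⟩
      · rw [map_pow, hnorm, map_one, ← pow_mul, eS, show Q * (q * q + q + 1) * (q + 1) = (q ^ 3 + 1) * (q * q + q + 1) by
          rw [e3]; ring, pow_mul, hγ1, one_pow]
      · have h := congrArg (algebraMap F K) hl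
        rw [map_pow, hnorm, map_one, ← pow_mul, eS] at h
        have hd := hγd _ h
        rw [e3, show Q * (q * q + q + 1) * l = ((q * q + q + 1) * l) * Q by ring] at hd
        have hd' := Nat.dvd_of_mul_dvd_mul_right (show 0 < Q by rw [hQ]; omega) hd
        refine Nat.Coprime.dvd_of_dvd_mul_left ?_ hd'
        rw [show q * q + q + 1 = 1 + q * (q + 1) by ring, Nat.coprime_add_mul_right_right]
        exact Nat.coprime_one_right _
    have hδ : ((g₁ : Matrix (Fin 3) (Fin 3) F).det)⁻¹ ^ (q + 1) = 1 := by rw [inv_pow, det_gu hσ hg₁U, inv_one]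
    haveI : NeZero (q + 1) := ⟨by omega⟩
    obtain ⟨i, -, hi⟩ := hprim.eq_pow_of_pow_eq_one hδ
    have hγ0 : γ ≠ 0 := left_ne_zero_of_mul_eq_one hγ
    obtain ⟨b, hbd⟩ : ∃ b : Kˣ, b = Units.mk0 γ hγ0 ^ i := ⟨_, rfl⟩
    have hbU : toG b ∈ GU 3 F q := (hGU b).mpr (Units.ext (by
      rw [hbd, Units.val_pow_eq_pow_val, Units.val_pow_eq_pow_val, Units.val_mk0, ← pow_mul, mul_comm, pow_mul, hγ1,
        one_pow, Units.val_one]))
    obtain ⟨g, hg⟩ : ∃ g : GL (Fin 3) F, g = g₁ * toG b := ⟨_, rfl⟩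
    have hgk : ∀ k : K, (g : Matrix (Fin 3) (Fin 3) F) * k * ((g⁻¹ : GL (Fin 3) F) : Matrix (Fin 3) (Fin 3) F) =
        (s k : Matrix (Fin 3) (Fin 3) F) := fun k => by
      have e : (g : Matrix (Fin 3) (Fin 3) F) * k = (s k : Matrix (Fin 3) (Fin 3) F) * (g : Matrix (Fin 3) (Fin 3) F) := by
        rw [hg, hg₁, Units.val_mul, Units.val_mul, show ((toG b : GL (Fin 3) F) : Matrix (Fin 3) (Fin 3) F) = (b : K).val
          from rfl, show ((toG au : GL (Fin 3) F) : Matrix (Fin 3) (Fin 3) F) = (au : K).val from rfl,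
          Matrix.mul_assoc, hK.comm _ (b : K).2 _ k.2, ← Matrix.mul_assoc, Matrix.mul_assoc (g₀ : Matrix (Fin 3) (Fin 3) F),
          hK.comm _ (au : K).2 _ k.2, ← Matrix.mul_assoc, hL, Matrix.mul_assoc (s k : Matrix (Fin 3) (Fin 3) F),
          Matrix.mul_assoc (s k : Matrix (Fin 3) (Fin 3) F)]
      rw [e, Matrix.mul_assoc, ← Units.val_mul, mul_inv_cancel, Units.val_one, Matrix.mul_one]
    have hgN : g ∈ Nu K q := by
      refine ⟨⟨fun k => ⟨fun hk => by rw [show k = ((⟨k, hk⟩ : K) : Matrix (Fin 3) (Fin 3) F) from rfl, hgk]; exact (s _).2,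
        fun hk => ?_⟩, mem_specialLinear_iff.mpr ?_⟩, hg ▸ mul_mem hg₁U hbU⟩
      · obtain ⟨b', hb'⟩ := s.surjective ⟨_, hk⟩
        have e := hgk b'
        rw [hb'] at e
        have := congrArg (fun z => ((g⁻¹ : GL (Fin 3) F) : Matrix (Fin 3) (Fin 3) F) * z * (g : Matrix (Fin 3) (Fin 3) F)) e
        simp only [Matrix.mul_assoc] at this
        simp only [← Units.val_mul, inv_mul_cancel, Units.val_one, Matrix.mul_one] at this
        simp only [← Matrix.mul_assoc, ← Units.val_mul, inv_mul_cancel, Units.val_one, Matrix.one_mul] at this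
        rw [← this]; exact b'.2
      · rw [hg, Units.val_mul, Matrix.det_mul, show ((toG b : GL (Fin 3) F) : Matrix (Fin 3) (Fin 3) F) = (b : K).val
          from rfl, hdet, hbd, Units.val_pow_eq_pow_val, Units.val_mk0, map_pow, hi]
        exact mul_inv_cancel₀ ((Matrix.isUnit_iff_isUnit_det _).mp g₁.isUnit).ne_zero
    exact ⟨⟨g, hgN⟩, AlgEquiv.ext fun k => Subtype.ext (hgk k)⟩
  have h := Subgroup.card_eq_card_quotient_mul_card_subgroup ψ.ker
  rw [Nat.card_congr (QuotientGroup.quotientKerEquivOfSurjective ψ hsur).toEquiv, FieldExt.gal_card hK.finrank_eq, hψ,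
    Nat.card_congr (Subgroup.subgroupOfEquivOfLe (tu_le_nu hK)).toEquiv] at h
  exact h

end Cfsg.Agent.Classical.UThree
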