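/-
Overgroups of a unitary Singer group: orbits on isotropic points.
-/
import Cfsg.Agent.Lib.Classical.UThree.SOOrbit
import Cfsg.Agent.Lib.Classical.UThree.SingerTorus

set_option autoImplicit false
set_option linter.unusedSectionVars false
set_option linter.style.haveILetI false
set_option maxHeartbeats 400000

namespace Cfsg.Agent.Classical.UThree

open Matrix Cfsg.Geo
open Cfsg.Agent.Classical

variable {F : Type*} [Field F] [Fintype F] {q : ℕ} {σ : F ≃+* F} (hσ : IsUSigma q σ)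

include hσ

/-- A frame through an isotropic vector. -/
theorem exists_iso_pair {u : Fin 3 → F} (hu0 : u ≠ 0) (huu : hermForm 3 F q u u = 0) :
    ∃ e v, Pair q e u v ∧ hermForm 3 F q e e ≠ 0 := by
  have hs := sf hσ
  obtain ⟨y, hy⟩ := (hσ.isUnitaryForm.nondegenerate u hu0).2
  have hyu : hermForm 3 F q y u ≠ 0 := fun h => hy (orth_swp hσ h)
  obtain ⟨z, hz⟩ : ∃ z, z = (hermForm 3 F q y u)⁻¹ • y := ⟨_, rfl⟩
  have hzu : hermForm 3 F q z u = 1 := by rw [hz, hs.smul_left, inv_mul_cancel₀ hyu]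
  have huz : hermForm 3 F q u z = 1 := by rw [swp hσ z u, hzu, map_one]
  obtain ⟨k, -, hk⟩ := UMaxSL.exists_trace (hσ.isUnitaryForm (n := 3)) (b := hermForm 3 F q z z) (swp hσ z z).symm
  obtain ⟨v, hv⟩ : ∃ v, v = z + k • u := ⟨_, rfl⟩
  have hvv : hermForm 3 F q v v = 0 := by
    rw [hv, hs.add_left, hs.add_right, hs.add_right, hs.smul_left, hs.smul_left, hs.smul_right, hs.smul_right, huu, huz,
      hzu]
    linear_combination hk
  have huv : hermForm 3 F q u v = 1 := by rw [hv, hs.add_right, hs.smul_right, huz, huu, mul_zero, add_zero]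
  have hvu : hermForm 3 F q v u = 1 := by rw [swp hσ u v, huv, map_one]
  obtain ⟨e, he0, heu, hev⟩ := exists_kernel hσ u v
  have hue := orth_swp hσ heu
  have hve := orth_swp hσ hev
  have hli : LinearIndependent F ![u, v, e] := by
    rw [Fintype.linearIndependent_iff]
    intro a ha
    simp only [Fin.sum_univ_three, Matrix.cons_val_zero, Matrix.cons_val_one, Matrix.cons_val] at ha
    have a1 := congrArg (fun z => hermForm 3 F q z v) ha
    have a2 := congrArg (fun z => hermForm 3 F q z u) ha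
    simp only [hs.add_left, hs.smul_left, huv, hvu, hvv, huu, heu, hev, herm_zero_left hσ, mul_zero, mul_one,
      add_zero, zero_add] at a1 a2
    rw [a1, a2, zero_smul, zero_smul, zero_add, zero_add] at ha
    intro k; fin_cases k
    exacts [a1, a2, (smul_eq_zero.mp ha).resolve_right he0]
  have hzero : ∀ d, hermForm 3 F q d u = 0 → hermForm 3 F q d v = 0 → hermForm 3 F q d e = 0 → d = 0 := by
    intro d d1 d2 d3
    by_contra hd0
    obtain ⟨x, hx⟩ := (hσ.isUnitaryForm.nondegenerate d hd0).2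
    obtain ⟨a, rfl⟩ := (Submodule.mem_span_range_iff_exists_fun F).mp
      (show x ∈ Submodule.span F (Set.range ![u, v, e]) by
        rw [hli.span_eq_top_of_card_eq_finrank (by simp)]; exact Submodule.mem_top)
    simp only [Fin.sum_univ_three, Matrix.cons_val_zero, Matrix.cons_val_one, Matrix.cons_val, hs.add_right,
      hs.smul_right, d1, d2, d3, mul_zero, add_zero] at hx
    exact hx rfl
  refine ⟨e, v, ⟨huu, hvv, huv, hvu, hue, hve, fun w hw => ?_⟩, fun h => he0 (hzero e heu hev h)⟩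
  refine sub_eq_zero.mp ?_
  obtain ⟨d, hd⟩ : ∃ d, d = w + (-hermForm 3 F q w v) • u + (-hermForm 3 F q w u) • v := ⟨_, rfl⟩
  rw [show w - (hermForm 3 F q w v • u + hermForm 3 F q w u • v) = d by rw [hd]; module]
  refine hzero d ?_ ?_ ?_
  · rw [hd, hs.add_left, hs.add_left, hs.smul_left, hs.smul_left, huu, hvu]; ring
  · rw [hd, hs.add_left, hs.add_left, hs.smul_left, hs.smul_left, huv, hvv]; ring
  · rw [hd, hs.add_left, hs.add_left, hs.smul_left, hs.smul_left, hue, hve, hw]; ring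

/-- A torus element of the stabiliser commutes with no unipotent element. -/
theorem commute_trivial {e u v : Fin 3 → F} (P : Pair q e u v) (hee : hermForm 3 F q e e ≠ 0) {h g : GL (Fin 3) F}
    (hh : h ∈ suGL 3 F q) {l : F} (hl : (h : Matrix (Fin 3) (Fin 3) F) *ᵥ u = l • u) (hσl : σ l = l) (hl1 : l ≠ 1)
    (hl2 : l * l ≠ 1) (hg : g ∈ suGL 3 F q) (hgu : (g : Matrix (Fin 3) (Fin 3) F) *ᵥ u = u) (hc : h * g = g * h) :
    g = 1 := by
  by_contra hg1
  have hs := sf hσ
  obtain ⟨hl0, r, s, t, ⟨-, he, hv⟩, -, -⟩ := exists_par hσ P hee hh hl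
  rw [hσl, div_self hl0, one_smul] at he
  rw [hσl] at hv
  obtain ⟨m, hm⟩ : ∃ m, m = l⁻¹ := ⟨_, rfl⟩
  rw [← hm] at hv
  have hlm : l * m = 1 := by rw [hm]; exact mul_inv_cancel₀ hl0
  have hm1 : m - 1 ≠ 0 := fun e0 => hl1 (by linear_combination (-l) * e0 + hlm)
  have hml : m - l ≠ 0 := fun e0 => hl2 (by linear_combination (-l) * e0 + hlm)
  have hmm : m * m ≠ 1 := fun e0 => hl2 (by linear_combination (-(l * l)) * e0 + (l * m + 1) * hlm)
  obtain ⟨β, hβ⟩ : ∃ β, β = s / (m - 1) := ⟨_, rfl⟩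
  have hβ' : β * (m - 1) = s := by rw [hβ, div_mul_cancel₀ _ hm1]
  obtain ⟨γ, hγ⟩ : ∃ γ, γ = (t + β * r) / (m - l) := ⟨_, rfl⟩
  have hγ' : γ * (m - l) = t + β * r := by rw [hγ, div_mul_cancel₀ _ hml]
  obtain ⟨w, hwd⟩ : ∃ w, w = γ • u + β • e + v := ⟨_, rfl⟩
  have hhw : (h : Matrix (Fin 3) (Fin 3) F) *ᵥ w = m • w := by
    rw [hwd, Matrix.mulVec_add, Matrix.mulVec_add, Matrix.mulVec_smul, Matrix.mulVec_smul, hl, he, hv]
    match_scalars
    · linear_combination -hγ'
    · linear_combination -hβ'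
    · ring
  have hσm : σ m = m := by rw [hm, map_inv₀, hσl]
  have hwu : hermForm 3 F q w u = 1 := by
    rw [hwd, hs.add_left, hs.add_left, hs.smul_left, hs.smul_left, P.uu, orth_swp hσ P.ue, P.vu]; ring
  have hww : hermForm 3 F q w w = 0 := by
    have h' := mem_GU_iff.mp hh.1 w w
    rw [hhw, hs.smul_left, hs.smul_right, hσm] at h'
    exact (mul_eq_zero.mp (show (m * m - 1) * hermForm 3 F q w w = 0 by linear_combination h')).resolve_left
      (sub_ne_zero.mpr hmm)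
  obtain ⟨x, hxd⟩ : ∃ x, x = (g : Matrix (Fin 3) (Fin 3) F) *ᵥ w := ⟨_, rfl⟩
  have hhx : (h : Matrix (Fin 3) (Fin 3) F) *ᵥ x = m • x := by
    rw [hxd, ← gl_mul_mulVec, hc, gl_mul_mulVec, hhw, Matrix.mulVec_smul]
  have hd := pair_dec hσ P hee x
  obtain ⟨A, hA⟩ : ∃ A, A = hermForm 3 F q x v := ⟨_, rfl⟩
  obtain ⟨B, hB⟩ : ∃ B, B = hermForm 3 F q x e / hermForm 3 F q e e := ⟨_, rfl⟩
  obtain ⟨C, hC⟩ : ∃ C, C = hermForm 3 F q x u := ⟨_, rfl⟩
  rw [← hA, ← hB, ← hC] at hd
  rw [hd, Matrix.mulVec_add, Matrix.mulVec_add, Matrix.mulVec_smul, Matrix.mulVec_smul, Matrix.mulVec_smul, hl, he,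
    hv] at hhx
  have cv := congrArg (fun z => hermForm 3 F q z v) hhx
  have ce := congrArg (fun z => hermForm 3 F q z e) hhx
  simp only [hs.add_left, hs.smul_left, P.uv, P.ue, P.vv, P.ve, orth_swp hσ P.ve, mul_zero, mul_one, add_zero,
    zero_add] at cv ce
  have hB' : B = C * β := mul_right_cancel₀ hm1 (by
    have h0 : (B + C * s - m * B) * hermForm 3 F q e e = 0 := by linear_combination ce
    have := (mul_eq_zero.mp h0).resolve_right hee
    linear_combination -this - C * hβ')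
  have hA' : A = C * γ := mul_right_cancel₀ hml (by linear_combination -cv - C * hγ' + r * hB')
  have hxw : x = C • w := by rw [hd, hwd, hA', hB']; module
  have := fix_unique hσ P hee hg hg1 hgu hww (μ := C) (hxd ▸ hxw)
  rw [hwu] at this
  exact one_ne_zero this

section

variable {H : Subgroup (GL (Fin 3) F)} (hH : H ≤ suGL 3 F q)

include hH

/-- An element of prime order without fixed isotropic points. -/
theorem dvd_stable {r : ℕ} [Fact r.Prime] {x : GL (Fin 3) F} (hx : x ∈ H) (hxo : orderOf x = r)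
    (hfix : ∀ w : Fin 3 → F, w ≠ 0 → hermForm 3 F q w w = 0 → ∀ c : F, (x : Matrix (Fin 3) (Fin 3) F) *ᵥ w ≠ c • w)
    {S : Set (Submodule F (Fin 3 → F))} (hS : S ⊆ IsoPts F q) (hst : ∀ g ∈ H, ∀ L ∈ S, lineHom F g L ∈ S) :
    r ∣ Nat.card S := by
  classical
  haveI : Finite (Submodule F (Fin 3 → F)) :=
    Finite.of_injective (fun L : Submodule F (Fin 3 → F) => (L : Set (Fin 3 → F))) SetLike.coe_injective
  obtain ⟨U, hU⟩ : ∃ U, U = Subgroup.zpowers x := ⟨_, rfl⟩
  have hUH : U ≤ H := hU ▸ Subgroup.zpowers_le.mpr hx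
  have hUp : IsPGroup r U := IsPGroup.of_card (n := 1) (by rw [hU, Nat.card_zpowers, hxo, pow_one])
  letI : MulAction U S :=
    { smul := fun g L => ⟨lineHom F (g : GL (Fin 3) F) L, hst g (hUH g.2) L L.2⟩
      one_smul := fun L => Subtype.ext (by
        show lineHom F ((1 : U) : GL (Fin 3) F) L = L
        rw [Subgroup.coe_one, map_one, Equiv.Perm.one_apply])
      mul_smul := fun g h L => Subtype.ext (by
        show lineHom F ((g * h : U) : GL (Fin 3) F) L = lineHom F g (lineHom F h L)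
        rw [Subgroup.coe_mul, map_mul, Equiv.Perm.mul_apply]) }
  by_contra hnd
  obtain ⟨L, hL⟩ := hUp.nonempty_fixed_point_of_prime_not_dvd_card S hnd
  obtain ⟨w, hw0, hww, hLw⟩ := hS L.2
  have hxL : lineHom F x L = L := congrArg Subtype.val (hL ⟨x, hU ▸ Subgroup.mem_zpowers x⟩)
  rw [hLw, lineHom_span] at hxL
  obtain ⟨c, -, hc⟩ := exists_smul_of_span
    (fun h' => hw0 (gl_mulVec_injective x (h'.trans (Matrix.mulVec_zero _).symm))) hxL
  exact hfix w hw0 hww c hc

/-- The point fixed by a Sylow subgroup for the characteristic. -/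
theorem over_shape {p : ℕ} [Fact p.Prime] [CharP F p] {r : ℕ} [Fact r.Prime] (hrp : r ≠ p) {x : GL (Fin 3) F}
    (hx : x ∈ H) (hxo : orderOf x = r)
    (hfix : ∀ w : Fin 3 → F, w ≠ 0 → hermForm 3 F q w w = 0 → ∀ c : F, (x : Matrix (Fin 3) (Fin 3) F) *ᵥ w ≠ c • w)
    {a : ℕ} (ha : a = (Nat.card H).factorization p) :
    ∃ e u v : Fin 3 → F, ∃ o : ℕ, Pair q e u v ∧ hermForm 3 F q e e ≠ 0 ∧ o * Nat.card (Stab H u) = Nat.card H ∧
      p ^ a ∣ Nat.card (Stab H u) ∧ r ∣ o ∧ o ≤ q ^ 3 + 1 ∧ p ^ a * r ∣ q ^ 3 + 1 - o := by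
  classical
  haveI : Finite (Submodule F (Fin 3 → F)) :=
    Finite.of_injective (fun L : Submodule F (Fin 3 → F) => (L : Set (Fin 3 → F))) SetLike.coe_injective
  obtain ⟨S₀⟩ : Nonempty (Sylow p H) := inferInstance
  obtain ⟨S, hS⟩ : ∃ S : Subgroup (GL (Fin 3) F), S = (S₀ : Subgroup H).map H.subtype := ⟨_, rfl⟩
  have hSH : S ≤ H := hS ▸ Subgroup.map_subtype_le _
  have hSp : IsPGroup p S := hS ▸ S₀.isPGroup'.map _
  have hSc : Nat.card S = p ^ a := by
    rw [hS, Nat.card_congr (Subgroup.equivMapOfInjective _ H.subtype Subtype.val_injective).toEquiv.symm,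
      S₀.card_eq_multiplicity, ha]
  obtain ⟨u, hu0, huu, hSu⟩ := pgroup_fix_iso hσ (Fact.out : p.Prime) (hSH.trans hH) hSp
  obtain ⟨e, v, P, hee⟩ := exists_iso_pair hσ hu0 huu
  have hsub := orb_subset hσ hH hu0 huu
  obtain ⟨R, hR⟩ : ∃ R, R = IsoPts F q \ orb H u := ⟨_, rfl⟩
  have hmap : ∀ g ∈ H, ∀ L ∈ orb H u, lineHom F g L ∈ orb H u := by
    rintro g hg L ⟨k, hk, rfl⟩
    exact ⟨g * k, H.mul_mem hg hk, by rw [lineHom_span, gl_mul_mulVec]⟩
  have hRst : ∀ g ∈ H, ∀ L ∈ R, lineHom F g L ∈ R := by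
    intro g hg L hL
    rw [hR] at hL ⊢
    obtain ⟨w, hw0, hww, rfl⟩ := hL.1
    refine ⟨⟨_, fun h => hw0 (gl_mulVec_injective g (h.trans (Matrix.mulVec_zero _).symm)),
      (mem_GU_iff.mp (hH hg).1 w w).trans hww, lineHom_span g w⟩, fun h => hL.2 ?_⟩
    have := hmap g⁻¹ (inv_mem hg) _ h
    rwa [lineHom_span, lineHom_span, gl_inv_mulVec_cancel] at this
  have hRc : Nat.card R = q ^ 3 + 1 - Nat.card (orb H u) := by
    rw [hR, ← card_isoPts hσ]
    exact Set.ncard_diff hsub (Set.toFinite _)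
  refine ⟨e, u, v, Nat.card (orb H u), P, hee, card_orb_mul hu0, ?_, ?_, ?_, ?_⟩
  · rw [← hSc]
    exact Subgroup.card_dvd_of_le fun g hg => mem_Stab.mpr ⟨hSH hg, 1, by rw [one_smul]; exact hSu g hg⟩
  · exact dvd_stable hσ hH hx hxo hfix hsub hmap
  · rw [← card_isoPts hσ]
    exact Set.ncard_le_ncard hsub (Set.toFinite _)
  refine Nat.Coprime.mul_dvd_of_dvd_of_dvd
    (Nat.Coprime.pow_left a ((Nat.coprime_primes (Fact.out : p.Prime) (Fact.out : r.Prime)).mpr (Ne.symm hrp))) ?_ ?_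
  · rw [← hRc, ← hSc]
    letI : MulAction S R :=
      { smul := fun g L => ⟨lineHom F (g : GL (Fin 3) F) L, hRst g (hSH g.2) L L.2⟩
        one_smul := fun L => Subtype.ext (by
          show lineHom F ((1 : S) : GL (Fin 3) F) L = L
          rw [Subgroup.coe_one, map_one, Equiv.Perm.one_apply])
        mul_smul := fun g h L => Subtype.ext (by
          show lineHom F ((g * h : S) : GL (Fin 3) F) L = lineHom F g (lineHom F h L)
          rw [Subgroup.coe_mul, map_mul, Equiv.Perm.mul_apply]) }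
    refine free_dvd fun g L hgL => ?_
    by_contra hg1
    have hL : (L : Submodule F (Fin 3 → F)) ∈ IsoPts F q \ orb H u := hR ▸ L.2
    obtain ⟨w, hw0, hww, hLw⟩ := hL.1
    have hgw : lineHom F (g : GL (Fin 3) F) L = L := congrArg Subtype.val hgL
    rw [hLw, lineHom_span] at hgw
    obtain ⟨c, -, hc⟩ := exists_smul_of_span
      (fun h' => hw0 (gl_mulVec_injective (g : GL (Fin 3) F) (h'.trans (Matrix.mulVec_zero _).symm))) hgw
    have hwu := fix_unique hσ P hee (hH (hSH g.2)) (fun e1 => hg1 (Subtype.ext e1)) (hSu g g.2) hww hc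
    have hp := prop_of_orth hσ P hee hww hwu
    refine hL.2 ⟨1, one_mem H, ?_⟩
    rw [Units.val_one, Matrix.one_mulVec, hLw]
    exact span_eq_span (fun e0 => hw0 (by rw [hp, e0, zero_smul])) hp
  · rw [← hRc]
    exact dvd_stable hσ hH hx hxo hfix (hR ▸ Set.diff_subset) hRst

/-- The unipotent radical of a stabiliser and a torus element of prime order `r`. -/
theorem stab_fpf {p : ℕ} [Fact p.Prime] [CharP F p] {r : ℕ} [Fact r.Prime] (hr2 : r ≠ 2) (hrp : r ≠ p)
    (hrq : r ∣ q - 1) {e u v : Fin 3 → F} (P : Pair q e u v) (hee : hermForm 3 F q e e ≠ 0) {a k : ℕ}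
    (hk : Nat.card (Stab H u) = p ^ a * k) (hpk : ¬ p ∣ k) (hrk : r ∣ k) : p ^ a ≡ 1 [MOD r] := by
  classical
  have hp : p.Prime := Fact.out
  have hr : r.Prime := Fact.out
  have hs := sf hσ
  let Fx : Subgroup (GL (Fin 3) F) :=
    { carrier := {g | g ∈ H ∧ (g : Matrix (Fin 3) (Fin 3) F) *ᵥ u = u}
      one_mem' := ⟨one_mem H, by rw [Units.val_one, Matrix.one_mulVec]⟩
      mul_mem' := fun {g h} hg hh => ⟨H.mul_mem hg.1 hh.1, by rw [gl_mul_mulVec, hh.2, hg.2]⟩
      inv_mem' := fun {g} hg => ⟨H.inv_mem hg.1, by conv_lhs => rw [← hg.2, gl_inv_mulVec_cancel]⟩ }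
  have hpg : IsPGroup p Fx := fun g => ⟨2, Subtype.ext (by
    rw [Subgroup.coe_pow, Subgroup.coe_one]
    exact fixer_pow hσ P hee hp (hH g.2.1) g.2.2)⟩
  have hle : Fx ≤ Stab H u := fun g hg => mem_Stab.mpr ⟨hg.1, 1, by rw [one_smul]; exact hg.2⟩
  obtain ⟨b, hb⟩ := IsPGroup.iff_card.mp hpg
  -- the eigenvalue of an element of the stabiliser
  have hpow : ∀ (g : GL (Fin 3) F) (l : F), (g : Matrix (Fin 3) (Fin 3) F) *ᵥ u = l • u →
      ∀ n : ℕ, ((g ^ n : GL (Fin 3) F) : Matrix (Fin 3) (Fin 3) F) *ᵥ u = l ^ n • u := fun g l hg n => by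
    induction n with
    | zero => simp
    | succ n ih => rw [pow_succ, gl_mul_mulVec, hg, Matrix.mulVec_smul, ih, smul_smul, pow_succ, mul_comm]
  have heq : ∀ l l' : F, l • u = l' • u → l = l' := fun l l' h => by
    simpa [hs.smul_left, P.uv] using congrArg (fun z => hermForm 3 F q z v) h
  -- every p-element of the stabiliser fixes u
  obtain ⟨S₀⟩ : Nonempty (Sylow p (Stab H u)) := inferInstance
  obtain ⟨S, hS⟩ : ∃ S : Subgroup (GL (Fin 3) F), S = (S₀ : Subgroup (Stab H u)).map (Stab H u).subtype := ⟨_, rfl⟩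
  have hSc : Nat.card S = p ^ a := by
    rw [hS, Nat.card_congr (Subgroup.equivMapOfInjective _ (Stab H u).subtype Subtype.val_injective).toEquiv.symm,
      S₀.card_eq_multiplicity, hk, Nat.factorization_mul (pow_ne_zero _ hp.ne_zero) (show k ≠ 0 from fun e0 => hpk (e0.symm ▸ dvd_zero p)),
      Finsupp.add_apply, Nat.factorization_pow, Finsupp.smul_apply, hp.factorization_self,
      Nat.factorization_eq_zero_of_not_dvd hpk]
    simp
  have hSF : S ≤ Fx := by
    intro g hg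
    have hgS : g ∈ Stab H u := by rw [hS] at hg; exact Subgroup.map_subtype_le _ hg
    obtain ⟨hgH, l, hl⟩ := mem_Stab.mp hgS
    refine ⟨hgH, ?_⟩
    have hgp : g ^ (p ^ a) = 1 := by
      have := congrArg Subtype.val (pow_card_eq_one' (G := S) (x := ⟨g, hg⟩))
      rwa [Subgroup.coe_pow, Subgroup.coe_one, hSc] at this
    have h1 := hpow g l hl (p ^ a)
    rw [hgp, Units.val_one, Matrix.one_mulVec] at h1
    have h2 : l ^ (p ^ a) = 1 := heq _ _ (by rw [one_smul]; exact h1.symm)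
    have : (l - 1) ^ (p ^ a) = 0 := by rw [sub_pow_char_pow, one_pow, h2, sub_self]
    rw [hl, sub_eq_zero.mp (pow_eq_zero_iff (pow_ne_zero _ hp.ne_zero) |>.mp this), one_smul]
  have hFx : Nat.card Fx = p ^ a := by
    have h1 := Subgroup.card_dvd_of_le hSF
    have h2 := Subgroup.card_dvd_of_le hle
    rw [hSc, hb] at h1
    rw [hk, hb] at h2
    have h3 := (Nat.Coprime.pow_left b (hp.coprime_iff_not_dvd.mpr hpk)).dvd_of_dvd_mul_right h2
    rw [hb]
    exact Nat.dvd_antisymm h3 h1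
  obtain ⟨⟨h, hhS⟩, hho⟩ := exists_prime_orderOf_dvd_card' (G := Stab H u) r (hk ▸ hrk.mul_left _)
  rw [← Subgroup.orderOf_coe] at hho
  change orderOf h = r at hho
  obtain ⟨hhH, l, hl⟩ := mem_Stab.mp hhS
  have hlr : l ^ r = 1 := by
    have h1 := hpow h l hl r
    rw [← hho, pow_orderOf_eq_one, Units.val_one, Matrix.one_mulVec, hho] at h1
    exact heq _ _ (by rw [one_smul]; exact h1.symm)
  have hl1 : l ≠ 1 := fun e1 => by
    have h1 := fixer_pow hσ P hee hp (hH hhH) (by rw [hl, e1, one_smul])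
    have h2 := orderOf_dvd_of_pow_eq_one h1
    rw [hho] at h2
    exact hrp ((Nat.prime_dvd_prime_iff_eq hr hp).mp (hr.dvd_of_dvd_pow h2))
  have hl2 : l * l ≠ 1 := fun e1 => by
    obtain ⟨j, hj⟩ := hr.odd_of_ne_two hr2
    rw [hj, pow_succ, pow_mul, pow_two, e1, one_pow, one_mul] at hlr
    exact hl1 hlr
  have hσl : σ l = l := by
    obtain ⟨j, hj⟩ := hrq
    have := hσ.two_le
    rw [hσ.apply_eq, show q = r * j + 1 by omega, pow_succ, pow_mul, hlr, one_pow, one_mul]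
  -- conjugation on the fixer
  obtain ⟨U, hU⟩ : ∃ U, U = Subgroup.zpowers h := ⟨_, rfl⟩
  have hUp : IsPGroup r U := IsPGroup.of_card (n := 1) (by rw [hU, Nat.card_zpowers, hho, pow_one])
  have hUS : U ≤ Stab H u := hU ▸ Subgroup.zpowers_le.mpr hhS
  have hconj : ∀ g ∈ U, ∀ y ∈ Fx, g * y * g⁻¹ ∈ Fx := by
    intro g hg y hy
    obtain ⟨hgH, c, hc⟩ := mem_Stab.mp (hUS hg)
    refine ⟨H.mul_mem (H.mul_mem hgH hy.1) (H.inv_mem hgH), ?_⟩
    have hc0 : c ≠ 0 := fun e0 => by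
      rw [e0, zero_smul] at hc
      exact (ne_zero_of_herm hσ (x := u) (y := v) (by rw [P.uv]; exact one_ne_zero)).1
        (gl_mulVec_injective g (hc.trans (Matrix.mulVec_zero _).symm))
    have hinv : ((g⁻¹ : GL (Fin 3) F) : Matrix (Fin 3) (Fin 3) F) *ᵥ u = c⁻¹ • u := by
      conv_lhs => rw [← inv_smul_smul₀ hc0 u, ← hc, Matrix.mulVec_smul, gl_inv_mulVec_cancel]
    rw [gl_mul_mulVec, gl_mul_mulVec, hinv, Matrix.mulVec_smul, hy.2, Matrix.mulVec_smul, hc, inv_smul_smul₀ hc0]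
  letI : MulAction U Fx :=
    { smul := fun g y => ⟨(g : GL (Fin 3) F) * y * (g : GL (Fin 3) F)⁻¹, hconj g g.2 y y.2⟩
      one_smul := fun y => Subtype.ext (by
        show ((1 : U) : GL (Fin 3) F) * y * ((1 : U) : GL (Fin 3) F)⁻¹ = y
        rw [Subgroup.coe_one, one_mul, inv_one, mul_one])
      mul_smul := fun g g' y => Subtype.ext (by
        show ((g * g' : U) : GL (Fin 3) F) * y * ((g * g' : U) : GL (Fin 3) F)⁻¹ =
          (g : GL (Fin 3) F) * ((g' : GL (Fin 3) F) * y * (g' : GL (Fin 3) F)⁻¹) * (g : GL (Fin 3) F)⁻¹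
        rw [Subgroup.coe_mul]; group) }
  have hfp : MulAction.fixedPoints U Fx = {1} := by
    ext y
    rw [Set.mem_singleton_iff, MulAction.mem_fixedPoints]
    constructor
    · intro hy
      have h1 : h * y * h⁻¹ = y := congrArg Subtype.val (hy ⟨h, hU ▸ Subgroup.mem_zpowers h⟩)
      exact Subtype.ext (commute_trivial hσ P hee (hH hhH) hl hσl hl1 hl2 (hH y.2.1) y.2.2
        (mul_inv_eq_iff_eq_mul.mp h1))
    · rintro rfl g
      exact Subtype.ext (show (g : GL (Fin 3) F) * ((1 : Fx) : GL (Fin 3) F) * (g : GL (Fin 3) F)⁻¹ = _ by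
        rw [Subgroup.coe_one, mul_one, mul_inv_cancel])
  have hmod := hUp.card_modEq_card_fixedPoints Fx
  rwa [hFx, hfp, Nat.card_unique] at hmod

end

end Cfsg.Agent.Classical.UThree
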