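/-
Singer normalisers are maximal in `SU_3(q)` for `q ≠ 3, 5`.
-/
import Cfsg.Agent.Lib.Classical.UThree.SingerArith
import Cfsg.Agent.Lib.Classical.UThree.SingerFix
import Cfsg.Agent.Lib.Classical.UThree.Count
import Cfsg.Agent.Lib.Classical.LinThree.SingerMax
import Cfsg.Agent.Lib.Classical.UnitarySmallDim

set_option autoImplicit false
set_option linter.unusedSectionVars false
set_option linter.style.haveILetI false
set_option maxHeartbeats 400000

namespace Cfsg.Agent.Classical.UThree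

open Matrix Cfsg.Geo
open Cfsg.Agent.Classical
open Cfsg.Agent.Classical.LinThree (Tor NS IsSc eig_scalar cube cube_root_scalar norm_of_conj isSc_center)

variable {F : Type*} [Field F] [Fintype F] {q : ℕ} {σ : F ≃+* F} {K : Subalgebra F (Matrix (Fin 3) (Fin 3) F)}

theorem scal_norm (hσ : IsUSigma q σ) {g : GL (Fin 3) F} (hg : g ∈ GU 3 F q) {c : F}
    (e : (g : Matrix (Fin 3) (Fin 3) F) = c • 1) : c * σ c = 1 := by
  have h := mem_GU_iff.mp hg (Pi.single 0 1) (Pi.single 0 1)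
  rw [e, Matrix.smul_mulVec, Matrix.one_mulVec, (sf hσ).smul_left, (sf hσ).smul_right] at h
  simp only [hσ.hermForm_single, Pi.single_eq_same, map_one, mul_one] at h
  exact h

/-- The index of the normaliser in an overgroup is one modulo the orbit length. -/
theorem index_mod (hσ : IsUSigma q σ) (hK : IsFieldSubalgebra 3 K) {H : Subgroup (GL (Fin 3) F)} (hH : H ≤ suGL 3 F q)
    (hN : Nu K q ≤ H) {Q' : ℕ} (hQ' : Q' * Nat.gcd 3 (q + 1) = Nat.card (Tu hK q)) :
    Nat.card (H ⧸ (Nu K q).subgroupOf H) ≡ 1 [MOD Q'] := by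
  classical
  have hTH : Tu hK q ≤ H := (tu_le_nu hK).trans hN
  let T := (Tu hK q).subgroupOf H
  have hstab : ∀ (h : H) (t : T), t • (h : H ⧸ (Nu K q).subgroupOf H) = (h : H ⧸ (Nu K q).subgroupOf H) →
      IsSc ((t : H) : GL (Fin 3) F) ∨ (h : GL (Fin 3) F) ∈ Nu K q := by
    intro h t ht
    obtain ⟨y, hy⟩ : ∃ y : GL (Fin 3) F, y = (h : GL (Fin 3) F)⁻¹ * ((t : H) : GL (Fin 3) F) * (h : GL (Fin 3) F) := ⟨_, rfl⟩
    have hyN : y ∈ Nu K q := by
      have ht' : (((t : H) * h : H) : H ⧸ (Nu K q).subgroupOf H) = (h : H ⧸ (Nu K q).subgroupOf H) := ht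
      have := inv_mem (QuotientGroup.eq.mp ht')
      rw [Subgroup.mem_subgroupOf] at this
      rw [hy]
      simpa [_root_.mul_inv_rev, mul_assoc] using this
    by_cases hts : IsSc ((t : H) : GL (Fin 3) F)
    · exact Or.inl hts
    right
    rcases cube hK hyN.1 with hyT | hyc
    · refine ⟨⟨?_, (hH h.2).2⟩, (hH h.2).1⟩
      have hns : ∀ c : F, ((t : H) : GL (Fin 3) F).val ≠ c • 1 := fun c e => hts ⟨c, e⟩
      have := norm_of_conj hK (g := (h : GL (Fin 3) F)⁻¹) (Subgroup.mem_subgroupOf.mp t.2).1.1 hns (by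
        rw [inv_inv]
        have e := hyT.1
        rwa [hy, Units.val_mul, Units.val_mul] at e)
      simpa using inv_mem this
    · exfalso
      refine hts (cube_root_scalar hK (Subgroup.mem_subgroupOf.mp t.2).1 ?_)
      have e : y ^ 3 = (h : GL (Fin 3) F)⁻¹ * ((t : H) : GL (Fin 3) F) ^ 3 * (h : GL (Fin 3) F) := by
        rw [hy]; simp only [pow_succ, pow_zero, one_mul]; group
      have e2 : ((t : H) : GL (Fin 3) F) ^ 3 = (h : GL (Fin 3) F) * y ^ 3 * (h : GL (Fin 3) F)⁻¹ := by rw [e]; group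
      rw [e2, ← isSc_center hyc (x := (h : GL (Fin 3) F)), mul_inv_cancel_right]
      exact hyc
  have hfix : ∀ (h : H) (t : T), IsSc ((t : H) : GL (Fin 3) F) →
      t • (h : H ⧸ (Nu K q).subgroupOf H) = (h : H ⧸ (Nu K q).subgroupOf H) := by
    intro h t ht
    show (((t : H) * h : H) : H ⧸ (Nu K q).subgroupOf H) = (h : H ⧸ (Nu K q).subgroupOf H)
    refine QuotientGroup.eq.mpr (Subgroup.mem_subgroupOf.mpr ?_)
    have e : (((((t : H) * h)⁻¹ * h : H)) : GL (Fin 3) F) = (((t : H) : GL (Fin 3) F))⁻¹ := by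
      simp only [Subgroup.coe_mul, Subgroup.coe_inv]
      rw [← isSc_center ht (x := (h : GL (Fin 3) F)) |>.symm]
      group
    rw [e]
    exact inv_mem (tu_le_nu hK (Subgroup.mem_subgroupOf.mp t.2))
  -- scalars of the torus
  let Z : Subgroup T :=
    { carrier := {t | IsSc ((t : H) : GL (Fin 3) F)}
      one_mem' := ⟨1, by simp⟩
      mul_mem' := by
        rintro a b ⟨x, hx⟩ ⟨y, hy⟩
        exact ⟨x * y, by simp [hx, hy, smul_smul, mul_comm]⟩
      inv_mem' := by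
        rintro a ⟨x, hx⟩
        have hx0 : x ≠ 0 := fun e => ((a : H) : GL (Fin 3) F).ne_zero (by rw [hx, e, zero_smul])
        refine ⟨x⁻¹, ?_⟩
        have e : ((((a : H) : GL (Fin 3) F)⁻¹ : GL (Fin 3) F) : Matrix (Fin 3) (Fin 3) F) * (((a : H) : GL (Fin 3) F) : Matrix (Fin 3) (Fin 3) F) = 1 := by
          rw [← Units.val_mul, inv_mul_cancel, Units.val_one]
        rw [hx, Matrix.mul_smul, Matrix.mul_one] at e
        show ((((a⁻¹ : T) : H) : GL (Fin 3) F) : Matrix (Fin 3) (Fin 3) F) = x⁻¹ • 1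
        rw [← e, smul_smul, inv_mul_cancel₀ hx0, one_smul]
        simp }
  have hZ : Nat.card Z = Nat.gcd 3 (q + 1) := by
    rw [← cub_card hσ]
    refine Nat.card_congr (Equiv.ofBijective
      (fun t : Z => (⟨(t.2 : IsSc _).choose, ?_, ?_⟩ : {w : F // w ^ 3 = 1 ∧ w * σ w = 1})) ⟨?_, ?_⟩)
    · have := mem_specialLinear_iff.mp (Subgroup.mem_subgroupOf.mp (t : T).2).1.2
      rw [(t.2 : IsSc _).choose_spec, Matrix.det_smul, Matrix.det_one, mul_one, Fintype.card_fin] at this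
      exact this
    · exact scal_norm hσ (Subgroup.mem_subgroupOf.mp (t : T).2).2 (t.2 : IsSc _).choose_spec
    · intro a b hab
      have e := congrArg Subtype.val hab
      refine Subtype.ext (Subtype.ext (Subtype.ext (Units.ext ?_)))
      rw [(a.2 : IsSc _).choose_spec, (b.2 : IsSc _).choose_spec]
      exact congrArg (fun c : F => c • (1 : Matrix (Fin 3) (Fin 3) F)) e
    · rintro ⟨c, hc, hcn⟩
      obtain ⟨g, hg⟩ : ∃ g : GL (Fin 3) F, (g : Matrix (Fin 3) (Fin 3) F) = c • 1 :=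
        ⟨GeneralLinearGroup.mkOfDetNeZero (c • (1 : Matrix (Fin 3) (Fin 3) F))
          (by rw [Matrix.det_smul, Matrix.det_one, mul_one, Fintype.card_fin, hc]; exact one_ne_zero), rfl⟩
      have hgT : g ∈ Tu hK q := ⟨⟨by rw [hg]; exact K.smul_mem (one_mem K) _, mem_specialLinear_iff.mpr (by
        rw [hg, Matrix.det_smul, Matrix.det_one, mul_one, Fintype.card_fin, hc])⟩, mem_GU_iff.mpr fun x y => by
        rw [hg, Matrix.smul_mulVec, Matrix.smul_mulVec, Matrix.one_mulVec, Matrix.one_mulVec, (sf hσ).smul_left,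
          (sf hσ).smul_right, ← mul_assoc, hcn, one_mul]⟩
      refine ⟨⟨⟨⟨g, hTH hgT⟩, hgT⟩, ⟨c, hg⟩⟩, Subtype.ext ?_⟩
      have := hg.symm.trans (show IsSc g from ⟨c, hg⟩).choose_spec
      have := congrFun (congrFun this 0) 0
      simpa using this.symm
  have hT : Nat.card T = Q' * Nat.card Z := by
    rw [hZ, hQ']
    exact Nat.card_congr (Subgroup.subgroupOfEquivOfLe hTH).toEquiv
  -- orbit lengths
  obtain ⟨x₀, hx₀⟩ : ∃ x₀ : H ⧸ (Nu K q).subgroupOf H, x₀ = ((1 : H) : H ⧸ (Nu K q).subgroupOf H) := ⟨_, rfl⟩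
  have horb1 : ∀ t : T, t • x₀ = x₀ := fun t => by
    rw [hx₀]
    show (((t : H) * 1 : H) : H ⧸ (Nu K q).subgroupOf H) = ((1 : H) : H ⧸ (Nu K q).subgroupOf H)
    refine QuotientGroup.eq.mpr (Subgroup.mem_subgroupOf.mpr ?_)
    simpa using inv_mem (tu_le_nu hK (Subgroup.mem_subgroupOf.mp t.2))
  have horb : ∀ x : H ⧸ (Nu K q).subgroupOf H, x ≠ x₀ → Nat.card (MulAction.orbit T x) = Q' := by
    intro x hx
    induction x using QuotientGroup.induction_on with
    | _ h =>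
      have hs : MulAction.stabilizer T ((h : H ⧸ (Nu K q).subgroupOf H)) = Z := by
        ext t
        rw [MulAction.mem_stabilizer_iff]
        constructor
        · intro ht
          rcases hstab h t ht with h' | h'
          · exact h'
          · exact absurd (by rw [hx₀]; exact QuotientGroup.eq.mpr (Subgroup.mem_subgroupOf.mpr (by simpa using inv_mem h'))) hx
        · exact hfix h t
      have hc := MulAction.orbitEquivQuotientStabilizer T (h : H ⧸ (Nu K q).subgroupOf H)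
      rw [Nat.card_congr hc, hs]
      have e := Subgroup.card_eq_card_quotient_mul_card_subgroup Z
      rw [hT] at e
      exact (Nat.eq_of_mul_eq_mul_right Nat.card_pos e).symm
  have hsum : Nat.card (H ⧸ (Nu K q).subgroupOf H) =
      ∑ ω : MulAction.orbitRel.Quotient T (H ⧸ (Nu K q).subgroupOf H), Nat.card (MulAction.orbitRel.Quotient.orbit ω) := by
    rw [Nat.card_congr (MulAction.selfEquivSigmaOrbits' T (H ⧸ (Nu K q).subgroupOf H)), Nat.card_sigma]
  rw [hsum, ← Finset.add_sum_erase _ _ (Finset.mem_univ (Quotient.mk'' x₀ : MulAction.orbitRel.Quotient T _))]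
  have h1 : Nat.card (MulAction.orbitRel.Quotient.orbit (Quotient.mk'' x₀ : MulAction.orbitRel.Quotient T _)) = 1 := by
    rw [MulAction.orbitRel.Quotient.orbit_mk]
    haveI : Subsingleton (MulAction.orbit T x₀) := ⟨by
      rintro ⟨_, a, rfl⟩ ⟨_, b, rfl⟩
      exact Subtype.ext ((horb1 a).trans (horb1 b).symm)⟩
    haveI : Nonempty (MulAction.orbit T x₀) := ⟨⟨x₀, MulAction.mem_orbit_self x₀⟩⟩
    exact Nat.card_eq_one_iff_unique.mpr ⟨inferInstance, inferInstance⟩
  rw [h1]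
  have hdvd : Q' ∣ ∑ ω ∈ Finset.univ.erase (Quotient.mk'' x₀ : MulAction.orbitRel.Quotient T (H ⧸ (Nu K q).subgroupOf H)),
      Nat.card (MulAction.orbitRel.Quotient.orbit ω) := by
    refine Finset.dvd_sum fun ω hω => ?_
    rw [Finset.mem_erase] at hω
    revert hω
    refine Quotient.inductionOn' ω fun x hω => ?_
    rw [MulAction.orbitRel.Quotient.orbit_mk, horb x fun e => hω.1 (by rw [e])]
  exact (Nat.ModEq.add_left 1 (Nat.modEq_zero_iff_dvd.mpr hdvd)).trans (by rw [add_zero])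

theorem fact_two {a k : ℕ} (hk : ¬ 2 ∣ k) : (2 ^ a * k).factorization 2 = a := by
  rw [Nat.factorization_mul (pow_ne_zero _ two_ne_zero) (show k ≠ 0 from fun e0 => hk (e0.symm ▸ dvd_zero 2)),
    Finsupp.add_apply, Nat.factorization_pow, Finsupp.smul_apply, Nat.prime_two.factorization_self,
    Nat.factorization_eq_zero_of_not_dvd hk]
  simp

/-- An element of the torus fixing a line has order dividing three. -/
theorem fix_cube (hK : IsFieldSubalgebra 3 K) {x : GL (Fin 3) F} (hx : x ∈ Tu hK q) {w : Fin 3 → F} (hw : w ≠ 0)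
    {c : F} (h : (x : Matrix (Fin 3) (Fin 3) F) *ᵥ w = c • w) : x ^ 3 = 1 := by
  have e := eig_scalar hK hx.1.1 hw h
  have hd := mem_specialLinear_iff.mp hx.1.2
  rw [e, Matrix.det_smul, Matrix.det_one, mul_one, Fintype.card_fin] at hd
  exact Units.ext (by rw [Units.val_pow_eq_pow_val, e, smul_pow, one_pow, hd, one_smul, Units.val_one])

/-- The small exceptional indices do not occur. -/
theorem no_exc (hσ : IsUSigma q σ) (hK : IsFieldSubalgebra 3 K) (hac : IsAdjointClosedFor (hermForm 3 F q) K)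
    {H : Subgroup (GL (Fin 3) F)} (hH : H ≤ suGL 3 F q) (hN : Nu K q ≤ H)
    (h : (q = 4 ∧ Nat.card H = 1560) ∨ (q = 8 ∧ (Nat.card H = 16416 ∨ Nat.card H = 172368))) : False := by
  classical
  obtain ⟨hT, -⟩ := singer_orders hσ hK hac
  obtain ⟨p, hchar⟩ := CharP.exists F
  haveI := hchar
  obtain ⟨n, hp, hn⟩ := FiniteField.card F p
  haveI := Fact.mk hp
  have hp2 : p = 2 := by
    refine ((Nat.prime_dvd_prime_iff_eq Nat.prime_two hp).mp (Nat.prime_two.dvd_of_dvd_pow (n := (n : ℕ)) ?_)).symm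
    rw [← hn, hσ.card]
    rcases h with ⟨rfl, -⟩ | ⟨rfl, -⟩ <;> norm_num
  subst hp2
  have hfind : ∀ r : ℕ, r.Prime → r ≠ 3 → r ∣ Nat.card (Tu hK q) → ∃ x ∈ H, orderOf x = r ∧
      ∀ w : Fin 3 → F, w ≠ 0 → hermForm 3 F q w w = 0 → ∀ c : F, (x : Matrix (Fin 3) (Fin 3) F) *ᵥ w ≠ c • w := by
    intro r hr hr3 hd
    haveI := Fact.mk hr
    obtain ⟨⟨x, hxT⟩, hx⟩ := exists_prime_orderOf_dvd_card' (G := Tu hK q) r hd
    rw [← Subgroup.orderOf_coe] at hx
    change orderOf x = r at hx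
    refine ⟨x, hN (tu_le_nu hK hxT), hx, fun w hw _ c hc => hr3 ?_⟩
    have := orderOf_dvd_of_pow_eq_one (fix_cube hK hxT hw hc)
    rw [hx] at this
    exact (Nat.prime_dvd_prime_iff_eq hr Nat.prime_three).mp this
  rcases h with ⟨rfl, h1⟩ | ⟨rfl, h1 | h1⟩
  · haveI : Fact (Nat.Prime 13) := ⟨by norm_num⟩
    haveI : Fact (Nat.Prime 3) := ⟨Nat.prime_three⟩
    obtain ⟨x, hx, hxo, hfix⟩ := hfind 13 (by norm_num) (by norm_num) (by rw [hT])
    obtain ⟨e, u, v, o, P, hee, hcard, -, h13, hle, hd⟩ := over_shape hσ hH (p := 2) (by norm_num) hx hxo hfix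
      (a := 3) (by rw [h1, show 1560 = 2 ^ 3 * 195 by norm_num, fact_two (by norm_num)])
    obtain ⟨t, ht⟩ := hd
    norm_num at ht hle
    have ho : o = 65 := by omega
    subst ho
    have := stab_fpf hσ hH (p := 2) (r := 3) (by norm_num) (by norm_num) (by norm_num) P hee (a := 3) (k := 3)
      (show Nat.card (Stab H u) = 24 by rw [h1] at hcard; omega) (by norm_num) (dvd_refl 3)
    norm_num [Nat.ModEq] at this
  · haveI : Fact (Nat.Prime 19) := ⟨by norm_num⟩
    haveI : Fact (Nat.Prime 3) := ⟨Nat.prime_three⟩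
    obtain ⟨x, hx, hxo, hfix⟩ := hfind 19 (by norm_num) (by norm_num) (by rw [hT]; norm_num)
    obtain ⟨e, u, v, o, P, hee, hcard, -, h19, hle, hd⟩ := over_shape hσ hH (p := 2) (by norm_num) hx hxo hfix
      (a := 5) (by rw [h1, show 16416 = 2 ^ 5 * 513 by norm_num, fact_two (by norm_num)])
    obtain ⟨t, ht⟩ := hd
    norm_num at ht hle
    have ho : o = 513 := by omega
    subst ho
    obtain ⟨⟨y, hyT⟩, hy⟩ := exists_prime_orderOf_dvd_card' (G := Tu hK 8) 3 (by rw [hT]; norm_num)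
    rw [← Subgroup.orderOf_coe] at hy
    change orderOf y = 3 at hy
    obtain ⟨c, hc⟩ := cube_root_scalar hK hyT.1 ⟨1, by
      have hy3 := pow_orderOf_eq_one y
      rw [hy] at hy3
      rw [hy3, Units.val_one, one_smul]⟩
    have hyS : y ∈ Stab H u := mem_Stab.mpr ⟨hN (tu_le_nu hK hyT), c, by
      rw [hc, Matrix.smul_mulVec, Matrix.one_mulVec]⟩
    have h3 := orderOf_dvd_natCard (G := Stab H u) ⟨y, hyS⟩
    rw [← Subgroup.orderOf_coe] at h3
    change orderOf y ∣ _ at h3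
    rw [hy] at h3
    omega
  · haveI : Fact (Nat.Prime 19) := ⟨by norm_num⟩
    haveI : Fact (Nat.Prime 7) := ⟨by norm_num⟩
    obtain ⟨x, hx, hxo, hfix⟩ := hfind 19 (by norm_num) (by norm_num) (by rw [hT]; norm_num)
    obtain ⟨e, u, v, o, P, hee, hcard, -, h19, hle, hd⟩ := over_shape hσ hH (p := 2) (by norm_num) hx hxo hfix
      (a := 4) (by rw [h1, show 172368 = 2 ^ 4 * 10773 by norm_num, fact_two (by norm_num)])
    have hod : o ∣ 172368 := h1 ▸ Dvd.intro _ hcard
    obtain ⟨t, ht⟩ := hd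
    norm_num at ht hle
    obtain ⟨t', ht'⟩ := h19
    have ho : o = 513 := by
      rcases (show o = 513 ∨ o = 209 by omega) with e' | e'
      · exact e'
      · subst e'; norm_num at hod
    subst ho
    have := stab_fpf hσ hH (p := 2) (r := 7) (by norm_num) (by norm_num) (by norm_num) P hee (a := 4) (k := 21)
      (show Nat.card (Stab H u) = 336 by rw [h1] at hcard; omega) (by norm_num) (by norm_num)
    norm_num [Nat.ModEq] at this

/-- Singer normalisers are maximal. -/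
theorem singer_isMaximal (hσ : IsUSigma q σ) (h4 : 4 ≤ q) (h5 : q ≠ 5) (hK : IsFieldSubalgebra 3 K)
    (hac : IsAdjointClosedFor (hermForm 3 F q) K) :
    IsMaximalIn (suGL 3 F q) (subalgebraNormalizer K ⊓ suGL 3 F q) := by
  classical
  obtain ⟨hT, hNcard⟩ := singer_orders hσ hK hac
  refine ⟨lt_of_le_of_ne inf_le_right fun e =>
    hσ.not_su_le_field_three (le_refl 3) (by omega) (by norm_num) hK (inf_eq_right.mp e),
    fun H hN hH => or_iff_not_imp_left.mpr fun hne => le_antisymm hH ?_⟩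
  rw [← nu_eq (q := q)] at hN hne
  have hpp : ∀ a b : ℕ, a.Prime → b.Prime → a ∣ q → b ∣ q → a = b := by
    intro a b ha hb hda hdb
    obtain ⟨p, hp⟩ := CharP.exists F
    obtain ⟨n, hpp, hn⟩ := FiniteField.card F p
    rw [hσ.card] at hn
    have := fun (c : ℕ) (hc : c.Prime) (hd : c ∣ q) =>
      (Nat.prime_dvd_prime_iff_eq hc hpp).mp (hc.dvd_of_dvd_pow (n := (n : ℕ)) (hn ▸ dvd_pow hd two_ne_zero))
    rw [this a ha hda, this b hb hdb]
  have h6 : q ≠ 6 := fun e => absurd (hpp 2 3 Nat.prime_two Nat.prime_three (by omega) (by omega)) (by norm_num)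
  have h14 : q ≠ 14 := fun e => absurd (hpp 2 7 Nat.prime_two (by norm_num) (by omega) (by omega)) (by norm_num)
  have h35 : q ≠ 35 := fun e => absurd (hpp 5 7 (by norm_num) (by norm_num) (by omega) (by omega)) (by norm_num)
  obtain ⟨Q, hQ⟩ : ∃ Q, Q = q * q - q + 1 := ⟨_, rfl⟩
  rw [← hQ] at hT
  obtain ⟨m, hm⟩ : ∃ m, q = m + 1 := ⟨q - 1, by omega⟩
  have hQm : Q = m * m + m + 1 := by
    rw [hQ, hm, show (m + 1) * (m + 1) = m * m + m + (m + 1) by ring]; omega
  have hQz : (Q : ℤ) = (q : ℤ) ^ 2 - q + 1 := by rw [hQm, hm]; push_cast; ring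
  obtain ⟨j, hj⟩ : ∃ j, j = Nat.card (H ⧸ (Nu K q).subgroupOf H) := ⟨_, rfl⟩
  have hHcard : Nat.card H = j * (3 * Q) := by
    rw [hj, ← hT, ← hNcard, Subgroup.card_eq_card_quotient_mul_card_subgroup ((Nu K q).subgroupOf H),
      Nat.card_congr (Subgroup.subgroupOfEquivOfLe hN).toEquiv]
  obtain ⟨e, he⟩ : Nat.card H ∣ Nat.card (suGL 3 F q) := Subgroup.card_dvd_of_le hH
  rw [su_card hσ (by omega), hHcard] at he
  have hM : (3 : ℤ) * j * e = (q : ℤ) ^ 3 * ((q : ℤ) + 1) ^ 2 * ((q : ℤ) - 1) := by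
    have := congrArg (fun z : ℕ => (z : ℤ)) he
    push_cast [Nat.cast_sub (show 1 ≤ q ^ 2 from Nat.one_le_pow _ _ (by omega))] at this
    refine mul_left_cancel₀ (show (Q : ℤ) ≠ 0 by rw [hQm]; positivity) ?_
    linear_combination -this - (q : ℤ) ^ 3 * ((q : ℤ) + 1) ^ 2 * ((q : ℤ) - 1) * hQz
  obtain ⟨Q', hQ', hQQ⟩ : ∃ Q', Q' * Nat.gcd 3 (q + 1) = Nat.card (Tu hK q) ∧
      ((q % 3 ≠ 2 ∧ (Q' : ℤ) = (q : ℤ) ^ 2 - q + 1) ∨ (q % 3 = 2 ∧ 3 * (Q' : ℤ) = (q : ℤ) ^ 2 - q + 1)) := by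
    by_cases h1 : q % 3 = 2
    · have hg : Nat.gcd 3 (q + 1) = 3 := Nat.gcd_eq_left (by omega)
      obtain ⟨c, hc⟩ : 3 ∣ Q := by
        rw [hQm, Nat.dvd_iff_mod_eq_zero, Nat.add_mod, Nat.add_mod (m * m), Nat.mul_mod, show m % 3 = 1 by omega]
      exact ⟨c, by rw [hg, hT, hc, mul_comm], Or.inr ⟨h1, by rw [← hQz, hc]; push_cast; ring⟩⟩
    · have hg : Nat.gcd 3 (q + 1) = 1 := Nat.prime_three.coprime_iff_not_dvd.mpr (show ¬ 3 ∣ q + 1 by omega)
      exact ⟨Q, by rw [hg, hT, mul_one], Or.inl ⟨h1, hQz⟩⟩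
  have hmod : j ≡ 1 [MOD Q'] := hj ▸ index_mod hσ hK hH hN hQ'
  rcases singer_arith h4 h5 h6 h14 h35 hQQ hM hmod with h | h | h | h
  · exfalso
    refine hne (le_antisymm ?_ hN)
    intro x hx
    rw [hj] at h
    haveI := (Nat.card_eq_one_iff_unique.mp h).1
    have := QuotientGroup.eq.mp (Subsingleton.elim ((1 : H) : H ⧸ (Nu K q).subgroupOf H) ((⟨x, hx⟩ : H) : _))
    rw [Subgroup.mem_subgroupOf] at this
    have h' : x ∈ Nu K q := by simpa using this
    exact h'
  · intro x hx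
    have hcard : Nat.card H = Nat.card (suGL 3 F q) := by rw [su_card hσ (by omega), hHcard, he, h, mul_one]
    exact (Subgroup.eq_of_le_of_card_ge hH hcard.ge).ge hx
  · exfalso
    obtain ⟨rfl, rfl⟩ := h
    exact no_exc hσ hK hac hH hN (Or.inl ⟨rfl, by rw [hHcard, hQ]⟩)
  · exfalso
    obtain ⟨rfl, hj'⟩ := h
    refine no_exc hσ hK hac hH hN (Or.inr ⟨rfl, ?_⟩)
    rcases hj' with rfl | rfl
    · exact Or.inl (by rw [hHcard, hQ])
    · exact Or.inr (by rw [hHcard, hQ])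

end Cfsg.Agent.Classical.UThree
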