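/-
Rational lines in the unitary space of dimension three.
-/
import Cfsg.Agent.Lib.Classical.UThree.SubSetup

set_option autoImplicit false
set_option linter.unusedSectionVars false
set_option maxHeartbeats 400000

namespace Cfsg.Agent.Classical.UThree

open Matrix Cfsg.Geo
open Cfsg.Agent.Classical
open Cfsg.Agent.Classical.UOver (Tv tv_unique tv_conj tv_smul tv_mem)

variable {F : Type*} [Field F] [Fintype F] {q : ℕ} {σ : F ≃+* F} {F₀ : Subfield F} {r : ℕ} {P : GL (Fin 3) F}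
  {M : Subgroup (GL (Fin 3) F)}

variable (D : SData q σ F₀ r P M)

include D

/-- Coordinates in a frame. -/
theorem frame_dec {u e v : Fin 3 → F} (R : RFr q F₀ P u e v) (x : Fin 3 → F) :
    x = hermForm 3 F q x v • u + (hermForm 3 F q x e / hermForm 3 F q e e) • e + hermForm 3 F q x u • v := by
  have hσ := D.sig
  have hs := sf hσ
  have Pp := R.pair
  have h0 := Pp.span _ (decomp hσ R.ee x)
  simp only [hs.add_left, hs.smul_left, orth_swp hσ Pp.ue, orth_swp hσ Pp.ve, mul_zero, add_zero] at h0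
  linear_combination (norm := module) h0

/-- A trace preimage in the subfield. -/
theorem exists_rat_trace {b : F} (hb : b ∈ F₀) (hbσ : σ b = b) : ∃ s ∈ F₀, s + σ s = b := by
  obtain ⟨θ, hθ, hne⟩ := D.nt
  by_cases h2 : θ + σ θ = 0
  · have hne2 : (2 : F) ≠ 0 := fun h2' => hne (by linear_combination h2 - θ * h2')
    refine ⟨b / 2, div_mem hb (by exact_mod_cast natCast_mem F₀ 2), ?_⟩
    rw [map_div₀, hbσ, map_ofNat]
    field_simp; ring
  · refine ⟨b * θ / (θ + σ θ), div_mem (mul_mem hb hθ) (add_mem hθ (D.stab _ hθ)), ?_⟩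
    rw [map_div₀, map_mul, hbσ, map_add, D.sig.involutive, add_comm (σ θ) θ, ← add_div]
    field_simp

theorem exists_irrational_skew : ∃ c : F, c + σ c = 0 ∧ c ∉ F₀ := by
  classical
  obtain ⟨d, hd, hd0, hdd⟩ := exists_skew_unit D
  by_contra hcon
  push Not at hcon
  have htop : (F₀.comap (fixedField σ).subtype) = ⊤ := top_unique fun x _ => by
    show (x : F) ∈ F₀
    have h := hcon (d * (x : F)) (by rw [map_mul, mem_fixedField.mp x.2, ← add_mul, hdd, zero_mul])
    have h' := mul_mem (inv_mem hd) h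
    rwa [inv_mul_cancel_left₀ hd0] at h'
  have h := (k0_facts D).1
  rw [htop, show Nat.card (⊤ : Subfield (fixedField σ)) = Nat.card (fixedField σ) from
    Nat.card_congr (Equiv.subtypeUnivEquiv fun x => Subfield.mem_top x)] at h
  have h2 : 2 ≤ Nat.card (fixedField σ) := Finite.one_lt_card
  have := Nat.pow_lt_pow_right (show 1 < Nat.card (fixedField σ) by omega) D.hr.one_lt
  rw [pow_one, ← h] at this
  exact lt_irrefl _ this

/-- The cross term of a point with rational norms. -/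
theorem cross_mem {α β γ ν : F} (hν : ν ∈ F₀) (hνσ : σ ν = ν) (hα : α * σ α ∈ F₀)
    (h : ∀ b ∈ F₀, ∀ s ∈ F₀, s + σ s = -ν * (b * σ b) →
      (σ s * α + σ b * β + γ) * σ (σ s * α + σ b * β + γ) ∈ F₀) :
    σ α * β ∈ F₀ ∧ σ α * γ - α * σ γ ∈ F₀ := by
  have hσ := D.sig
  obtain ⟨d, hd, hd0, hdd⟩ := exists_skew_unit D
  have hσd : σ d = -d := eq_neg_of_add_eq_zero_right hdd
  obtain ⟨θ, hθ, hne⟩ := D.nt
  have key : ∀ b ∈ F₀, (σ α * γ - α * σ γ) + (σ b * (σ α * β) - b * (α * σ β)) ∈ F₀ := fun b hb => by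
    obtain ⟨s, hs, hss⟩ := exists_rat_trace D (b := -ν * (b * σ b))
      (mul_mem (neg_mem hν) (mul_mem hb (D.stab _ hb))) (by rw [map_mul, map_neg, map_mul, hνσ, hσ.involutive]; ring)
    have h1 := h b hb s hs hss
    have h2 := h b hb (s + d) (add_mem hs hd) (by rw [map_add]; linear_combination hss + hdd)
    have h3 : d * ((σ α * γ - α * σ γ) + (σ b * (σ α * β) - b * (α * σ β)) + (σ s - s) * (α * σ α)) ∈ F₀ := by
      have := add_mem (sub_mem h2 h1) (mul_mem (mul_mem hd hd) hα)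
      convert this using 1
      simp only [map_add, map_mul, hσ.involutive, hσd, map_neg]
      ring
    have h4 := mul_mem (inv_mem hd) h3
    rw [inv_mul_cancel_left₀ hd0] at h4
    have := sub_mem h4 (mul_mem (sub_mem (D.stab _ hs) hs) hα)
    rwa [add_sub_cancel_right] at this
  have k0 := key 0 (zero_mem _)
  rw [map_zero, zero_mul, zero_mul, sub_zero, add_zero] at k0
  refine ⟨?_, k0⟩
  have k1 : σ 1 * (σ α * β) - 1 * (α * σ β) ∈ F₀ := by
    have := sub_mem (key 1 (one_mem _)) k0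
    rwa [add_sub_cancel_left] at this
  rw [map_one, one_mul, one_mul] at k1
  have kθ : σ θ * (σ α * β) - θ * (α * σ β) ∈ F₀ := by
    have := sub_mem (key θ hθ) k0
    rwa [add_sub_cancel_left] at this
  have h5 : (σ θ - θ) * (σ α * β) ∈ F₀ := by
    have := sub_mem kθ (mul_mem hθ k1)
    convert this using 1; ring
  have h6 := mul_mem (inv_mem (sub_mem (D.stab _ hθ) hθ)) h5
  rwa [inv_mul_cancel_left₀ (sub_ne_zero.mpr hne)] at h6

/-- An isotropic point whose products with rational isotropic points have rational norms is rational. -/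
theorem rational_of_norms {z : Fin 3 → F} (hz0 : z ≠ 0) (hzz : hermForm 3 F q z z = 0)
    (hN : ∀ w, Rv F₀ P w → hermForm 3 F q w w = 0 → hermForm 3 F q z w * σ (hermForm 3 F q z w) ∈ F₀) :
    ∃ l : F, l ≠ 0 ∧ Rv F₀ P (l • z) := by
  have hσ := D.sig
  have hs := sf hσ
  obtain ⟨⟨u, hu0, hu, huu⟩, hfr⟩ := exists_frame D
  obtain ⟨e, v, R⟩ := hfr u hu0 hu huu
  have hdec := frame_dec D R z
  obtain ⟨ru, re, rv, Pp, hee⟩ := R
  obtain ⟨ν, hν⟩ : ∃ ν, ν = hermForm 3 F q e e := ⟨_, rfl⟩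
  obtain ⟨α, hα⟩ : ∃ α, α = hermForm 3 F q z u := ⟨_, rfl⟩
  obtain ⟨β, hβ⟩ : ∃ β, β = hermForm 3 F q z e := ⟨_, rfl⟩
  obtain ⟨γ, hγ⟩ : ∃ γ, γ = hermForm 3 F q z v := ⟨_, rfl⟩
  rw [← hν] at hee
  rw [← hν, ← hα, ← hβ, ← hγ] at hdec
  have hνσ : σ ν = ν := by rw [hν, ← swp hσ]
  have hνF : ν ∈ F₀ := hν ▸ D.form _ _ re re
  have hNα : α * σ α ∈ F₀ := hα ▸ hN u ru huu
  have hNγ : γ * σ γ ∈ F₀ := hγ ▸ hN v rv Pp.vv
  have t1 : ∀ b ∈ F₀, ∀ s ∈ F₀, s + σ s = -ν * (b * σ b) →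
      (σ s * α + σ b * β + γ) * σ (σ s * α + σ b * β + γ) ∈ F₀ := fun b hb s hsF hss => by
    have h := hN (s • u + b • e + v) (((ru.smul hsF).add (re.smul hb)).add rv) (by
      simp only [hs.add_left, hs.add_right, hs.smul_left, hs.smul_right, huu, Pp.vv, Pp.uv, Pp.vu, Pp.ue, Pp.ve,
        orth_swp hσ Pp.ue, orth_swp hσ Pp.ve, ← hν]
      linear_combination hss)
    rwa [hs.add_right, hs.add_right, hs.smul_right, hs.smul_right, ← hα, ← hβ, ← hγ] at h
  have t2 : ∀ b ∈ F₀, ∀ s ∈ F₀, s + σ s = -ν * (b * σ b) →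
      (σ s * γ + σ b * β + α) * σ (σ s * γ + σ b * β + α) ∈ F₀ := fun b hb s hsF hss => by
    have h := hN (s • v + b • e + u) (((rv.smul hsF).add (re.smul hb)).add ru) (by
      simp only [hs.add_left, hs.add_right, hs.smul_left, hs.smul_right, huu, Pp.vv, Pp.uv, Pp.vu, Pp.ue, Pp.ve,
        orth_swp hσ Pp.ue, orth_swp hσ Pp.ve, ← hν]
      linear_combination hss)
    rwa [hs.add_right, hs.add_right, hs.smul_right, hs.smul_right, ← hα, ← hβ, ← hγ] at h
  obtain ⟨hab, hag⟩ := cross_mem D hνF hνσ hNα t1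
  obtain ⟨hgb, -⟩ := cross_mem D hνF hνσ hNγ t2
  have hiso : γ * σ α + β * σ β / ν + α * σ γ = 0 := by
    rw [← hzz]
    conv_rhs => rw [hdec]
    simp only [hs.add_left, hs.add_right, hs.smul_left, hs.smul_right, huu, Pp.vv, Pp.uv, Pp.vu, Pp.ue, Pp.ve,
      orth_swp hσ Pp.ue, orth_swp hσ Pp.ve, ← hν, map_div₀, hνσ]
    field_simp; ring
  suffices h : ∃ l : F, l ≠ 0 ∧ l * α ∈ F₀ ∧ l * β ∈ F₀ ∧ l * γ ∈ F₀ by
    obtain ⟨l, hl, ha, hb, hc⟩ := h
    refine ⟨l, hl, ?_⟩
    rw [hdec, smul_add, smul_add, smul_smul, smul_smul, smul_smul]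
    exact ((ru.smul hc).add (re.smul (by rw [← mul_div_assoc]; exact div_mem hb hνF))).add (rv.smul ha)
  by_cases hα0 : α = 0
  · have hβ0 : β = 0 := by
      have : β * σ β = 0 := by simpa [hα0, hee] using hiso
      rcases mul_eq_zero.mp this with h | h
      · exact h
      · exact (map_eq_zero σ).mp h
    have hγ0 : γ ≠ 0 := fun h => hz0 (by rw [hdec, hα0, hβ0, h]; simp)
    exact ⟨γ⁻¹, inv_ne_zero hγ0, by simp [hα0], by simp [hβ0], by rw [inv_mul_cancel₀ hγ0]; exact one_mem _⟩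
  have hσα : σ α ≠ 0 := fun h => hα0 ((map_eq_zero σ).mp h)
  refine ⟨σ α, hσα, by rw [mul_comm]; exact hNα, hab, ?_⟩
  by_cases hβ0 : β = 0
  · have hJ : σ (σ α * γ) = -(σ α * γ) := by
      rw [map_mul, hσ.involutive]
      rw [hβ0] at hiso
      simp only [zero_mul, zero_div, add_zero] at hiso
      linear_combination hiso
    obtain ⟨s, hsF, hss⟩ := exists_rat_trace D (b := -ν * (1 * σ 1))
      (by rw [map_one, one_mul, mul_one]; exact neg_mem hνF) (by simp [hνσ])
    have h2J : (2 : F) * (σ α * γ) ∈ F₀ := by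
      convert hag using 1
      rw [map_mul, hσ.involutive] at hJ
      linear_combination hJ
    have h1 := t1 1 (one_mem _) s hsF hss
    have e1 : (σ s * α + σ 1 * β + γ) * σ (σ s * α + σ 1 * β + γ) =
        s * σ s * (α * σ α) + γ * σ γ + (s - σ s) * (σ α * γ) := by
      rw [map_mul, hσ.involutive] at hJ
      simp only [hβ0, map_one, map_add, map_mul, hσ.involutive, map_zero]
      linear_combination σ s * hJ
    rw [e1] at h1
    have h3 : (s - σ s) * (σ α * γ) ∈ F₀ := by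
      have := sub_mem h1 (add_mem (mul_mem (mul_mem hsF (D.stab _ hsF)) hNα) hNγ)
      rwa [add_sub_cancel_left] at this
    have h4 : ν * (σ α * γ) ∈ F₀ := by
      have := sub_mem h3 (mul_mem hsF h2J)
      convert this using 1
      rw [map_one] at hss
      linear_combination (σ α * γ) * hss
    have := mul_mem (inv_mem hνF) h4
    rwa [inv_mul_cancel_left₀ hee] at this
  · have hNβ : β * σ β ∈ F₀ := by
      have h := div_mem (mul_mem hab (D.stab _ hab)) hNα
      convert h using 1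
      rw [map_mul, hσ.involutive]
      field_simp
    have h := div_mem (mul_mem hab (D.stab _ hgb)) hNβ
    convert h using 1
    rw [map_mul, hσ.involutive]
    have : σ β ≠ 0 := fun h => hβ0 ((map_eq_zero σ).mp h)
    field_simp

/-- Images of rational isotropic points are rational, over at least three fixed scalars. -/
theorem image_rational (hbig : 3 ≤ Nat.card (F₀.comap (fixedField σ).subtype)) (hfull : ¬ suGL 3 F q ≤ M)
    {g : GL (Fin 3) F} (hg : g ∈ M) {w : Fin 3 → F} (hw0 : w ≠ 0) (hw : Rv F₀ P w)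
    (hww : hermForm 3 F q w w = 0) :
    ∃ l : F, l ≠ 0 ∧ Rv F₀ P (l • ((g : Matrix (Fin 3) (Fin 3) F) *ᵥ w)) := by
  classical
  have hσ := D.sig
  have hs := sf hσ
  obtain ⟨z, hz⟩ : ∃ z, z = (g : Matrix (Fin 3) (Fin 3) F) *ᵥ w := ⟨_, rfl⟩
  rw [← hz]
  have hzz : hermForm 3 F q z z = 0 := by rw [hz]; exact (mem_GU_iff.mp (D.le hg).1 w w).trans hww
  obtain ⟨d, hd, hd0, hdd⟩ := exists_skew_unit D
  refine rational_of_norms D (fun h => hw0 (gl_mulVec_injective g ((hz.symm.trans h).trans (Matrix.mulVec_zero _).symm))) hzz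
    fun w' hw' hw'' => ?_
  obtain ⟨ω, hω⟩ : ∃ ω, ω = hermForm 3 F q z w' := ⟨_, rfl⟩
  rw [← hω]
  by_cases hω0 : ω = 0
  · simp [hω0]
  have hσω : σ ω ≠ 0 := fun h => hω0 ((map_eq_zero σ).mp h)
  have hbz : ∀ x ∈ F₀, σ x = x → ∀ t, Tv q t z (d * x) → t ∈ M := fun x hx hxσ t ht => by
    have hsk : d * x + σ (d * x) = 0 := by rw [map_mul, hxσ, ← add_mul, hdd, zero_mul]
    obtain ⟨t₀, -, ht₀⟩ := hσ.exists_transvection hww hsk
    have hc := tv_conj (D.le hg).1 (show Tv q t₀ w (d * x) from ht₀)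
    rw [← hz] at hc
    rw [tv_unique ht hc]
    exact mul_mem (mul_mem hg (tv_base D hw hww (mul_mem hd hx) hsk ht₀)) (inv_mem hg)
  rcases chord_cases D (u := z) (v := (σ ω)⁻¹ • w') hzz (by rw [hs.smul_left, hs.smul_right, hw'', mul_zero, mul_zero])
    (by rw [hs.smul_right, ← hω, map_inv₀, hσ.involutive, inv_mul_cancel₀ hω0]) hd hd0 hdd (ν := ω * σ ω)
    (by rw [map_mul, hσ.involutive, mul_comm]) (mul_ne_zero hω0 hσω) hbz
    (fun x hx hxσ t ht => by
      have ht' := tv_smul hσ _ ht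
      have e : d * x * (ω * σ ω) * (σ ω)⁻¹ * σ ((σ ω)⁻¹) = d * x := by
        rw [map_inv₀, hσ.involutive]; field_simp
      rw [e] at ht'
      exact tv_base D hw' hw'' (mul_mem hd hx) (by rw [map_mul, hxσ, ← add_mul, hdd, zero_mul]) ht')
    hdd (fun t ht => hbz 1 (one_mem _) (map_one σ) t (by rw [mul_one]; exact ht)) (Or.inl hbig) with h | h
  · exact h.2
  · refine absurd ?_ hfull
    obtain ⟨c, hc, hcF⟩ := exists_irrational_skew D
    refine full_of_irrational D hw0 hw hww hc hcF fun t ht => ?_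
    have hct := tv_conj (D.le hg).1 ht
    rw [← hz] at hct
    have := mul_mem (mul_mem (inv_mem hg) (h c hc _ hct)) hg
    simpa [mul_assoc] using this

/-- An element carrying rational isotropic lines to rational lines is in the subfield group. -/
theorem mem_of_lines {g : GL (Fin 3) F} (hg : g ∈ GU 3 F q)
    (h : ∀ w, w ≠ 0 → Rv F₀ P w → hermForm 3 F q w w = 0 →
      ∃ l : F, l ≠ 0 ∧ Rv F₀ P (l • ((g : Matrix (Fin 3) (Fin 3) F) *ᵥ w))) :
    g ∈ subfieldSubgroup F₀ P := by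
  have hσ := D.sig
  have hs := sf hσ
  obtain ⟨⟨u, hu0, hu, huu⟩, hfr⟩ := exists_frame D
  obtain ⟨e, v, R⟩ := hfr u hu0 hu huu
  have hdec := frame_dec D R
  obtain ⟨ru, re, rv, Pp, hee⟩ := R
  have hνF : hermForm 3 F q e e ∈ F₀ := D.form _ _ re re
  obtain ⟨a, ha, haa⟩ := exists_rat_trace D (neg_mem hνF) (by rw [map_neg, ← swp hσ])
  have ha0 : a ≠ 0 := fun h0 => hee (by rw [h0, map_zero, add_zero] at haa; exact neg_eq_zero.mp haa.symm)
  obtain ⟨w, hw⟩ : ∃ w, w = a • u + e + v := ⟨_, rfl⟩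
  have hwr : Rv F₀ P w := hw ▸ ((ru.smul ha).add re).add rv
  have hww : hermForm 3 F q w w = 0 := by
    simp only [hw, hs.add_left, hs.add_right, hs.smul_left, hs.smul_right, huu, Pp.vv, Pp.uv, Pp.vu, Pp.ue, Pp.ve,
      orth_swp hσ Pp.ue, orth_swp hσ Pp.ve]
    linear_combination haa
  have huw : hermForm 3 F q u w = 1 := by
    simp only [hw, hs.add_right, hs.smul_right, huu, Pp.uv, Pp.ue]; ring
  have hvw : hermForm 3 F q v w = σ a := by
    simp only [hw, hs.add_right, hs.smul_right, Pp.vv, Pp.vu, Pp.ve]; ring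
  have hne : ∀ x y, hermForm 3 F q x y ≠ 0 → x ≠ 0 := fun x y hxy e => hxy (by
    rw [e, ← zero_smul F x, hs.smul_left, zero_mul])
  obtain ⟨lu, hlu, hru⟩ := h u hu0 ru huu
  obtain ⟨lv, hlv, hrv⟩ := h v (hne v u (by rw [Pp.vu]; exact one_ne_zero)) rv Pp.vv
  obtain ⟨lw, hlw, hrw⟩ := h w (hne w u (by rw [swp hσ u w, huw, map_one]; exact one_ne_zero)) hwr hww
  have hpair : ∀ (x y : Fin 3 → F) (lx ly : F), Rv F₀ P (lx • ((g : Matrix (Fin 3) (Fin 3) F) *ᵥ x)) →
      Rv F₀ P (ly • ((g : Matrix (Fin 3) (Fin 3) F) *ᵥ y)) → lx * σ ly * hermForm 3 F q x y ∈ F₀ :=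
    fun x y lx ly hx hy => by
      have := D.form _ _ hx hy
      rwa [hs.smul_left, hs.smul_right, mem_GU_iff.mp hg, ← mul_assoc] at this
  have h1 : lu * σ lv ∈ F₀ := by simpa [Pp.uv] using hpair u v lu lv hru hrv
  have h2 : lu * σ lw ∈ F₀ := by simpa [huw] using hpair u w lu lw hru hrw
  have h3 : lv * σ lw ∈ F₀ := by
    have := mul_mem (inv_mem (D.stab _ ha)) (hpair v w lv lw hrv hrw)
    rw [hvw] at this
    convert this using 1
    have : σ a ≠ 0 := fun e => ha0 ((map_eq_zero σ).mp e)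
    field_simp
  have hσlv : σ lv ≠ 0 := fun e => hlv ((map_eq_zero σ).mp e)
  have hσlu : σ lu ≠ 0 := fun e => hlu ((map_eq_zero σ).mp e)
  have hu' : Rv F₀ P (lw • ((g : Matrix (Fin 3) (Fin 3) F) *ᵥ u)) := by
    have hq : lw / lu ∈ F₀ := by
      have := div_mem (D.stab _ h3) h1
      convert this using 1
      rw [map_mul, hσ.involutive]; field_simp
    have := hru.smul hq
    rwa [smul_smul, div_mul_cancel₀ _ hlu] at this
  have hv' : Rv F₀ P (lw • ((g : Matrix (Fin 3) (Fin 3) F) *ᵥ v)) := by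
    have hq : lw / lv ∈ F₀ := by
      have := div_mem (D.stab _ h2) (D.stab _ h1)
      convert this using 1
      rw [map_mul, map_mul, hσ.involutive, hσ.involutive]; field_simp
    have := hrv.smul hq
    rwa [smul_smul, div_mul_cancel₀ _ hlv] at this
  have he' : Rv F₀ P (lw • ((g : Matrix (Fin 3) (Fin 3) F) *ᵥ e)) := by
    have ee : e = w + (-a) • u + (-1 : F) • v := by rw [hw]; module
    rw [ee, Matrix.mulVec_add, Matrix.mulVec_add, Matrix.mulVec_smul, Matrix.mulVec_smul, smul_add, smul_add,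
      smul_comm lw (-a), smul_comm lw (-1 : F)]
    exact (hrw.add (hu'.smul (neg_mem ha))).add (hv'.smul (neg_mem (one_mem _)))
  refine mem_subfieldSubgroup_of_scaled hlw fun i j => ?_
  have hx : Rv F₀ P (lw • ((g : Matrix (Fin 3) (Fin 3) F) *ᵥ ((P : Matrix (Fin 3) (Fin 3) F) *ᵥ Pi.single j 1))) := by
    obtain ⟨x, hxe⟩ : ∃ x, x = (P : Matrix (Fin 3) (Fin 3) F) *ᵥ Pi.single j 1 := ⟨_, rfl⟩
    have hxr : Rv F₀ P x := hxe ▸ rv_col j
    rw [← hxe, hdec x, Matrix.mulVec_add, Matrix.mulVec_add, Matrix.mulVec_smul, Matrix.mulVec_smul,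
      Matrix.mulVec_smul, smul_add, smul_add, smul_comm lw, smul_comm lw (_ / _), smul_comm lw]
    exact ((hu'.smul (D.form _ _ hxr rv)).add (he'.smul (div_mem (D.form _ _ hxr re) hνF))).add
      (hv'.smul (D.form _ _ hxr ru))
  have := hx i
  rw [Matrix.mulVec_smul, ← gl_mul_mulVec, ← gl_mul_mulVec, Matrix.mulVec_single_one] at this
  simpa [mul_assoc] using this

end Cfsg.Agent.Classical.UThree
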