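/-
A rational structure over the field of four elements in the unitary space of dimension three.
-/
import Cfsg.Agent.Lib.Classical.UThree.SubLine
import Cfsg.Agent.Lib.Char.ZStar
import Cfsg.Agent.Lib.Solv.Cores

set_option autoImplicit false
set_option linter.unusedSectionVars false
set_option maxHeartbeats 400000

namespace Cfsg.Agent.Classical.UThree

open Matrix Cfsg.Geo
open Cfsg.Agent.Classical
open Cfsg.Agent.Classical.UOver (Tv tv_unique tv_conj tv_smul tv_mem)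

variable {F : Type*} [Field F] [Fintype F] {q : ℕ} {σ : F ≃+* F} {F₀ : Subfield F} {r : ℕ} {P : GL (Fin 3) F}
  {M : Subgroup (GL (Fin 3) F)}

/-- The odd core, among the matrices. -/
def core (M : Subgroup (GL (Fin 3) F)) : Subgroup (GL (Fin 3) F) := (Cfsg.oddCore M).map M.subtype

theorem core_le : core M ≤ M := by
  rintro x ⟨y, -, rfl⟩
  exact y.2

theorem core_conj {g x : GL (Fin 3) F} (hg : g ∈ M) (hx : x ∈ core M) : g * x * g⁻¹ ∈ core M := by
  obtain ⟨y, hy, rfl⟩ := hx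
  have hn : (Cfsg.oddCore M).Normal := Cfsg.Agent.Solv.pPrimeCore_normal 2
  refine ⟨(⟨g, hg⟩ : M) * y * (⟨g, hg⟩ : M)⁻¹, hn.conj_mem y hy ⟨g, hg⟩, ?_⟩
  rw [map_mul, map_mul, map_inv]
  simp only [Subgroup.subtype_apply]

theorem core_odd {x : GL (Fin 3) F} (hx : x ∈ core M) : Odd (orderOf x) := by
  obtain ⟨y, hy, rfl⟩ := hx
  rw [orderOf_injective _ Subtype.val_injective]
  refine Odd.of_dvd_nat (Cfsg.Agent.Char.card_oddCore_odd M) ?_
  have h := orderOf_dvd_natCard (G := (Cfsg.oddCore M)) ⟨y, hy⟩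
  rw [← Subgroup.orderOf_coe] at h
  exact h

variable (D : SData q σ F₀ r P M)

include D

theorem scalar_comm {s : GL (Fin 3) F} (hs : s ∈ scalars (Fin 3) F) (g : GL (Fin 3) F) : s * g = g * s := by
  obtain ⟨c, hc⟩ := (mem_scalars_iff _).mp hs
  refine gl_ext_mulVec fun z => ?_
  rw [gl_mul_mulVec, gl_mul_mulVec, hc, Matrix.smul_mulVec, Matrix.smul_mulVec, Matrix.one_mulVec,
    Matrix.one_mulVec, Matrix.mulVec_smul]

theorem four_facts (h4 : Nat.card (F₀.comap (fixedField σ).subtype) = 2) :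
    (2 : F) = 0 ∧ (∀ x : F, x ∈ F₀ ↔ x ^ 4 = x) ∧ ∀ c ∈ F₀, σ c = c → c ≠ 0 → c = 1 := by
  classical
  have hc : Nat.card F₀ = 4 := by rw [(k0_facts D).2, h4]; rfl
  have hiff : ∀ x : F, x ∈ F₀ ↔ x ^ 4 = x := fun x => by rw [mem_iff_pow F₀ x, hc]
  refine ⟨?_, hiff, fun c hc1 hc2 hc0 => ?_⟩
  · haveI : Fintype F₀ := Fintype.ofFinite F₀
    have h0 : ((Fintype.card F₀ : ℕ) : F₀) = 0 := FiniteField.cast_card_eq_zero F₀
    rw [← Nat.card_eq_fintype_card, hc] at h0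
    have h1 : (2 : F) * 2 = 0 := by
      have := congrArg F₀.subtype h0
      rw [map_natCast, map_zero] at this
      norm_num at this ⊢
      exact this
    exact mul_self_eq_zero.mp h1
  · haveI : Fintype (F₀.comap (fixedField σ).subtype) := Fintype.ofFinite _
    have h2 := FiniteField.pow_card (⟨⟨c, mem_fixedField.mpr hc2⟩, hc1⟩ : F₀.comap (fixedField σ).subtype)
    rw [← Nat.card_eq_fintype_card, h4] at h2
    have h3 : c ^ 2 = c := congrArg (fun z => ((Subtype.val (Subtype.val z)) : F)) h2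
    exact mul_left_cancel₀ hc0 (by linear_combination h3)

/-- Transvections with the same nonzero parameter have the same centre. -/
theorem tv_line {t : GL (Fin 3) F} {a b : Fin 3 → F} {c : F} (ha0 : a ≠ 0) (hc0 : c ≠ 0)
    (h1 : Tv q t a c) (h2 : Tv q t b c) : ∃ s : F, s ≠ 0 ∧ a = s • b := by
  have hs := sf D.sig
  obtain ⟨w, hw⟩ := (D.sig.isUnitaryForm.nondegenerate a ha0).1
  have e := (h1 w).symm.trans (h2 w)
  have e' := add_left_cancel e
  have hx : c * hermForm 3 F q w a ≠ 0 := mul_ne_zero hc0 hw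
  refine ⟨(c * hermForm 3 F q w a)⁻¹ * (c * hermForm 3 F q w b), mul_ne_zero (inv_ne_zero hx) fun h0 => ?_, ?_⟩
  · rw [h0, zero_smul, smul_eq_zero] at e'
    exact e'.elim hx ha0
  · rw [← smul_smul, ← e', smul_smul, inv_mul_cancel₀ hx, one_smul]

variable (h4 : Nat.card (F₀.comap (fixedField σ).subtype) = 2) (hfull : ¬ suGL 3 F q ≤ M)

include h4 hfull

/-- The elation is isolated. -/
theorem elation_isolated {u : Fin 3 → F} (hu0 : u ≠ 0) (hu : Rv F₀ P u) (huu : hermForm 3 F q u u = 0)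
    {t : GL (Fin 3) F} (ht : Tv q t u 1) :
    ∃ htM : t ∈ M, t * t = 1 ∧ Cfsg.IsIsolatedInvolution (⟨t, htM⟩ : M) := by
  have hσ := D.sig
  have hs := sf hσ
  obtain ⟨h2, hiff, hone⟩ := four_facts D h4
  have hc1 : (1 : F) + σ 1 = 0 := by rw [map_one]; linear_combination h2
  have htM : t ∈ M := tv_base D hu huu (one_mem _) hc1 ht
  have htt : t * t = 1 := gl_ext_mulVec fun z => by
    rw [gl_mul_mulVec, ht z, ht, hs.add_left, hs.smul_left, huu, Units.val_one, Matrix.one_mulVec]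
    match_scalars
    · ring
    · linear_combination hermForm 3 F q z u * h2
  refine ⟨htM, htt, ?_, fun g hcom => ?_⟩
  · refine orderOf_eq_prime (by rw [pow_two]; exact Subtype.ext htt) fun e => ?_
    obtain ⟨w, hw⟩ := (hσ.isUnitaryForm.nondegenerate u hu0).1
    have := ht w
    rw [show t = 1 from congrArg Subtype.val e, Units.val_one, Matrix.one_mulVec, left_eq_add, smul_eq_zero,
      one_mul] at this
    exact this.elim hw hu0
  refine Subtype.ext ?_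
  obtain ⟨z, hz⟩ : ∃ z, z = ((g : GL (Fin 3) F) : Matrix (Fin 3) (Fin 3) F) *ᵥ u := ⟨_, rfl⟩
  have hgU := (D.le g.2).1
  have h' : Tv q ((g : GL (Fin 3) F) * t * (g : GL (Fin 3) F)⁻¹) z 1 := hz ▸ tv_conj hgU ht
  have hzz : hermForm 3 F q z z = 0 := by rw [hz]; exact (mem_GU_iff.mp hgU u u).trans huu
  show (g : GL (Fin 3) F) * t * (g : GL (Fin 3) F)⁻¹ = t
  obtain ⟨t', ht'⟩ : ∃ t', t' = (g : GL (Fin 3) F) * t * (g : GL (Fin 3) F)⁻¹ := ⟨_, rfl⟩
  rw [← ht'] at h' ⊢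
  have hcom' : t * t' = t' * t := ht' ▸ congrArg Subtype.val hcom
  have hzu : ∃ s : F, s ≠ 0 ∧ z = s • u := by
    have h2' := tv_conj (D.le (show t' ∈ M from ht' ▸ mul_mem (mul_mem g.2 htM) (inv_mem g.2))).1 ht
    rw [← hcom', mul_inv_cancel_right, h' u] at h2'
    obtain ⟨s, -, hs'⟩ := tv_line D hu0 one_ne_zero ht h2'
    have hz0 : z ≠ 0 := fun e => hu0 (gl_mulVec_injective (g : GL (Fin 3) F) (hz.symm.trans (e.trans (Matrix.mulVec_zero _).symm)))
    by_cases hω : hermForm 3 F q u z = 0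
    · obtain ⟨e, v, R⟩ := (exists_frame D).2 u hu0 hu huu
      have hdec := frame_dec D R z
      rw [orth_swp hσ hω, zero_smul, add_zero] at hdec
      have hb : hermForm 3 F q z e = 0 := by
        have h := hzz
        rw [hdec] at h
        simp only [hs.add_left, hs.add_right, hs.smul_left, hs.smul_right, huu, R.pair.ue, orth_swp hσ R.pair.ue,
          mul_zero, zero_add, add_zero] at h
        rw [map_div₀, ← swp hσ e e] at h
        field_simp [R.ee] at h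
        rw [mul_zero] at h
        exact (mul_eq_zero.mp h).elim id fun h => (map_eq_zero σ).mp h
      rw [hb, zero_div, zero_smul, add_zero] at hdec
      exact ⟨_, fun e0 => hz0 (by rw [hdec, e0, zero_smul]), hdec⟩
    · rw [one_mul] at hs'
      by_cases hs0 : s = 0
      · exact absurd (hs'.trans (by rw [hs0, zero_smul])) hu0
      have h1 : hermForm 3 F q u z • z = (s⁻¹ - 1) • u := by
        rw [sub_smul, one_smul]
        conv_rhs => arg 1; arg 2; rw [hs']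
        rw [smul_smul, inv_mul_cancel₀ hs0, one_smul, add_sub_cancel_left]
      refine ⟨(hermForm 3 F q u z)⁻¹ * (s⁻¹ - 1), fun e => ?_, ?_⟩
      · rw [← inv_smul_smul₀ hω z, h1, smul_smul, e, zero_smul] at hz0
        exact hz0 rfl
      · rw [← smul_smul, ← h1, inv_smul_smul₀ hω]
  obtain ⟨s, hs0, hzs⟩ := hzu
  have h3 : Tv q t' u (1 * s * σ s) := tv_smul hσ s (hzs ▸ h')
  have hN : (1 * s * σ s) + σ (1 * s * σ s) = 0 := by
    rw [map_mul, map_mul, map_one, hσ.involutive]; linear_combination (s * σ s) * h2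
  by_cases hF : 1 * s * σ s ∈ F₀
  · have h1 := hone _ hF (by rw [map_mul, map_mul, map_one, hσ.involutive]; ring)
      (mul_ne_zero (mul_ne_zero one_ne_zero hs0) fun e => hs0 ((map_eq_zero σ).mp e))
    exact tv_unique (h1 ▸ h3) ht
  · refine absurd (full_of_irrational D hu0 hu huu hN hF fun k hk => ?_) hfull
    rw [tv_unique hk h3, ht']
    exact mul_mem (mul_mem g.2 htM) (inv_mem g.2)

theorem elation_core {u : Fin 3 → F} (hu0 : u ≠ 0) (hu : Rv F₀ P u) (huu : hermForm 3 F q u u = 0)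
    {t : GL (Fin 3) F} (ht : Tv q t u 1) {g : GL (Fin 3) F} (hg : g ∈ M) :
    t * g * t⁻¹ * g⁻¹ ∈ core M := by
  obtain ⟨htM, -, hiso⟩ := elation_isolated D h4 hfull hu0 hu huu ht
  exact ⟨_, Cfsg.Agent.Char.zStar_isolated hiso ⟨g, hg⟩, rfl⟩

/-- A rational unipotent element fixing `u`. -/
theorem exists_unip {u e v : Fin 3 → F} (R : RFr q F₀ P u e v) :
    ∃ (n : GL (Fin 3) F) (m : F), n ∈ M ∧ n ∈ GU 3 F q ∧
      (∀ z, Rv F₀ P z → Rv F₀ P ((n : Matrix (Fin 3) (Fin 3) F) *ᵥ z)) ∧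
      (n : Matrix (Fin 3) (Fin 3) F) *ᵥ u = u ∧
      (n : Matrix (Fin 3) (Fin 3) F) *ᵥ e = e + (-hermForm 3 F q e e) • u ∧
      (n : Matrix (Fin 3) (Fin 3) F) *ᵥ v = v + e + m • u := by
  have hσ := D.sig
  have hs := sf hσ
  obtain ⟨h2, hiff, hone⟩ := four_facts D h4
  obtain ⟨ru, re, rv, Pp, hee⟩ := R
  obtain ⟨ν, hν⟩ : ∃ ν, ν = hermForm 3 F q e e := ⟨_, rfl⟩
  obtain ⟨m, hmF, hm⟩ := exists_rat_trace D (hν ▸ D.form _ _ re re) (by rw [hν, ← swp hσ])
  let Nl : (Fin 3 → F) →ₗ[F] (Fin 3 → F) :=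
    { toFun := fun z => z + hermForm 3 F q z u • (e + m • u) + (-hermForm 3 F q z e) • u
      map_add' := fun a b => by simp only [hs.add_left]; module
      map_smul' := fun c a => by simp only [hs.smul_left, RingHom.id_apply]; module }
  obtain ⟨Nm, hNm⟩ : ∃ Nm, Nm = LinearMap.toMatrix' Nl := ⟨_, rfl⟩
  have hN : ∀ z, Nm *ᵥ z = z + hermForm 3 F q z u • (e + m • u) + (-hermForm 3 F q z e) • u :=
    fun z => hNm ▸ LinearMap.toMatrix'_mulVec Nl z
  have hN4 : Nm * Nm * (Nm * Nm) = 1 := Matrix.ext_of_mulVec_single fun j => by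
    simp only [← Matrix.mulVec_mulVec, Matrix.one_mulVec]
    generalize Pi.single (M := fun _ => F) j 1 = z
    simp only [hN, hs.add_left, hs.smul_left, Pp.uu, Pp.ue, orth_swp hσ Pp.ue, ← hν]
    match_scalars
    · ring
    · linear_combination (2 * hermForm 3 F q z u) * h2
    · linear_combination (2 * hermForm 3 F q z u * m - 3 * hermForm 3 F q z u * ν - 2 * hermForm 3 F q z e) * h2
  have hNdet : Nm.det = 1 := by
    have h := congrArg Matrix.det hN4
    simp only [Matrix.det_mul, Matrix.det_one] at h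
    have : (Nm.det - 1) ^ 4 = 0 := by
      linear_combination h + (-2 * Nm.det ^ 3 + 3 * Nm.det ^ 2 - 2 * Nm.det + 1) * h2
    exact sub_eq_zero.mp (pow_eq_zero_iff (n := 4) (by norm_num) |>.mp this)
  let n : GL (Fin 3) F := GeneralLinearGroup.mkOfDetNeZero Nm (by rw [hNdet]; exact one_ne_zero)
  have hn : ∀ z, (n : Matrix (Fin 3) (Fin 3) F) *ᵥ z = z + hermForm 3 F q z u • (e + m • u) + (-hermForm 3 F q z e) • u :=
    hN
  have hnGU : n ∈ GU 3 F q := mem_GU_iff.mpr fun a b => by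
    simp only [hn, hs.add_left, hs.add_right, hs.smul_left, hs.smul_right, Pp.uu, Pp.ue, orth_swp hσ Pp.ue, ← hν,
      map_neg, ← swp hσ]
    linear_combination (hermForm 3 F q a u * hermForm 3 F q u b) * hm +
      (hermForm 3 F q a u * hermForm 3 F q u b * ν) * h2
  have hnR : ∀ z, Rv F₀ P z → Rv F₀ P ((n : Matrix (Fin 3) (Fin 3) F) *ᵥ z) := fun z hz => by
    rw [hn]
    exact (hz.add ((re.add (ru.smul hmF)).smul (D.form _ _ hz ru))).add (ru.smul (neg_mem (D.form _ _ hz re)))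
  refine ⟨n, m, D.base n ⟨hnGU, mem_specialLinear_iff.mpr hNdet⟩ hnR, hnGU, hnR, ?_, ?_, ?_⟩
  · rw [hn, Pp.uu, Pp.ue]; simp
  · rw [hn, orth_swp hσ Pp.ue, ← hν]; simp
  · rw [hn, Pp.vu, Pp.ve]; simp [add_assoc]

/-- The core meets the centraliser of an elation in scalars. -/
theorem cent_scalar {u e v : Fin 3 → F} (R : RFr q F₀ P u e v) (hu0 : u ≠ 0) {t : GL (Fin 3) F} (ht : Tv q t u 1)
    {x : GL (Fin 3) F} (hx : x ∈ core M) (hxt : x * t = t * x) : x ∈ scalars (Fin 3) F := by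
  have hσ := D.sig
  have hs := sf hσ
  obtain ⟨h2, hiff, hone⟩ := four_facts D h4
  have hdec := frame_dec D R
  obtain ⟨ru, re, rv, Pp, hee⟩ := R
  obtain ⟨ν, hν⟩ : ∃ ν, ν = hermForm 3 F q e e := ⟨_, rfl⟩
  have hee' : ν ≠ 0 := hν ▸ hee
  let Tri : GL (Fin 3) F → F → F → F → Prop := fun g a b d =>
    (g : Matrix (Fin 3) (Fin 3) F) *ᵥ u = a • u ∧ hermForm 3 F q ((g : Matrix (Fin 3) (Fin 3) F) *ᵥ e) u = 0 ∧
      hermForm 3 F q ((g : Matrix (Fin 3) (Fin 3) F) *ᵥ e) e = b * ν ∧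
      hermForm 3 F q ((g : Matrix (Fin 3) (Fin 3) F) *ᵥ v) u = d
  have htri : ∀ g ∈ GU 3 F q, ∀ a : F, (g : Matrix (Fin 3) (Fin 3) F) *ᵥ u = a • u → ∃ b d, Tri g a b d := by
    intro g hg a ha
    refine ⟨hermForm 3 F q ((g : Matrix (Fin 3) (Fin 3) F) *ᵥ e) e / ν, _, ha, ?_, (div_mul_cancel₀ _ hee').symm, rfl⟩
    have h := mem_GU_iff.mp hg e u
    rw [ha, hs.smul_right, orth_swp hσ Pp.ue] at h
    refine (mul_eq_zero.mp h).resolve_left fun e0 => ?_
    rw [(map_eq_zero σ).mp e0, zero_smul] at ha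
    exact hu0 (gl_mulVec_injective g (ha.trans (Matrix.mulVec_zero _).symm))
  have hexp : ∀ g a b d, Tri g a b d →
      (g : Matrix (Fin 3) (Fin 3) F) *ᵥ e = hermForm 3 F q ((g : Matrix (Fin 3) (Fin 3) F) *ᵥ e) v • u + b • e ∧
        (g : Matrix (Fin 3) (Fin 3) F) *ᵥ v = hermForm 3 F q ((g : Matrix (Fin 3) (Fin 3) F) *ᵥ v) v • u +
          (hermForm 3 F q ((g : Matrix (Fin 3) (Fin 3) F) *ᵥ v) e / ν) • e + d • v := by
    intro g a b d ⟨h1, h2, h3, h5⟩
    refine ⟨?_, ?_⟩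
    · have := hdec ((g : Matrix (Fin 3) (Fin 3) F) *ᵥ e)
      rwa [h2, h3, ← hν, mul_div_cancel_right₀ _ hee', zero_smul, add_zero] at this
    · have := hdec ((g : Matrix (Fin 3) (Fin 3) F) *ᵥ v)
      rwa [h5, ← hν] at this
  have hmul : ∀ g h a b d a' b' d', Tri g a b d → Tri h a' b' d' → Tri (g * h) (a * a') (b * b') (d * d') := by
    intro g h a b d a' b' d' hg hh
    obtain ⟨e1, e2⟩ := hexp h a' b' d' hh
    obtain ⟨g1, g2, g3, g5⟩ := hg
    refine ⟨?_, ?_, ?_, ?_⟩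
    · rw [gl_mul_mulVec, hh.1, Matrix.mulVec_smul, g1, smul_smul, mul_comm]
    · rw [gl_mul_mulVec, e1]
      simp [Matrix.mulVec_add, Matrix.mulVec_smul, hs.add_left, hs.smul_left, g1, g2, Pp.uu]
    · rw [gl_mul_mulVec, e1]
      simp [Matrix.mulVec_add, Matrix.mulVec_smul, hs.add_left, hs.smul_left, g1, g3, Pp.ue]
      ring
    · rw [gl_mul_mulVec, e2]
      simp [Matrix.mulVec_add, Matrix.mulVec_smul, hs.add_left, hs.smul_left, g1, g2, g5, Pp.uu]
      ring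
  have huniq : ∀ g a b d a' b' d', Tri g a b d → Tri g a' b' d' → a = a' ∧ b = b' ∧ d = d' :=
    fun g a b d a' b' d' hg hh => ⟨smul_left_injective F hu0 (hg.1.symm.trans hh.1),
      mul_right_cancel₀ hee' (hg.2.2.1.symm.trans hh.2.2.1), hg.2.2.2.symm.trans hh.2.2.2⟩
  have hone' : Tri 1 1 1 1 := by simp [Tri, orth_swp hσ Pp.ue, Pp.vu, hν]
  have hspan : ∀ g h : GL (Fin 3) F, (g : Matrix (Fin 3) (Fin 3) F) *ᵥ u = (h : Matrix (Fin 3) (Fin 3) F) *ᵥ u →
      (g : Matrix (Fin 3) (Fin 3) F) *ᵥ e = (h : Matrix (Fin 3) (Fin 3) F) *ᵥ e →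
      (g : Matrix (Fin 3) (Fin 3) F) *ᵥ v = (h : Matrix (Fin 3) (Fin 3) F) *ᵥ v → g = h := fun g h a b c =>
    gl_ext_mulVec fun z => by
      rw [hdec z]; simp only [Matrix.mulVec_add, Matrix.mulVec_smul, a, b, c]
  have hfour : ∀ g a, Tri g a a a → ∀ z, (((g * g) * (g * g) : GL (Fin 3) F) : Matrix (Fin 3) (Fin 3) F) *ᵥ z =
      (a * a * (a * a)) • z := by
    intro g a hg z
    obtain ⟨e1, e2⟩ := hexp g a a a hg
    obtain ⟨ρ, hρ⟩ : ∃ ρ, ρ = hermForm 3 F q ((g : Matrix (Fin 3) (Fin 3) F) *ᵥ e) v := ⟨_, rfl⟩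
    obtain ⟨π, hπ⟩ : ∃ π, π = hermForm 3 F q ((g : Matrix (Fin 3) (Fin 3) F) *ᵥ v) v := ⟨_, rfl⟩
    obtain ⟨τ, hτ⟩ : ∃ τ, τ = hermForm 3 F q ((g : Matrix (Fin 3) (Fin 3) F) *ᵥ v) e / ν := ⟨_, rfl⟩
    rw [← hρ] at e1; rw [← hπ, ← hτ] at e2
    conv_lhs => rw [hdec z]
    conv_rhs => rw [hdec z]
    simp only [gl_mul_mulVec, Matrix.mulVec_add, Matrix.mulVec_smul, hg.1, e1, e2, smul_add, smul_smul]
    match_scalars
    · linear_combination (2 * a * a * a * π * hermForm 3 F q z u + 3 * a * a * τ * ρ * hermForm 3 F q z u +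
        2 * a * a * a * ρ * (hermForm 3 F q z e / hermForm 3 F q e e)) * h2
    · linear_combination (2 * a * a * a * τ * hermForm 3 F q z u) * h2
    · ring
  have hodd : ∀ g ∈ core M, ∀ s : F, s ≠ 0 →
      (∀ z, (((g * g) * (g * g) : GL (Fin 3) F) : Matrix (Fin 3) (Fin 3) F) *ᵥ z = s • z) →
      ∃ l : F, (s = 1 → l = 1) ∧ ∀ z, (g : Matrix (Fin 3) (Fin 3) F) *ᵥ z = l • z := by
    intro g hg s hs0 hgs
    obtain ⟨i, hi⟩ := core_odd hg
    have hpow : ∀ j z, ((((g * g) * (g * g)) ^ j : GL (Fin 3) F) : Matrix (Fin 3) (Fin 3) F) *ᵥ z = s ^ j • z := by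
      intro j
      induction j with
      | zero => simp
      | succ j ih => intro z; rw [pow_succ, gl_mul_mulVec, hgs, Matrix.mulVec_smul, ih, smul_smul, pow_succ, mul_comm]
    have he : g * ((g * g) * (g * g)) ^ (i * i + i) = 1 := by
      rw [show (g * g) * (g * g) = g ^ 4 by simp [pow_succ, mul_assoc], ← pow_mul, ← pow_succ',
        show 4 * (i * i + i) + 1 = orderOf g * orderOf g by rw [hi]; ring, pow_mul, pow_orderOf_eq_one, one_pow]
    refine ⟨(s ^ (i * i + i))⁻¹, fun h => by simp [h], fun z => ?_⟩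
    have h := congrArg (fun m : GL (Fin 3) F => (m : Matrix (Fin 3) (Fin 3) F) *ᵥ z) he
    simp only [gl_mul_mulVec, hpow, Matrix.mulVec_smul, Units.val_one, Matrix.one_mulVec] at h
    conv_rhs => rw [← h]
    rw [inv_smul_smul₀ (pow_ne_zero _ hs0)]
  -- a rational unipotent element
  obtain ⟨n, m, hnM, hnGU, -, hnu', hne, hnv⟩ := exists_unip D h4 hfull ⟨ru, re, rv, Pp, hee⟩
  rw [← hν] at hne
  have hnu : (n : Matrix (Fin 3) (Fin 3) F) *ᵥ u = (1 : F) • u := by rw [hnu', one_smul]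
  have hTn : Tri n 1 1 1 := by
    refine ⟨hnu, ?_, ?_, ?_⟩
    · rw [hne, hs.add_left, hs.smul_left, orth_swp hσ Pp.ue, Pp.uu]; ring
    · rw [hne, hs.add_left, hs.smul_left, ← hν, Pp.ue]; ring
    · rw [hnv, hs.add_left, hs.add_left, hs.smul_left, Pp.vu, orth_swp hσ Pp.ue, Pp.uu]; ring
  -- the element
  have hxU := (D.le (core_le hx)).1
  obtain ⟨a, ha⟩ : ∃ a, (x : Matrix (Fin 3) (Fin 3) F) *ᵥ u = a • u := by
    have h' := tv_conj hxU ht
    rw [hxt, mul_inv_cancel_right] at h'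
    obtain ⟨s, hs0, hs'⟩ := tv_line D hu0 one_ne_zero ht h'
    refine ⟨s⁻¹, ?_⟩
    conv_rhs => arg 2; rw [hs']
    rw [inv_smul_smul₀ hs0]
  obtain ⟨b, d, hT⟩ := htri x hxU a ha
  have ha0 : a ≠ 0 := fun e0 => hu0 (gl_mulVec_injective x ((by rw [ha, e0, zero_smul] :
    (x : Matrix (Fin 3) (Fin 3) F) *ᵥ u = 0).trans (Matrix.mulVec_zero _).symm))
  have hinv : ∀ g a, g ∈ GU 3 F q → a ≠ 0 → (g : Matrix (Fin 3) (Fin 3) F) *ᵥ u = a • u →
      ∃ b' d', Tri g⁻¹ a⁻¹ b' d' := fun g a hg ha' hga => htri g⁻¹ (inv_mem hg) _ (by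
    conv_lhs => rw [← inv_smul_smul₀ ha' u, Matrix.mulVec_smul, ← hga, gl_inv_mulVec_cancel])
  obtain ⟨b', d', hT'⟩ := hinv x a hxU ha0 ha
  obtain ⟨b'', d'', hT''⟩ := hinv n 1 hnGU one_ne_zero hnu
  rw [inv_one] at hT''
  have hy : x * n * x⁻¹ * n⁻¹ = 1 := by
    obtain ⟨-, hb, hd⟩ := huniq 1 _ _ _ _ _ _ (by simpa using hmul _ _ _ _ _ _ _ _ hT hT') hone'
    obtain ⟨-, hb1, hd1⟩ := huniq 1 _ _ _ _ _ _ (by simpa using hmul _ _ _ _ _ _ _ _ hTn hT'') hone'
    have hTy := hmul _ _ _ _ _ _ _ _ (hmul _ _ _ _ _ _ _ _ (hmul _ _ _ _ _ _ _ _ hT hTn) hT') hT''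
    rw [mul_one, mul_one, mul_one, mul_one, mul_inv_cancel₀ ha0, hb, hd, one_mul, one_mul,
      show b'' = 1 by simpa using hb1, show d'' = 1 by simpa using hd1] at hTy
    have hcore : x * n * x⁻¹ * n⁻¹ ∈ core M := by
      rw [show x * n * x⁻¹ * n⁻¹ = x * (n * x⁻¹ * n⁻¹) by group]
      exact mul_mem hx (core_conj hnM (inv_mem hx))
    obtain ⟨l, hl, hlz⟩ := hodd _ hcore 1 one_ne_zero fun z => by simpa using hfour _ 1 hTy z
    exact gl_ext_mulVec fun z => by rw [hlz, hl rfl, one_smul, Units.val_one, Matrix.one_mulVec]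
  have hxn : x * n = n * x := by
    rw [mul_inv_eq_one, mul_inv_eq_iff_eq_mul] at hy
    exact hy
  obtain ⟨e1, e2⟩ := hexp x a b d hT
  have c1 := congrArg (fun g : GL (Fin 3) F => hermForm 3 F q ((g : Matrix (Fin 3) (Fin 3) F) *ᵥ e) v) hxn
  simp only [gl_mul_mulVec] at c1
  rw [hne] at c1
  conv_rhs at c1 => rw [e1]
  simp only [Matrix.mulVec_add, Matrix.mulVec_smul, ha, hnu, hne, hs.add_left, hs.smul_left, Pp.uv,
    orth_swp hσ Pp.ve] at c1
  have hab : a = b := mul_left_cancel₀ hee' (by linear_combination -c1)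
  have c2 := congrArg (fun g : GL (Fin 3) F => hermForm 3 F q ((g : Matrix (Fin 3) (Fin 3) F) *ᵥ v) e) hxn
  simp only [gl_mul_mulVec] at c2
  rw [hnv] at c2
  conv_rhs at c2 => rw [e2]
  simp only [Matrix.mulVec_add, Matrix.mulVec_smul, ha, hnu, hne, hnv, hs.add_left, hs.smul_left, Pp.ue, Pp.ve,
    hT.2.2.1, ← hν] at c2
  have hbd : b = d := mul_right_cancel₀ hee' (by linear_combination (norm := (field_simp; ring1)) c2)
  rw [← hbd, ← hab] at hT
  obtain ⟨l, -, hlz⟩ := hodd x hx _ (mul_ne_zero (mul_ne_zero ha0 ha0) (mul_ne_zero ha0 ha0)) (hfour x a hT)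
  have hl0 : l ≠ 0 := fun e0 => hu0 (gl_mulVec_injective x (((hlz u).trans (by rw [e0, zero_smul])).trans (Matrix.mulVec_zero _).symm))
  exact (mem_scalars_iff _).mpr ⟨Units.mk0 l hl0, Matrix.ext_of_mulVec_single fun j => by
    rw [hlz, Units.val_mk0, Matrix.smul_mulVec, Matrix.one_mulVec]⟩

/-- The core carries rational isotropic lines to rational lines. -/
theorem core_rational {u e v : Fin 3 → F} (R : RFr q F₀ P u e v) (hu0 : u ≠ 0) {t : GL (Fin 3) F} (ht : Tv q t u 1)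
    {x : GL (Fin 3) F} (hx : x ∈ core M) :
    ∃ l : F, l ≠ 0 ∧ Rv F₀ P (l • ((x : Matrix (Fin 3) (Fin 3) F) *ᵥ u)) := by
  have hσ := D.sig
  have hs := sf hσ
  obtain ⟨h2, hiff, hone⟩ := four_facts D h4
  have hc1 : (1 : F) + σ 1 = 0 := by rw [map_one]; linear_combination h2
  have hdec := frame_dec D R
  have R' := R
  obtain ⟨ru, re, rv, Pp, hee⟩ := R
  obtain ⟨htM, htt, -⟩ := elation_isolated D h4 hfull hu0 ru Pp.uu ht
  have hti : t⁻¹ = t := inv_eq_of_mul_eq_one_right htt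
  have hv0 : v ≠ 0 := fun e0 => one_ne_zero (α := F) (by
    rw [← Pp.vu, e0, ← zero_smul F v, hs.smul_left, zero_mul])
  obtain ⟨t₁, -, ht₁⟩ := hσ.exists_transvection Pp.vv hc1
  obtain ⟨ht₁M, ht₁t₁, -⟩ := elation_isolated D h4 hfull hv0 rv Pp.vv ht₁
  have hinv : ∀ g ∈ core M, t * g * t * g ∈ scalars (Fin 3) F := by
    intro g hg
    obtain ⟨i, hi⟩ : Odd (orderOf (g * t * g⁻¹ * t)) := core_odd (M := M) (by
      rw [show g * t * g⁻¹ * t = g * (t * g⁻¹ * t⁻¹) by rw [hti]; group]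
      exact mul_mem hg (core_conj htM (inv_mem hg)))
    obtain ⟨w, hw⟩ : ∃ w, w = (g * t * g⁻¹ * t) ^ (i + 1) := ⟨_, rfl⟩
    have hwc : w ∈ core M := hw ▸ pow_mem (by
      rw [show g * t * g⁻¹ * t = g * (t * g⁻¹ * t⁻¹) by rw [hti]; group]
      exact mul_mem hg (core_conj htM (inv_mem hg))) _
    have hww : w * w = g * t * g⁻¹ * t := by
      rw [hw, ← pow_add, show i + 1 + (i + 1) = orderOf (g * t * g⁻¹ * t) + 1 by omega, pow_succ,
        pow_orderOf_eq_one, one_mul]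
    have hwt : t * w * t = w⁻¹ := by
      rw [hw, ← inv_pow]
      conv_lhs => arg 2; rw [← hti]
      rw [← conj_pow]
      congr 1
      simp only [_root_.mul_inv_rev, inv_inv, hti, mul_assoc, htt, mul_one]
    obtain ⟨c, hc⟩ : ∃ c, c = w⁻¹ * g := ⟨_, rfl⟩
    have hsc : c ∈ scalars (Fin 3) F := cent_scalar D h4 hfull R' hu0 ht (hc ▸ mul_mem (inv_mem hwc) hg) (by
      have e1 : g * t * g⁻¹ = w * t * w⁻¹ := by
        calc g * t * g⁻¹ = (g * t * g⁻¹ * t) * t := by rw [mul_assoc _ t t, htt, mul_one]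
          _ = w * (w * t) := by rw [← hww, mul_assoc]
          _ = w * (t * w⁻¹) := by rw [← hwt]; simp only [← mul_assoc, htt, one_mul]
          _ = w * t * w⁻¹ := by rw [mul_assoc]
      rw [hc]
      calc w⁻¹ * g * t = w⁻¹ * (g * t * g⁻¹) * g := by group
        _ = t * (w⁻¹ * g) := by rw [e1]; group)
    have hg' : g = w * c := by rw [hc, mul_inv_cancel_left]
    have : t * g * t * g = c * c := by
      rw [hg', ← mul_assoc t w c, mul_assoc (t * w) c t, scalar_comm D hsc t, ← mul_assoc (t * w) t c, hwt,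
        mul_assoc, ← mul_assoc c w c, scalar_comm D hsc w]
      group
    rw [this]; exact mul_mem hsc hsc
  -- commutators in the core are scalar
  have hcomm : ∀ a ∈ core M, ∀ b ∈ core M, a * b * a⁻¹ * b⁻¹ ∈ scalars (Fin 3) F := by
    intro a ha b hb
    have h1 := hinv a ha
    have h3 := hinv b hb
    have h5 := hinv (a * b) (mul_mem ha hb)
    obtain ⟨s, hs'⟩ : ∃ s, s = t * a * t * a := ⟨_, rfl⟩
    obtain ⟨s₂, hs₂⟩ : ∃ s₂, s₂ = t * b * t * b := ⟨_, rfl⟩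
    rw [← hs'] at h1; rw [← hs₂] at h3
    have e : t * (a * b) * t * (a * b) = (s * s₂) * (a⁻¹ * b⁻¹ * a * b) := by
      have ea : t * a * t = s * a⁻¹ := by rw [hs']; group
      have eb : t * b * t = s₂ * b⁻¹ := by rw [hs₂]; group
      calc t * (a * b) * t * (a * b) = (t * a * t) * (t * b * t) * (a * b) := by
            simp only [mul_assoc]; rw [← mul_assoc t t, htt, one_mul]
        _ = s * a⁻¹ * s₂ * b⁻¹ * (a * b) := by rw [ea, eb]; group
        _ = _ := by rw [mul_assoc s a⁻¹ s₂, ← scalar_comm D h3 a⁻¹]; group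
    rw [e] at h5
    have h6 : a⁻¹ * b⁻¹ * a * b ∈ scalars (Fin 3) F := by
      have := mul_mem (inv_mem (mul_mem h1 h3)) h5
      rwa [inv_mul_cancel_left] at this
    have h7 : a * b * a⁻¹ * b⁻¹ = a⁻¹ * b⁻¹ * a * b := by
      have e1 : a * b * a⁻¹ * b⁻¹ = (b * a) * (a⁻¹ * b⁻¹ * a * b) * (b * a)⁻¹ := by group
      rw [e1, ← scalar_comm D h6 (b * a), mul_inv_cancel_right]
    rw [h7]; exact h6
  -- the element of order three
  obtain ⟨y, hy⟩ : ∃ y, y = t * t₁ := ⟨_, rfl⟩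
  have hyu : (y : Matrix (Fin 3) (Fin 3) F) *ᵥ u = v := by
    rw [hy, gl_mul_mulVec, ht₁ u, ht, hs.add_left, hs.smul_left, Pp.uv, Pp.uu, Pp.vu]
    match_scalars
    · linear_combination h2
    · ring
  have hyv : (y : Matrix (Fin 3) (Fin 3) F) *ᵥ v = u + v := by
    rw [hy, gl_mul_mulVec, ht₁ v, Pp.vv, mul_zero, zero_smul, add_zero, ht, Pp.vu, mul_one, one_smul, add_comm]
  have hye : (y : Matrix (Fin 3) (Fin 3) F) *ᵥ e = e := by
    rw [hy, gl_mul_mulVec, ht₁ e, orth_swp hσ Pp.ve, mul_zero, zero_smul, add_zero, ht, orth_swp hσ Pp.ue, mul_zero,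
      zero_smul, add_zero]
  have hy3 : y * y * y = 1 := gl_ext_mulVec fun z => by
    conv_lhs => rw [hdec z]
    conv_rhs => rw [Units.val_one, Matrix.one_mulVec, hdec z]
    simp only [gl_mul_mulVec, Matrix.mulVec_add, Matrix.mulVec_smul, hyu, hyv, hye]
    match_scalars
    · linear_combination (hermForm 3 F q z v + hermForm 3 F q z u) * h2
    · linear_combination hermForm 3 F q z u * h2
    · ring
  have hyc : y ∈ core M := by
    have h := elation_core D h4 hfull hu0 ru Pp.uu ht ht₁M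
    rw [hti, inv_eq_of_mul_eq_one_right ht₁t₁] at h
    have e : t * t₁ * t * t₁ = y * y := by rw [hy]; group
    rw [e] at h
    have := inv_mem h
    rwa [inv_eq_of_mul_eq_one_right hy3] at this
  have hanis : ∀ g ∈ core M, ∃ l : F, l ≠ 0 ∧ Rv F₀ P (l • ((g : Matrix (Fin 3) (Fin 3) F) *ᵥ e)) := by
    intro g hg
    obtain ⟨s, hs'⟩ := (mem_scalars_iff _).mp (hcomm g hg y hyc)
    obtain ⟨w, hw⟩ : ∃ w, w = (g : Matrix (Fin 3) (Fin 3) F) *ᵥ e := ⟨_, rfl⟩
    rw [← hw]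
    have hw0 : w ≠ 0 := fun e0 => hee (by
      have : e = 0 := gl_mulVec_injective g (hw.symm.trans (e0.trans (Matrix.mulVec_zero _).symm))
      rw [this, ← zero_smul F e, hs.smul_left, zero_mul])
    obtain ⟨μ, hμ⟩ : ∃ μ : F, μ = (s : F)⁻¹ := ⟨_, rfl⟩
    have hyw : (y : Matrix (Fin 3) (Fin 3) F) *ᵥ w = μ • w := by
      obtain ⟨cc, hcc⟩ : ∃ cc, cc = g * y * g⁻¹ * y⁻¹ := ⟨_, rfl⟩
      rw [← hcc] at hs'
      have he2 : g * y = cc * (y * g) := by rw [hcc]; group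
      have h := congrArg (fun m : GL (Fin 3) F => (m : Matrix (Fin 3) (Fin 3) F) *ᵥ e) he2
      rw [gl_mul_mulVec, gl_mul_mulVec, gl_mul_mulVec, hye, hs', Matrix.smul_mulVec, Matrix.one_mulVec, ← hw] at h
      rw [hμ]
      conv_rhs => arg 2; rw [h]
      rw [inv_smul_smul₀ s.ne_zero]
    have hμ3 : μ * μ * μ = 1 := by
      have h := congrArg (fun m : GL (Fin 3) F => (m : Matrix (Fin 3) (Fin 3) F) *ᵥ w) hy3
      simp only [gl_mul_mulVec, hyw, Matrix.mulVec_smul, smul_smul, Units.val_one, Matrix.one_mulVec] at h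
      exact (mul_assoc μ μ μ).trans (smul_left_injective F hw0 (h.trans (one_smul F w).symm))
    have hμF : μ ∈ F₀ := (hiff μ).mpr (by linear_combination μ * hμ3)
    have hwd := hdec w
    have h := hyw
    rw [hwd] at h
    simp only [Matrix.mulVec_add, Matrix.mulVec_smul, hyu, hyv, hye] at h
    have a1 := congrArg (fun z => hermForm 3 F q z v) h
    have a2 := congrArg (fun z => hermForm 3 F q z e) h
    have a3 := congrArg (fun z => hermForm 3 F q z u) h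
    simp only [hs.add_left, hs.smul_left, Pp.uu, Pp.vv, Pp.uv, Pp.vu, Pp.ue, Pp.ve, orth_swp hσ Pp.ue,
      orth_swp hσ Pp.ve, mul_zero, mul_one, add_zero, zero_add] at a1 a2 a3
    rw [div_mul_cancel₀ _ hee] at a2
    obtain ⟨p, hp⟩ : ∃ p, p = hermForm 3 F q w v := ⟨_, rfl⟩
    obtain ⟨q', hq'⟩ : ∃ q', q' = hermForm 3 F q w u := ⟨_, rfl⟩
    obtain ⟨k, hk⟩ : ∃ k, k = hermForm 3 F q w e := ⟨_, rfl⟩
    rw [← hp, ← hq'] at a1 a3; rw [← hk] at a2
    rw [← hp, ← hq', ← hk] at hwd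
    by_cases hμ1 : μ = 1
    · have hp0 : p = 0 := by rw [hμ1] at a1 a3; linear_combination a3
      have hq0 : q' = 0 := by rw [hμ1, hp0] at a1; linear_combination a1
      rw [hp0, hq0, zero_smul, zero_smul, zero_add, add_zero] at hwd
      have hk0 : k / hermForm 3 F q e e ≠ 0 := fun e0 => hw0 (by rw [hwd, e0, zero_smul])
      refine ⟨_, inv_ne_zero hk0, ?_⟩
      rw [hwd, inv_smul_smul₀ hk0]; exact re
    · have hk0 : k = 0 := by
        have : (μ - 1) * k = 0 := by linear_combination -a2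
        exact (mul_eq_zero.mp this).resolve_left (sub_ne_zero.mpr hμ1)
      rw [hk0, zero_div, zero_smul, add_zero, a1, mul_comm μ p, ← smul_smul, ← smul_add] at hwd
      have hp0 : p ≠ 0 := fun e0 => hw0 (by rw [hwd, e0, zero_smul])
      refine ⟨_, inv_ne_zero hp0, ?_⟩
      rw [hwd, inv_smul_smul₀ hp0]; exact ru.add (rv.smul hμF)
  -- a second anisotropic vector
  obtain ⟨n, -, hnM, -, hnR, -, hne, -⟩ := exists_unip D h4 hfull R'
  obtain ⟨l₁, hl₁, hr₁⟩ := hanis x hx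
  obtain ⟨l₂, hl₂, hr₂⟩ := hanis (n⁻¹ * x * n) (by
    simpa using core_conj (inv_mem hnM) hx)
  obtain ⟨l₃, hl₃, hr₃⟩ : ∃ l₃ : F, l₃ ≠ 0 ∧
      Rv F₀ P (l₃ • ((x : Matrix (Fin 3) (Fin 3) F) *ᵥ (e + (-hermForm 3 F q e e) • u))) := by
    refine ⟨l₂, hl₂, ?_⟩
    have h := hnR _ hr₂
    rwa [Matrix.mulVec_smul, gl_mul_mulVec, gl_mul_mulVec, gl_mulVec_inv_cancel, hne] at h
  have hxU := (D.le (core_le hx)).1
  obtain ⟨ν, hν⟩ : ∃ ν, ν = hermForm 3 F q e e := ⟨_, rfl⟩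
  rw [← hν] at hr₃
  have hνF : ν ∈ F₀ := hν ▸ D.form _ _ re re
  have k1 : l₁ * σ l₁ * ν ∈ F₀ := by
    have := D.form _ _ hr₁ hr₁
    rwa [hs.smul_left, hs.smul_right, mem_GU_iff.mp hxU, ← hν, ← mul_assoc] at this
  have k2 : l₁ * σ l₃ * ν ∈ F₀ := by
    have := D.form _ _ hr₁ hr₃
    rwa [hs.smul_left, hs.smul_right, mem_GU_iff.mp hxU, hs.add_right, hs.smul_right, orth_swp hσ Pp.ue, mul_zero,
      add_zero, ← hν, ← mul_assoc] at this
  have hν0 : ν ≠ 0 := hν ▸ hee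
  have hq : l₃ / l₁ ∈ F₀ → Rv F₀ P (l₃ • ((x : Matrix (Fin 3) (Fin 3) F) *ᵥ u)) := fun hq => by
    have h1 := hr₁.smul hq
    rw [smul_smul, div_mul_cancel₀ _ hl₁] at h1
    have h3 := (h1.add (hr₃.smul (neg_mem (one_mem F₀)))).smul (inv_mem hνF)
    convert h3 using 1
    rw [Matrix.mulVec_add, Matrix.mulVec_smul]
    match_scalars <;> field_simp <;> ring
  refine ⟨l₃, hl₃, hq ?_⟩
  have := div_mem (D.stab _ k2) (D.stab _ k1)
  convert this using 1
  have hσl : σ l₁ ≠ 0 := fun e0 => hl₁ ((map_eq_zero σ).mp e0)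
  rw [map_mul, map_mul, map_mul, map_mul, hσ.involutive, hσ.involutive]
  have : σ ν ≠ 0 := fun e0 => hν0 ((map_eq_zero σ).mp e0)
  field_simp

end Cfsg.Agent.Classical.UThree
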