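/-
The subfield subgroups of odd prime index are maximal in the special unitary group of degree three.
-/
import Cfsg.Agent.Lib.Classical.UThree.SubTwo
import Cfsg.Agent.Lib.Classical.USubfieldMaximal

set_option autoImplicit false
set_option linter.unusedSectionVars false

namespace Cfsg.Agent.Classical.UThree

open Matrix Cfsg.Geo
open Cfsg.Agent.Classical
open Cfsg.Agent.Classical.UOver (Tv tv_unique tv_conj tv_smul tv_mem)

variable {F : Type*} [Field F] [Fintype F] {q : ℕ} {σ : F ≃+* F}

theorem subfield_isMaximal (hσ : IsUSigma q σ) (h3 : 3 ≤ q) {F₀ : Subfield F} {r : ℕ} (hr : r.Prime) (hro : Odd r)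
    (hcard : Fintype.card F = Nat.card F₀ ^ r) (P : GL (Fin 3) F)
    (hP : IsFormRationalStructure (hermForm 3 F q) F₀ 1 P) :
    IsMaximalIn (suGL 3 F q) (subfieldSubgroup F₀ P ⊓ suGL 3 F q) := by
  classical
  refine ⟨lt_of_le_of_ne inf_le_right fun e => hσ.not_su_le_subfield_three le_rfl hr hcard P (inf_eq_right.mp e),
    fun K hK hKS => or_iff_not_imp_left.mpr fun hne => le_antisymm hKS ?_⟩
  obtain ⟨hnt, -⟩ := USub.field_facts hσ hr hro hcard
  have D : SData q σ F₀ r P K :=
    { sig := hσ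
      three := h3
      le := hKS
      hr := hr
      hro := hro
      card := hcard
      stab := fun x hx => by rw [hσ.apply_eq]; exact pow_mem hx _
      nt := hnt
      form := fun x y hx hy => by
        have h := hP _ _ hx hy
        rwa [gl_mulVec_inv_cancel, gl_mulVec_inv_cancel, one_mul] at h
      base := fun g hg hpres => by
        refine hK ⟨mem_subfieldSubgroup_of_scaled one_ne_zero fun i j => ?_, hg⟩
        have h := hpres _ (rv_col j) i
        rw [← gl_mul_mulVec, ← gl_mul_mulVec, Matrix.mulVec_single_one] at h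
        simpa [mul_assoc] using h }
  by_contra hfull
  refine hne (le_antisymm (le_inf (fun g hg => mem_of_lines D (D.le hg).1 fun w hw0 hw hww => ?_) hKS) hK)
  by_cases hbig : 3 ≤ Nat.card (F₀.comap (fixedField σ).subtype)
  · exact image_rational D hbig hfull hg hw0 hw hww
  have h4 : Nat.card (F₀.comap (fixedField σ).subtype) = 2 := by
    have : 1 < Nat.card (F₀.comap (fixedField σ).subtype) := Finite.one_lt_card
    omega
  have hs := sf hσ
  obtain ⟨h2, -, -⟩ := four_facts D h4
  obtain ⟨e, v, R⟩ := (exists_frame D).2 w hw0 hw hww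
  obtain ⟨t, -, ht⟩ := hσ.exists_transvection hww (c := 1) (by rw [map_one]; linear_combination h2)
  obtain ⟨htM, htt, -⟩ := elation_isolated D h4 hfull hw0 hw hww ht
  have hti : t⁻¹ = t := inv_eq_of_mul_eq_one_right htt
  obtain ⟨x, hx⟩ : ∃ x, x = g * t * g⁻¹ * t := ⟨_, rfl⟩
  have hxc : x ∈ core K := by
    have := inv_mem (elation_core D h4 hfull hw0 hw hww ht hg)
    rw [hx]; convert this using 1
    rw [hti]; simp only [_root_.mul_inv_rev, inv_inv, hti, mul_assoc]
  obtain ⟨i, hi⟩ := core_odd hxc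
  obtain ⟨y, hy⟩ : ∃ y, y = x ^ (i + 1) := ⟨_, rfl⟩
  have hyc : y ∈ core K := hy ▸ pow_mem hxc _
  have hyy : y * y = x := by
    rw [hy, ← pow_add, show i + 1 + (i + 1) = orderOf x + 1 by omega, pow_succ, pow_orderOf_eq_one, one_mul]
  have hxt : t * x * t = x⁻¹ := by
    rw [hx]; simp only [_root_.mul_inv_rev, inv_inv, hti, mul_assoc, htt, mul_one]
  have hyt : t * y * t = y⁻¹ := by
    have h := conj_pow (a := t) (b := x) (i := i + 1)
    rw [hti, hxt, inv_pow, ← hy] at h
    exact h.symm
  have hconj : g * t * g⁻¹ = y * t * y⁻¹ := by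
    calc g * t * g⁻¹ = x * t := by rw [hx, mul_assoc _ t t, htt, mul_one]
      _ = y * (y * t) := by rw [← hyy, mul_assoc]
      _ = y * (t * y⁻¹) := by rw [← hyt]; simp only [← mul_assoc, htt, one_mul]
      _ = y * t * y⁻¹ := by rw [mul_assoc]
  obtain ⟨s, hs0, hs'⟩ := tv_line D
    (show (g : Matrix (Fin 3) (Fin 3) F) *ᵥ w ≠ 0 from fun h =>
      hw0 (gl_mulVec_injective g (h.trans (Matrix.mulVec_zero _).symm)))
    one_ne_zero (tv_conj (D.le hg).1 ht) (hconj ▸ tv_conj (D.le (core_le hyc)).1 ht)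
  obtain ⟨l, hl, hr'⟩ := core_rational D h4 hfull R hw0 ht hyc
  refine ⟨l / s, div_ne_zero hl hs0, ?_⟩
  rwa [hs', smul_smul, div_mul_cancel₀ _ hs0]

end Cfsg.Agent.Classical.UThree
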